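import Mathlib
import Groth.Prelude.Def_ModSite2
import Groth.Agent.Lib.Helper5.LTen.Assoc1
import Groth.Agent.Lib.Helper5.Misc.RDComp
import Groth.Agent.Lib.Helper5.Misc.TensorSES

/-!
# `ℰxt^q(E ⊗ F, G) ≅ ℋom(E, ℰxt^q(F, G))` when `ℋom(E, -)` is exact, on a ringed site (helper2)
-/

set_option autoImplicit false
set_option linter.unusedSectionVars false
set_option linter.style.haveILetI false
universe u

open CategoryTheory CategoryTheory.Limits Opposite

namespace Groth.Agent.Helper2.HomExt

open Groth.Agent.Lib.Helper5 Groth.Agent.Lib.Helper5.TenAssoc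

section gen

variable {A B : Type*} [Category A] [Abelian A] [Category B] [Abelian B]

/-- a left exact additive functor preserving epimorphisms is exact -/
theorem preservesFiniteColimits_of_preservesEpimorphisms (F : A ⥤ B) [F.Additive]
    [PreservesFiniteLimits F] [F.PreservesEpimorphisms] : PreservesFiniteColimits F :=
  (Functor.preservesFiniteColimits_iff_forall_exact_map_and_epi F).2 fun S hS =>
    ⟨((Functor.preservesFiniteLimits_iff_forall_exact_map_and_mono F).1 inferInstance S hS).1, by
      haveI := hS.epi_g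
      infer_instance⟩

end gen

variable {C : Type u} [SmallCategory C] {J : GrothendieckTopology C} {O : Sheaf J CommRingCat.{u}}

/-- `(- ⊗ E) ⊗ F ≅ - ⊗ (E ⊗ F)` -/
noncomputable def flipCompIso (E F : ModSite.Mod O) :
    (ModSite.tensorBi O).flip.obj E ⋙ (ModSite.tensorBi O).flip.obj F ≅
      (ModSite.tensorBi O).flip.obj (((ModSite.tensorBi O).obj E).obj F) :=
  NatIso.ofComponents (fun M => assocObj M E F) (fun f => assocObj_nat₁ f E F)

/-- `ℋom(E ⊗ F, -) ≅ ℋom(E, ℋom(F, -))` -/
noncomputable def sheafHomTensorIso (E F : ModSite.Mod O) [ModSite.HasSheafHom E]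
    [ModSite.HasSheafHom F] [ModSite.HasSheafHom (((ModSite.tensorBi O).obj E).obj F)] :
    ModSite.sheafHom (((ModSite.tensorBi O).obj E).obj F) ≅
      ModSite.sheafHom F ⋙ ModSite.sheafHom E :=
  conjugateIsoEquiv (ModSite.sheafHomAdj (((ModSite.tensorBi O).obj E).obj F))
    ((ModSite.sheafHomAdj E).comp (ModSite.sheafHomAdj F)) (flipCompIso E F)

/-- the internal hom only depends on the isomorphism class of the first variable -/
noncomputable def sheafHomCongr {M M' : ModSite.Mod O} [ModSite.HasSheafHom M]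
    [ModSite.HasSheafHom M'] (e : M ≅ M') : ModSite.sheafHom M ≅ ModSite.sheafHom M' :=
  conjugateIsoEquiv (ModSite.sheafHomAdj M) (ModSite.sheafHomAdj M')
    ((ModSite.tensorBi O).flip.mapIso e.symm)

variable [HasInjectiveResolutions (ModSite.Mod O)]

/-- **`ℰxt^q(E ⊗ F, G) ≅ ℋom(E, ℰxt^q(F, G))` when `ℋom(E, -)` preserves epimorphisms** -/
theorem nonempty_extSh_tensor_iso (E F : ModSite.Mod O) [ModSite.HasSheafHom E]
    [ModSite.HasSheafHom F] [ModSite.HasSheafHom (((ModSite.tensorBi O).obj E).obj F)]
    [(ModSite.sheafHom E).PreservesEpimorphisms] (G : ModSite.Mod O) (q : ℕ) :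
    Nonempty ((ModSite.extSh (((ModSite.tensorBi O).obj E).obj F) q).obj G ≅
      (ModSite.sheafHom E).obj ((ModSite.extSh F q).obj G)) := by
  haveI : PreservesFiniteLimits (ModSite.sheafHom E) := by
    haveI := (ModSite.sheafHomAdj E).rightAdjoint_preservesLimits
    infer_instance
  haveI := preservesFiniteColimits_of_preservesEpimorphisms (ModSite.sheafHom E)
  haveI : (ModSite.sheafHom E).PreservesHomology := inferInstance
  exact ⟨(Groth.Agent.Lib.Helper5.Misc.RDComp.natIso (sheafHomTensorIso E F) q).app G ≪≫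
    Groth.Agent.Lib.Helper5.Misc.RDComp.postIso (ModSite.sheafHom F) (ModSite.sheafHom E) G q⟩

/-- the local Ext sheaves only depend on the isomorphism class of the first variable -/
theorem nonempty_extSh_congr {M M' : ModSite.Mod O} [ModSite.HasSheafHom M]
    [ModSite.HasSheafHom M'] (e : M ≅ M') (G : ModSite.Mod O) (q : ℕ) :
    Nonempty ((ModSite.extSh M q).obj G ≅ (ModSite.extSh M' q).obj G) :=
  ⟨(Groth.Agent.Lib.Helper5.Misc.RDComp.natIso (sheafHomCongr e) q).app G⟩

end Groth.Agent.Helper2.HomExt
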