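import Mathlib
import Groth.Prelude.Def_RefHull
import Groth.Agent.Lib.Lead.RH2

/-!
# Sections of the sheaf Hom from compatible families of linear maps on the opens of `U` (helper2)
-/

set_option autoImplicit false
set_option backward.isDefEq.respectTransparency.types false
set_option linter.unusedSectionVars false
universe u

open CategoryTheory CategoryTheory.Limits AlgebraicGeometry TopologicalSpace Opposite

namespace Groth.Agent.Helper2.HomExt

open Groth.Agent.Lead.RH

variable {X : Scheme.{u}} (F G : X.Modules)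

/-- a compatible family of `O`-linear maps `F(V) → G(V)` on the opens `V` contained in `U` -/
structure LocHom (U : X.Opens) where
  app : ∀ V : X.Opens, V ≤ U → (Γ(F, V) →+ Γ(G, V))
  res : ∀ (V V' : X.Opens) (hV : V ≤ U) (h : V' ≤ V) (m : Γ(F, V)),
    G.presheaf.map (homOfLE h).op (app V hV m) =
      app V' (h.trans hV) (F.presheaf.map (homOfLE h).op m)
  smul : ∀ (V : X.Opens) (hV : V ≤ U) (r : Γ(X, V)) (m : Γ(F, V)),
    app V hV (r • m) = r • app V hV m

variable {F G}

namespace LocHom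

variable {U : X.Opens} (ℓ : LocHom F G U)

/-- the cocone defining the stalk map -/
noncomputable def cocone (x : X) (hx : x ∈ U) :
    Cocone ((OpenNhds.inclusion x).op ⋙ F.presheaf) where
  pt := G.presheaf.stalk x
  ι :=
    { app := fun V => AddCommGrpCat.ofHom
        ((G.presheaf.germ (V.unop.1 ⊓ U) x ⟨V.unop.2, hx⟩).hom.comp
          ((ℓ.app (V.unop.1 ⊓ U) inf_le_right).comp
            (F.presheaf.map (homOfLE (inf_le_left : V.unop.1 ⊓ U ≤ V.unop.1)).op).hom))
      naturality := fun V W i => by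
        ext m
        have hWV : W.unop.1 ≤ V.unop.1 := leOfHom i.unop
        have hle : W.unop.1 ⊓ U ≤ V.unop.1 ⊓ U := inf_le_inf_right U hWV
        change G.presheaf.germ (W.unop.1 ⊓ U) x _ (ℓ.app (W.unop.1 ⊓ U) inf_le_right
            (F.presheaf.map (homOfLE inf_le_left).op (F.presheaf.map _ m))) =
          G.presheaf.germ (V.unop.1 ⊓ U) x _ (ℓ.app (V.unop.1 ⊓ U) inf_le_right
            (F.presheaf.map (homOfLE inf_le_left).op m))
        rw [← TopCat.Presheaf.germ_res_apply G.presheaf (homOfLE hle) x ⟨W.unop.2, hx⟩,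
          ℓ.res (V.unop.1 ⊓ U) (W.unop.1 ⊓ U) inf_le_right hle]
        congr 2
        rw [← ConcreteCategory.comp_apply, ← ConcreteCategory.comp_apply, ← Functor.map_comp,
          ← Functor.map_comp]
        rfl }

/-- the stalk map, additively -/
noncomputable def stalkAdd (x : X) (hx : x ∈ U) : F.presheaf.stalk x ⟶ G.presheaf.stalk x :=
  colimit.desc _ (ℓ.cocone x hx)

theorem stalkAdd_germ (x : X) (hx : x ∈ U) {V : X.Opens} (hV : V ≤ U) (hxV : x ∈ V) (m : Γ(F, V)) :
    (ℓ.stalkAdd x hx).hom (F.presheaf.germ V x hxV m) = G.presheaf.germ V x hxV (ℓ.app V hV m) := by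
  change (F.presheaf.germ V x hxV ≫ ℓ.stalkAdd x hx).hom m = _
  have e : F.presheaf.germ V x hxV ≫ ℓ.stalkAdd x hx = (ℓ.cocone x hx).ι.app (op ⟨V, hxV⟩) :=
    colimit.ι_desc _ _
  rw [e]
  change G.presheaf.germ (V ⊓ U) x _ (ℓ.app (V ⊓ U) inf_le_right
    (F.presheaf.map (homOfLE inf_le_left).op m)) = _
  rw [← ℓ.res V (V ⊓ U) hV inf_le_left, TopCat.Presheaf.germ_res_apply]

/-- the stalk map of a compatible family at a point of `U` -/
noncomputable def stalk (x : X) (hx : x ∈ U) : RefHull.StalkHom F G x where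
  toFun := (ℓ.stalkAdd x hx).hom
  map_add' := map_add _
  map_smul' a v := by
    obtain ⟨Ua, ha, r, rfl⟩ := TopCat.Presheaf.exists_germ_eq X.presheaf a
    obtain ⟨Uv, hv, m, rfl⟩ := TopCat.Presheaf.exists_germ_eq F.presheaf v
    have hW : Ua ⊓ Uv ⊓ U ≤ U := inf_le_right
    have hxW : x ∈ Ua ⊓ Uv ⊓ U := ⟨⟨ha, hv⟩, hx⟩
    rw [← TopCat.Presheaf.germ_res_apply X.presheaf
        (homOfLE (inf_le_left.trans inf_le_left : Ua ⊓ Uv ⊓ U ≤ Ua)) x hxW,
      ← TopCat.Presheaf.germ_res_apply F.presheaf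
        (homOfLE (inf_le_left.trans inf_le_right : Ua ⊓ Uv ⊓ U ≤ Uv)) x hxW,
      ← Mero.germ_smul, ℓ.stalkAdd_germ x hx hW hxW, ℓ.stalkAdd_germ x hx hW hxW, ℓ.smul,
      Mero.germ_smul]
    rfl

theorem stalk_germ (x : X) (hx : x ∈ U) {V : X.Opens} (hV : V ≤ U) (hxV : x ∈ V) (m : Γ(F, V)) :
    ℓ.stalk x hx (F.presheaf.germ V x hxV m) = G.presheaf.germ V x hxV (ℓ.app V hV m) :=
  ℓ.stalkAdd_germ x hx hV hxV m

/-- the section of the sheaf Hom over `U` defined by a compatible family -/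
noncomputable def toSection : Γ(RefHull.homSh F G, U) :=
  ⟨fun x => ℓ.stalk x.1 x.2, fun V i m x =>
    ⟨V, x.2, 𝟙 V, ℓ.app V i.le m, fun y => ℓ.stalk_germ y.1 (i.le y.2) i.le y.2 m⟩⟩

@[simp] theorem toSection_apply (x : U) : (ℓ.toSection).1 x = ℓ.stalk x.1 x.2 := rfl

theorem app_toSection {V : X.Opens} (i : V ≤ U) (m : Γ(F, V)) :
    Groth.Agent.Lead.RH.app ℓ.toSection i m = ℓ.app V i m := by
  apply section_ext
  intro y hy
  rw [germ_app, toSection_apply, ℓ.stalk_germ y (i hy) i hy]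

end LocHom

/-- the compatible family defined by a section of the sheaf Hom -/
noncomputable def LocHom.ofSection {U : X.Opens} (g : Γ(RefHull.homSh F G, U)) : LocHom F G U where
  app V i :=
    { toFun := fun m => Groth.Agent.Lead.RH.app g i m
      map_zero' := by
        have := app_add g i 0 0
        rw [add_zero] at this
        exact left_eq_add.mp this
      map_add' := app_add g i }
  res V V' hV h m := app_res g hV h m
  smul V hV r m := app_smul g hV r m

theorem LocHom.toSection_ofSection {U : X.Opens} (g : Γ(RefHull.homSh F G, U)) :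
    (LocHom.ofSection g).toSection = g := by
  apply Groth.Agent.Lead.RH.hom_ext
  intro x
  rw [LocHom.toSection_apply]
  apply LinearMap.ext
  intro v
  obtain ⟨Uv, hv, m, rfl⟩ := TopCat.Presheaf.exists_germ_eq F.presheaf v
  rw [← TopCat.Presheaf.germ_res_apply F.presheaf
    (homOfLE (inf_le_left : Uv ⊓ U ≤ Uv)) x.1 ⟨hv, x.2⟩,
    (LocHom.ofSection g).stalk_germ x.1 x.2 (inf_le_right : Uv ⊓ U ≤ U) ⟨hv, x.2⟩]
  exact germ_app g inf_le_right _ x.1 ⟨hv, x.2⟩

end Groth.Agent.Helper2.HomExt
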