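import Mathlib
import Groth.Prelude.Def_DCoh4
import Groth.Prelude.Def_RefHull
import Groth.Agent.Lib.Helper1.ProjF1
import Groth.Agent.Lib.Helper1.QcExt
import Groth.Agent.Lib.Helper2.HomExt.LocHom

/-!
# The tensor-Hom adjunction for the explicit sheaf Hom `RefHull.homSh` (helper2)

`uncurry : (A ⟶ 𝓗om(F, G)) → (F ⊗ A ⟶ G)` is bijective.
-/

set_option autoImplicit false
set_option linter.unusedSectionVars false
universe u

open CategoryTheory CategoryTheory.Limits AlgebraicGeometry TopologicalSpace Opposite MonoidalCategory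

namespace Groth.Agent.Helper2.HomExt

open Groth.Agent.Lead.RH Groth.Agent.Helper1.QcCech Groth.Agent.Helper1.TmulLib
  Groth.Agent.Helper1.TensLib Groth.Agent.Helper1.ProjF

variable {X : Scheme.{u}}

@[ext] theorem LocHom.ext' {F G : X.Modules} {U : X.Opens} (ℓ ℓ' : LocHom F G U)
    (h : ∀ (V : X.Opens) (i : V ≤ U) (m : Γ(F, V)), ℓ.app V i m = ℓ'.app V i m) : ℓ = ℓ' := by
  cases ℓ; cases ℓ'
  congr
  funext V i
  exact AddMonoidHom.ext (h V i)

/-- sections of the sheaf Hom are determined by their action on sections -/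
theorem section_ext_app {F G : X.Modules} {U : X.Opens} (g g' : Γ(RefHull.homSh F G, U))
    (h : ∀ (V : X.Opens) (i : V ≤ U) (m : Γ(F, V)),
      Groth.Agent.Lead.RH.app g i m = Groth.Agent.Lead.RH.app g' i m) : g = g' := by
  rw [← LocHom.toSection_ofSection g, ← LocHom.toSection_ofSection g']
  congr 1
  exact LocHom.ext' _ _ h

variable (F G : X.Modules)

/-- the evaluation pairing `F × 𝓗om(F, G) → G` -/
noncomputable def evPairing : Pairing F (RefHull.homSh F G) G where
  β U m g := Groth.Agent.Lead.RH.app (U := U.unop) (show Γ(RefHull.homSh F G, U.unop) from g) le_rfl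
    (show Γ(F, U.unop) from m)
  add_left U m₁ m₂ g := app_add (U := U.unop) (show Γ(RefHull.homSh F G, U.unop) from g) le_rfl
    (show Γ(F, U.unop) from m₁) (show Γ(F, U.unop) from m₂)
  smul_left U a m g := app_smul (U := U.unop) (show Γ(RefHull.homSh F G, U.unop) from g) le_rfl
    (show Γ(X, U.unop) from a) (show Γ(F, U.unop) from m)
  add_right U m g₁ g₂ := app_add_left (U := U.unop) (show Γ(RefHull.homSh F G, U.unop) from g₁)
    (show Γ(RefHull.homSh F G, U.unop) from g₂) le_rfl (show Γ(F, U.unop) from m)
  smul_right U a m g := by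
    have := app_smul_left (U := U.unop) (show Γ(X, U.unop) from a)
      (show Γ(RefHull.homSh F G, U.unop) from g) (le_rfl : U.unop ≤ U.unop) (show Γ(F, U.unop) from m)
    refine this.trans ?_
    congr 1
    exact ConcreteCategory.congr_hom (X.presheaf.map_id _) _
  nat {U V} f m g := by
    obtain ⟨U⟩ := U
    obtain ⟨V⟩ := V
    have hle : V ≤ U := leOfHom f.unop
    obtain rfl : f = (homOfLE hle).op := Subsingleton.elim _ _
    change G.presheaf.map (homOfLE hle).op (Groth.Agent.Lead.RH.app (U := U)
        (show Γ(RefHull.homSh F G, U) from g) le_rfl (show Γ(F, U) from m)) =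
      Groth.Agent.Lead.RH.app (U := V) ((RefHull.homSh F G).presheaf.map (homOfLE hle).op
        (show Γ(RefHull.homSh F G, U) from g)) le_rfl
        (F.presheaf.map (homOfLE hle).op (show Γ(F, U) from m))
    rw [app_res _ le_rfl hle, app_map]

/-- evaluation `F ⊗ 𝓗om(F, G) ⟶ G` -/
noncomputable def ev : CohB1.tensorMod F (RefHull.homSh F G) ⟶ G := descP (evPairing F G)

theorem ev_tm (U : X.Opens) (m : Γ(F, U)) (g : Γ(RefHull.homSh F G, U)) :
    (ev F G).app U (tm F (RefHull.homSh F G) U m g) = Groth.Agent.Lead.RH.app g le_rfl m :=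
  descP_tm (evPairing F G) U m g

variable {G}

/-- whiskering a morphism of modules with a module on the left, on sectionwise tensor products -/
noncomputable def whiskL {A A' : X.Modules} (φ : A ⟶ A') :
    (show X.PresheafOfModules from CohB1.tensorPre F A) ⟶
      (show X.PresheafOfModules from CohB1.tensorPre F A') :=
  (CohB1.toPMod F) ◁
    (show CohB1.toPMod A ⟶ CohB1.toPMod A' from (SheafOfModules.forget X.ringCatSheaf).map φ)

/-- the action of `F ⊗ -` on morphisms -/
noncomputable def tensLmap {A A' : X.Modules} (φ : A ⟶ A') :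
    CohB1.tensorMod F A ⟶ CohB1.tensorMod F A' :=
  (CohB1.sheafifyMod X).map (whiskL F φ)

/-- the action of `F ⊗ -` on pure tensors -/
theorem tensLmap_tm {A A' : X.Modules} (φ : A ⟶ A') (U : X.Opens) (m : Γ(F, U)) (a : Γ(A, U)) :
    (tensLmap F φ).app U (tm F A U m a) = tm F A' U m (φ.app U a) := by
  have h := (adj X).unit.naturality (whiskL F φ)
  have h2 := congrArg (fun χ => (χ.app (op U)).hom (pure F A U m a)) h
  exact h2.symm

/-- the transpose of a morphism into the sheaf Hom -/
noncomputable def uncurry {A : X.Modules} (g : A ⟶ RefHull.homSh F G) :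
    CohB1.tensorMod F A ⟶ G :=
  tensLmap F g ≫ ev F G

theorem uncurry_tm {A : X.Modules} (g : A ⟶ RefHull.homSh F G) (U : X.Opens) (m : Γ(F, U))
    (a : Γ(A, U)) :
    (uncurry F g).app U (tm F A U m a) = Groth.Agent.Lead.RH.app (g.app U a) le_rfl m := by
  change (ev F G).app U ((tensLmap F g).app U (tm F A U m a)) = _
  rw [tensLmap_tm, ev_tm]

/-- the key formula: the action of `g(a)` on sections over smaller opens -/
theorem app_eq_uncurry {A : X.Modules} (g : A ⟶ RefHull.homSh F G) {U V : X.Opens} (i : V ≤ U)
    (a : Γ(A, U)) (m : Γ(F, V)) :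
    Groth.Agent.Lead.RH.app (g.app U a) i m = (uncurry F g).app V (tm F A V m (res A i a)) := by
  rw [uncurry_tm, Groth.Agent.Helper1.QcExt.app_res g i a]
  change _ = Groth.Agent.Lead.RH.app ((RefHull.homSh F G).presheaf.map (homOfLE i).op (g.app U a))
    le_rfl m
  rw [app_map]

theorem uncurry_injective {A : X.Modules} :
    Function.Injective (uncurry F (G := G) (A := A)) := by
  intro g g' h
  apply Scheme.Modules.hom_ext
  intro U
  ext a
  apply section_ext_app
  intro V i m
  rw [app_eq_uncurry, app_eq_uncurry, h]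

section Curry

variable {F} {A : X.Modules} (f : CohB1.tensorMod F A ⟶ G)

/-- the compatible family attached to a section `a` of `A` -/
noncomputable def curryLoc {U : X.Opens} (a : Γ(A, U)) : LocHom F G U where
  app V i :=
    { toFun := fun m => f.app V (tm F A V m (res A i a))
      map_zero' := by rw [tm_zero_left]; exact map_zero _
      map_add' := fun m m' => by rw [tm_add_left]; exact map_add _ _ _ }
  res V V' hV h m := by
    change res G h (f.app V (tm F A V m (res A hV a))) = f.app V' (tm F A V' (res F h m) (res A _ a))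
    rw [← Groth.Agent.Helper1.QcExt.app_res f h, res_tm, res_res]
  smul V hV r m := by
    change f.app V (tm F A V (r • m) (res A hV a)) = r • f.app V (tm F A V m (res A hV a))
    rw [tm_smul_left, Scheme.Modules.Hom.app_smul]

theorem curryLoc_app {U : X.Opens} (a : Γ(A, U)) {V : X.Opens} (i : V ≤ U) (m : Γ(F, V)) :
    (curryLoc f a).app V i m = f.app V (tm F A V m (res A i a)) := rfl

/-- the section of the sheaf Hom attached to a section `a` of `A` -/
noncomputable def curryFun (U : X.Opens) (a : Γ(A, U)) : Γ(RefHull.homSh F G, U) :=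
  (curryLoc f a).toSection

theorem app_curryFun {U : X.Opens} (a : Γ(A, U)) {V : X.Opens} (i : V ≤ U) (m : Γ(F, V)) :
    Groth.Agent.Lead.RH.app (curryFun f U a) i m = f.app V (tm F A V m (res A i a)) := by
  rw [curryFun, LocHom.app_toSection, curryLoc_app]

theorem app_zero {U : X.Opens} {V : X.Opens} (i : V ≤ U) (m : Γ(F, V)) :
    Groth.Agent.Lead.RH.app (0 : Γ(RefHull.homSh F G, U)) i m = 0 := by
  have := app_add_left (0 : Γ(RefHull.homSh F G, U)) 0 i m
  rw [add_zero] at this
  exact left_eq_add.mp this

theorem curryFun_zero (U : X.Opens) : curryFun f U 0 = 0 := by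
  apply section_ext_app
  intro V i m
  rw [app_curryFun, app_zero, map_zero, tm_zero_right]
  exact map_zero _

theorem curryFun_add (U : X.Opens) (a a' : Γ(A, U)) :
    curryFun f U (a + a') = curryFun f U a + curryFun f U a' := by
  apply section_ext_app
  intro V i m
  rw [app_add_left, app_curryFun, app_curryFun, app_curryFun, map_add, tm_add_right]
  exact map_add _ _ _

theorem curryFun_smul (U : X.Opens) (r : Γ(X, U)) (a : Γ(A, U)) :
    curryFun f U (r • a) = r • curryFun f U a := by
  apply section_ext_app
  intro V i m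
  rw [app_smul_left, app_curryFun, app_curryFun, res_smul, tm_smul_right,
    Scheme.Modules.Hom.app_smul]
  rfl

theorem curryFun_res {U U' : X.Opens} (hle : U' ≤ U) (a : Γ(A, U)) :
    curryFun f U' (res A hle a) =
      (RefHull.homSh F G).presheaf.map (homOfLE hle).op (curryFun f U a) := by
  apply section_ext_app
  intro V i m
  rw [app_map, app_curryFun, app_curryFun, res_res]

/-- the morphism of abelian presheaves -/
noncomputable def curryAb : A.presheaf ⟶ (RefHull.homSh F G).presheaf where
  app U := AddCommGrpCat.ofHom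
    { toFun := fun (a : Γ(A, U.unop)) => curryFun f U.unop a
      map_zero' := curryFun_zero f U.unop
      map_add' := curryFun_add f U.unop }
  naturality := by
    intro U U' k
    ext a
    have hle : U'.unop ≤ U.unop := leOfHom k.unop
    obtain ⟨U⟩ := U
    obtain ⟨U'⟩ := U'
    obtain rfl : k = (homOfLE hle).op := Subsingleton.elim _ _
    exact curryFun_res f hle a

/-- currying: a morphism `F ⊗ A ⟶ G` gives a morphism `A ⟶ 𝓗om(F, G)` -/
noncomputable def curry : A ⟶ RefHull.homSh F G :=
  ⟨PresheafOfModules.homMk (curryAb f) (by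
    intro U r a
    exact curryFun_smul f U.unop r a)⟩

theorem curry_app {U : X.Opens} (a : Γ(A, U)) : (curry f).app U a = curryFun f U a := rfl

theorem uncurry_curry : uncurry F (curry f) = f := by
  apply hom_ext_tm
  intro U m a
  rw [uncurry_tm, curry_app, app_curryFun, res_self]

end Curry

theorem uncurry_bijective {A : X.Modules} :
    Function.Bijective (uncurry F (G := G) (A := A)) :=
  ⟨uncurry_injective F, fun f => ⟨curry f, uncurry_curry f⟩⟩

end Groth.Agent.Helper2.HomExt
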