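import Mathlib
import Groth.Prelude.Def_DCoh4
import Groth.Prelude.Def_RefHull
import Groth.Agent.Lib.Helper2.HomExt.Curry

/-!
# The abstract sheaf Hom `DCoh.sheafHom` (right adjoint of `F ⊗ -`) is the explicit sheaf Hom
`RefHull.homSh` (helper2)
-/

set_option autoImplicit false
set_option linter.unusedSectionVars false
universe u

open CategoryTheory CategoryTheory.Limits AlgebraicGeometry TopologicalSpace Opposite MonoidalCategory

namespace Groth.Agent.Helper2.HomExt

variable {X : Scheme.{u}} (F G : X.Modules) [DCoh.HasSheafHom F]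

theorem tensorBi_map {A A' : X.Modules} (φ : A ⟶ A') :
    ((DCoh.tensorBi (X := X)).obj F).map φ = tensLmap F φ := rfl

/-- the comparison morphism from the explicit sheaf Hom to the abstract one -/
noncomputable def toSheafHom : RefHull.homSh F G ⟶ (DCoh.sheafHom F).obj G :=
  (DCoh.sheafHomAdj F).homEquiv (RefHull.homSh F G) G (ev F G)

theorem comp_toSheafHom {A : X.Modules} (g : A ⟶ RefHull.homSh F G) :
    g ≫ toSheafHom F G = (DCoh.sheafHomAdj F).homEquiv A G (uncurry F g) :=
  ((DCoh.sheafHomAdj F).homEquiv_naturality_left g (ev F G)).symm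

instance isIso_toSheafHom : IsIso (toSheafHom F G) := by
  rw [isIso_iff_yoneda_map_bijective]
  intro A
  have h : (fun g : A ⟶ RefHull.homSh F G => g ≫ toSheafHom F G) =
      (DCoh.sheafHomAdj F).homEquiv A G ∘ uncurry F := funext (comp_toSheafHom F G)
  rw [h]
  exact (Equiv.bijective _).comp (uncurry_bijective F)

/-- **the abstract sheaf Hom is the explicit one** -/
noncomputable def sheafHomIso : (DCoh.sheafHom F).obj G ≅ RefHull.homSh F G :=
  (asIso (toSheafHom F G)).symm

end Groth.Agent.Helper2.HomExt
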