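import Mathlib
import Groth.Agent.Lib.Helper2.HomExt.Bridge
import Groth.Agent.Lib.Helper1.ProjF2
import Groth.Agent.Lib.Helper1.SerreCrit
import Groth.Agent.Lib.Helper1.CurveLin1

/-!
# The sheaf Hom out of a module with local bases is exact (helper2)

* `homShMap F φ : 𝓗om(F, G) ⟶ 𝓗om(F, G')`, the functoriality of the explicit sheaf Hom in the second
  variable, compatible with `DCoh.sheafHom` through the bridge;
* for `E` with local bases (e.g. finite locally free) and `φ` an epimorphism, `homShMap E φ` and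
  `(DCoh.sheafHom E).map φ` are epimorphisms.
-/

set_option autoImplicit false
set_option linter.unusedSectionVars false
set_option linter.style.haveILetI false
universe u

open CategoryTheory CategoryTheory.Limits AlgebraicGeometry TopologicalSpace Opposite MonoidalCategory

namespace Groth.Agent.Helper2.HomExt

open Groth.Agent.Lead.RH Groth.Agent.Helper1.QcCech Groth.Agent.Helper1.TmulLib
  Groth.Agent.Helper1.TensLib Groth.Agent.Helper1.ProjF Groth.Agent.Helper1.PFrame
  Groth.Agent.Helper1.Dv

variable {X : Scheme.{u}}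

section Map

variable (F : X.Modules) {G G' : X.Modules}

/-- functoriality of the explicit sheaf Hom in the second variable -/
noncomputable def homShMap (φ : G ⟶ G') : RefHull.homSh F G ⟶ RefHull.homSh F G' :=
  curry (ev F G ≫ φ)

theorem app_homShMap (φ : G ⟶ G') {U V : X.Opens} (g : Γ(RefHull.homSh F G, U)) (i : V ≤ U)
    (m : Γ(F, V)) :
    Groth.Agent.Lead.RH.app ((homShMap F φ).app U g) i m =
      φ.app V (Groth.Agent.Lead.RH.app g i m) := by
  rw [homShMap, curry_app, app_curryFun]
  change φ.app V ((ev F G).app V (tm F _ V m (res _ i g))) = _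
  rw [ev_tm]
  exact congrArg (φ.app V) (app_map g (homOfLE i) le_rfl m)

theorem homShMap_toSheafHom [DCoh.HasSheafHom F] (φ : G ⟶ G') :
    homShMap F φ ≫ toSheafHom F G' = toSheafHom F G ≫ (DCoh.sheafHom F).map φ := by
  have h1 := comp_toSheafHom F G' (homShMap F φ)
  have h2 : uncurry F (homShMap F φ) = ev F G ≫ φ := uncurry_curry (ev F G ≫ φ)
  have h3 : (DCoh.sheafHomAdj F).homEquiv (RefHull.homSh F G) G' (ev F G ≫ φ) =
      (DCoh.sheafHomAdj F).homEquiv (RefHull.homSh F G) G (ev F G) ≫ (DCoh.sheafHom F).map φ :=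
    (DCoh.sheafHomAdj F).homEquiv_naturality_right (X := RefHull.homSh F G) (ev F G) φ
  rw [h1, h2]
  exact h3

end Map

section Lift

variable {G G' : X.Modules}

/-- sections lift locally along an epimorphism -/
theorem exists_local_lift (φ : G ⟶ G') [Epi φ] {U : X.Opens} (t : Γ(G', U)) (x : X) (hx : x ∈ U) :
    ∃ (W : X.Opens) (hW : W ≤ U), x ∈ W ∧ ∃ s : Γ(G, W), φ.app W s = res G' hW t := by
  obtain ⟨w, hw⟩ := Groth.Agent.Helper1.CurveLin.stalkL_surjective_of_epi φ x
    (G'.presheaf.germ U x hx t)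
  obtain ⟨W₀, hxW₀, s, rfl⟩ := TopCat.Presheaf.exists_germ_eq G.presheaf w
  obtain ⟨W₁, rfl⟩ : ∃ W₁ : X.Opens, W₁ = W₀ := ⟨_, rfl⟩
  rw [stalkL_germ] at hw
  obtain ⟨V₀, hxV₀, i1, i2, hV⟩ := TopCat.Presheaf.germ_eq G'.presheaf x hxW₀ hx _ _ hw
  obtain ⟨V, rfl⟩ : ∃ V : X.Opens, V = V₀ := ⟨_, rfl⟩
  refine ⟨V, i2.le, hxV₀, res G i1.le s, ?_⟩
  rw [Groth.Agent.Helper1.QcExt.app_res]
  exact hV

/-- finitely many sections lift locally along an epimorphism -/
theorem exists_local_lift_fin (φ : G ⟶ G') [Epi φ] {U : X.Opens} (x : X) (hx : x ∈ U) :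
    ∀ {n : ℕ} (t : Fin n → Γ(G', U)),
    ∃ (W : X.Opens) (hW : W ≤ U), x ∈ W ∧ ∃ s : Fin n → Γ(G, W),
      ∀ i, φ.app W (s i) = res G' hW (t i) := by
  intro n
  induction n with
  | zero => exact fun t => ⟨U, le_rfl, hx, Fin.elim0, fun i => i.elim0⟩
  | succ n ih =>
    intro t
    obtain ⟨W₁, hW₁, hxW₁, s₁, hs₁⟩ := ih (fun i => t i.succ)
    obtain ⟨W₂, hW₂, hxW₂, s₂, hs₂⟩ := exists_local_lift φ (t 0) x hx
    refine ⟨W₁ ⊓ W₂, inf_le_left.trans hW₁, ⟨hxW₁, hxW₂⟩,
      Fin.cons (res G inf_le_right s₂) (fun i => res G inf_le_left (s₁ i)), ?_⟩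
    intro i
    refine Fin.cases ?_ (fun j => ?_) i
    · rw [Fin.cons_zero, Groth.Agent.Helper1.QcExt.app_res, hs₂, res_res]
    · rw [Fin.cons_succ, Groth.Agent.Helper1.QcExt.app_res, hs₁, res_res]

end Lift

section Basis

variable {E G : X.Modules} {n : ℕ} {W : X.Opens} {b : Fin n → Γ(E, W)}

/-- the coordinates with respect to a local basis, over a smaller open -/
noncomputable def coordEquiv (hb : IsBasisOn E W b) (V : X.Opens) (i : V ≤ W) :
    (Fin n → Γ(X, V)) ≃ₗ[Γ(X, V)] Γ(E, V) :=
  LinearEquiv.ofBijective (Fintype.linearCombination Γ(X, V) (fun j => res E i (b j))) (by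
    have := hb V i
    convert this using 2
    rw [Fintype.linearCombination_apply])

theorem coordEquiv_apply (hb : IsBasisOn E W b) (V : X.Opens) (i : V ≤ W) (r : Fin n → Γ(X, V)) :
    coordEquiv hb V i r = ∑ j, r j • res E i (b j) := by
  change Fintype.linearCombination Γ(X, V) (fun j => res E i (b j)) r = _
  rw [Fintype.linearCombination_apply]

theorem coordEquiv_symm_res (hb : IsBasisOn E W b) {V V' : X.Opens} (i : V ≤ W) (h : V' ≤ V)
    (m : Γ(E, V)) :
    (coordEquiv hb V' (h.trans i)).symm (res E h m) =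
      fun j => resR h ((coordEquiv hb V i).symm m j) := by
  rw [LinearEquiv.symm_apply_eq, coordEquiv_apply]
  conv_lhs => rw [← (coordEquiv hb V i).apply_symm_apply m, coordEquiv_apply, map_sum]
  refine Finset.sum_congr rfl fun j _ => ?_
  rw [res_smul, res_res]

/-- the compatible family sending a local basis to prescribed sections -/
noncomputable def basisLocHom (hb : IsBasisOn E W b) (d : Fin n → Γ(G, W)) : LocHom E G W where
  app V i := ((Fintype.linearCombination Γ(X, V) (fun j => res G i (d j))).comp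
    (coordEquiv hb V i).symm.toLinearMap).toAddMonoidHom
  res V V' hV h m := by
    change res G h (Fintype.linearCombination Γ(X, V) (fun j => res G hV (d j))
        ((coordEquiv hb V hV).symm m)) =
      Fintype.linearCombination Γ(X, V') (fun j => res G (h.trans hV) (d j))
        ((coordEquiv hb V' (h.trans hV)).symm (res E h m))
    rw [Fintype.linearCombination_apply, Fintype.linearCombination_apply, coordEquiv_symm_res,
      map_sum]
    refine Finset.sum_congr rfl fun j _ => ?_
    rw [res_smul, res_res]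
  smul V hV r m := by
    change Fintype.linearCombination Γ(X, V) (fun j => res G hV (d j))
        ((coordEquiv hb V hV).symm (r • m)) =
      r • Fintype.linearCombination Γ(X, V) (fun j => res G hV (d j))
        ((coordEquiv hb V hV).symm m)
    rw [map_smul, map_smul]

theorem basisLocHom_app (hb : IsBasisOn E W b) (d : Fin n → Γ(G, W)) (V : X.Opens) (i : V ≤ W)
    (m : Γ(E, V)) :
    (basisLocHom hb d).app V i m = ∑ j, (coordEquiv hb V i).symm m j • res G i (d j) := by
  change Fintype.linearCombination Γ(X, V) (fun j => res G i (d j))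
    ((coordEquiv hb V i).symm m) = _
  rw [Fintype.linearCombination_apply]

/-- a section of the sheaf Hom is determined on a local basis -/
theorem app_eq_sum_coord (hb : IsBasisOn E W b) {U : X.Opens} (hWU : W ≤ U)
    (g : Γ(RefHull.homSh E G, U)) (V : X.Opens) (i : V ≤ W) (m : Γ(E, V)) :
    Groth.Agent.Lead.RH.app g (i.trans hWU) m =
      ∑ j, (coordEquiv hb V i).symm m j • res G i (Groth.Agent.Lead.RH.app g hWU (b j)) := by
  conv_lhs => rw [← (coordEquiv hb V i).apply_symm_apply m, coordEquiv_apply]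
  change (LocHom.ofSection g).app V (i.trans hWU) _ = _
  rw [map_sum]
  refine Finset.sum_congr rfl fun j _ => ?_
  change Groth.Agent.Lead.RH.app g (i.trans hWU) _ = _
  rw [app_smul]
  congr 1
  exact (app_res g hWU i (b j)).symm

end Basis

section Exact

variable {E : X.Modules} {G G' : X.Modules}

/-- **the sheaf Hom out of a module with local bases preserves epimorphisms** -/
theorem epi_homShMap (hE : HasBases E) (φ : G ⟶ G') [Epi φ] : Epi (homShMap E φ) := by
  apply Groth.Agent.Helper1.SerreCrit.epi_of_locally_surjective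
  intro U g'' x hx
  obtain ⟨V, hVU, n, b, hxV, hb⟩ := hE.exists_le U x hx
  obtain ⟨W, hWV, hxW, d, hd⟩ := exists_local_lift_fin φ x hxV
    (fun j => Groth.Agent.Lead.RH.app g'' hVU (b j))
  have hb' : IsBasisOn E W (fun j => res E hWV (b j)) := hb.res hWV
  refine ⟨W, hWV.trans hVU, hxW, (basisLocHom hb' d).toSection, ?_⟩
  apply section_ext_app
  intro V' i m
  rw [app_homShMap, LocHom.app_toSection, basisLocHom_app, map_sum]
  change _ = Groth.Agent.Lead.RH.app
    ((RefHull.homSh E G').presheaf.map (homOfLE (hWV.trans hVU)).op g'') i m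
  rw [app_map, app_eq_sum_coord hb' (hWV.trans hVU) g'' V' i m]
  refine Finset.sum_congr rfl fun j _ => ?_
  rw [Scheme.Modules.Hom.app_smul, Groth.Agent.Helper1.QcExt.app_res, hd]
  congr 2
  exact app_res g'' hVU hWV (b j)

theorem epi_sheafHom_map [DCoh.HasSheafHom E] (hE : HasBases E) (φ : G ⟶ G') [Epi φ] :
    Epi ((DCoh.sheafHom E).map φ) := by
  haveI := epi_homShMap hE φ
  have h : (DCoh.sheafHom E).map φ =
      inv (toSheafHom E G) ≫ homShMap E φ ≫ toSheafHom E G' := by
    rw [homShMap_toSheafHom, IsIso.inv_hom_id_assoc]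
  rw [h]
  infer_instance

end Exact

end Groth.Agent.Helper2.HomExt
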