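import Mathlib
import Groth.Agent.Lib.Helper2.HomExt.LocFreeExact
import Groth.Agent.Lib.Helper5.LTen.DerInv
import Groth.Agent.Lib.Helper5.Misc.StalkFlatSch
import Groth.Agent.Lib.Helper5.Misc.TensorSES
import Groth.Agent.Lib.Helper5.Misc.LerayAcyc
import Groth.Agent.Lib.Helper1.Uni1
import Groth.Agent.Lib.Helper3.LocGlobExt1
import Groth.Agent.Lib.Helper3.SHomEx
import Groth.Agent.Lib.Helper3.ExtRD
import Groth.Agent.S0491
import Groth.Prelude.Def_ModSite2
import Groth.Agent.Lib.Helper1.DeltaComp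

/-!
# `Ext^p(A, B) ≅ H^p(X, 𝓗om(A, B))` for `A` finite locally free (helper2)
-/

set_option autoImplicit false
set_option linter.unusedSectionVars false
set_option linter.style.haveILetI false
universe u

open CategoryTheory CategoryTheory.Limits AlgebraicGeometry TopologicalSpace Opposite

namespace Groth.Agent.Helper2.HomExt

open Groth.Agent.Lib.Helper5 Groth.Agent.Helper1.ProjF

variable {X : Scheme.{u}} (A : X.Modules)

/-- the two abstract sheaf Homs (right adjoints of `A ⊗ -` and of `- ⊗ A`) agree -/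
noncomputable def dcohIsoModSite [DCoh.HasSheafHom A] [ModSite.HasSheafHom (O := X.sheaf) A] :
    DCoh.sheafHom A ≅ ModSite.sheafHom (O := X.sheaf) A :=
  conjugateIsoEquiv (DCoh.sheafHomAdj A) (ModSite.sheafHomAdj (O := X.sheaf) A)
    (TensorSES.objIsoFlipObj (O := X.sheaf) A).symm

instance additive_sheafHom [DCoh.HasSheafHom A] : (DCoh.sheafHom A).Additive :=
  (DCoh.sheafHomAdj A).right_adjoint_additive

instance preservesFiniteLimits_sheafHom [DCoh.HasSheafHom A] :
    PreservesFiniteLimits (DCoh.sheafHom A) :=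
  haveI := (DCoh.sheafHomAdj A).rightAdjoint_preservesLimits
  inferInstance

variable {A}

theorem preservesFiniteLimits_tensor (hA : FlatMod.IsFinLocFree A) :
    PreservesFiniteLimits ((DCoh.tensorBi (X := X)).obj A) :=
  (TensorSES.isFlat_iff' (O := X.sheaf) A).1
    (Groth.Agent.Lib.Helper5.Misc.StalkFlatSch.isFlat_of_flatMod A
      (Groth.Agent.Lib.Helper5.LTenDer.isFlat_of_isFinLocFree A hA))

theorem preservesInjectiveObjects_sheafHom (hA : FlatMod.IsFinLocFree A) [DCoh.HasSheafHom A] :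
    (DCoh.sheafHom A).PreservesInjectiveObjects := by
  haveI := preservesFiniteLimits_tensor hA
  exact Functor.preservesInjectiveObjects_of_adjunction_of_preservesMonomorphisms
    (DCoh.sheafHomAdj A)

theorem preservesEpimorphisms_sheafHom (hA : FlatMod.IsFinLocFree A) [DCoh.HasSheafHom A] :
    (DCoh.sheafHom A).PreservesEpimorphisms :=
  ⟨fun φ _ => epi_sheafHom_map (hasBases_of_isFinLocFree hA) φ⟩

section Main

variable [HasExt.{u} X.Modules]

/-- global sections as `Hom(O, -)`, on `X.Modules` -/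
noncomputable abbrev ΓO (X : Scheme.{u}) : X.Modules ⥤ AddCommGrpCat.{u} :=
  preadditiveCoyoneda.obj (op (Coh.structureModule X))

/-- `Γ ∘ 𝓗om(A, -) ≅ Hom(A, -)` -/
noncomputable def compIso (A : X.Modules) [DCoh.HasSheafHom A]
    [ModSite.HasSheafHom (O := X.sheaf) A] :
    DCoh.sheafHom A ⋙ ΓO X ≅ preadditiveCoyoneda.obj (op A) :=
  Functor.isoWhiskerRight (dcohIsoModSite A) (Groth.Agent.Helper3.LocGlobExt.SΓ X.sheaf) ≪≫
    Groth.Agent.Helper3.LocGlobExt.compIso X.sheaf A

/-- **`Ext^p(A, B) ≅ H^p(X, 𝓗om(A, B))` for `A` finite locally free** -/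
theorem nonempty_ext_addEquiv_HH (hA : FlatMod.IsFinLocFree A) [DCoh.HasSheafHom A]
    (B : X.Modules) (p : ℕ) :
    Nonempty (Abelian.Ext A B p ≃+ Coh.HH X ((DCoh.sheafHom A).obj B) p) := by
  haveI : EnoughInjectives X.Modules := IsGrothendieckAbelian.enoughInjectives.{u}
  haveI : HasInjectiveResolutions X.Modules := inferInstance
  haveI := Groth.Agent.Helper3.SHomEx.hasSheafHom (O := X.sheaf) A
  haveI := preservesInjectiveObjects_sheafHom hA
  haveI := preservesEpimorphisms_sheafHom hA
  have e1 := Groth.Agent.Helper3.ExtRD.rightDerivedIsoExt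
    (DCoh.sheafHom A ⋙ ΓO X) A (compIso A) B p
  have hacyc : ∀ i : ℕ, 0 < i → IsZero (((DCoh.sheafHom A).rightDerived i).obj B) := by
    intro i hi
    obtain ⟨j, rfl⟩ : ∃ j, i = j + 1 := ⟨i - 1, by omega⟩
    exact Groth.Agent.Helper1.Uni.rightDerived_isZero_of_exact (DCoh.sheafHom A) j B
  have e2 := Groth.Agent.Lib.Helper5.Misc.LerayAcyc.preIso (DCoh.sheafHom A) (ΓO X) B hacyc p
  have e3 := Groth.Agent.Helper3.ExtRD.coyonedaRightDerivedIso (Coh.structureModule X)
    ((DCoh.sheafHom A).obj B) p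
  haveI : HasExt.{u} (SheafOfModules.{u} X.ringCatSheaf) := ‹HasExt.{u} X.Modules›
  obtain ⟨e4⟩ := Groth.Agent.S0491.result (Opens.grothendieckTopology X) X.ringCatSheaf
    ((DCoh.sheafHom A).obj B) p
  exact ⟨((e1.symm ≪≫ e2 ≪≫ e3).addCommGroupIsoToAddEquiv).trans e4⟩

end Main

section ModSiteSide

/-- the binder for `DCoh.sheafHom` follows from the one for `ModSite.sheafHom` -/
theorem hasSheafHom_dcoh (A : X.Modules) [ModSite.HasSheafHom (O := X.sheaf) A] :
    DCoh.HasSheafHom A := by
  have h' : ((ModSite.tensorBi X.sheaf).obj A).IsLeftAdjoint :=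
    Functor.isLeftAdjoint_of_iso (TensorSES.objIsoFlipObj (O := X.sheaf) A).symm
  exact h'

theorem preservesEpimorphisms_sheafHom_modSite (hA : FlatMod.IsFinLocFree A)
    [ModSite.HasSheafHom (O := X.sheaf) A] :
    (ModSite.sheafHom (O := X.sheaf) A).PreservesEpimorphisms := by
  haveI := hasSheafHom_dcoh A
  have h1 : (DCoh.sheafHom A).PreservesEpimorphisms := preservesEpimorphisms_sheafHom hA
  exact @Functor.PreservesEpimorphisms.of_iso X.Modules _ X.Modules _ (DCoh.sheafHom A)
    (ModSite.sheafHom (O := X.sheaf) A) h1 (dcohIsoModSite A)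

/-- the higher local Ext sheaves out of a finite locally free module vanish -/
theorem isZero_extSh_of_isFinLocFree (hA : FlatMod.IsFinLocFree A)
    [ModSite.HasSheafHom (O := X.sheaf) A] [HasInjectiveResolutions (ModSite.Mod X.sheaf)]
    (G : X.Modules) (p : ℕ) (hp : 1 ≤ p) :
    haveI : (ModSite.sheafHom (O := X.sheaf) A).Additive := ModSite.sheafHom_additive X.sheaf A
    IsZero (((ModSite.sheafHom (O := X.sheaf) A).rightDerived p).obj G) := by
  haveI : (ModSite.sheafHom (O := X.sheaf) A).Additive := ModSite.sheafHom_additive X.sheaf A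
  haveI := preservesEpimorphisms_sheafHom_modSite hA
  haveI : EnoughInjectives (ModSite.Mod X.sheaf) :=
    Groth.Agent.Helper1.DeltaComp.enoughInjectives_of_hasInjectiveResolutions
  obtain ⟨j, rfl⟩ : ∃ j, p = j + 1 := ⟨p - 1, by omega⟩
  exact Groth.Agent.Helper1.Uni.rightDerived_isZero_of_exact
    (ModSite.sheafHom (O := X.sheaf) A) j G

end ModSiteSide

end Groth.Agent.Helper2.HomExt
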