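import Mathlib

/-!
# Dimension shifting for `Ext` of modules, linearly (helper2)
-/

set_option autoImplicit false
universe u

open CategoryTheory CategoryTheory.Limits Abelian

namespace Groth.Agent.Helper2.ExtModShift

variable {R : Type u} [CommRing R] {S : ShortComplex (ModuleCat.{u} R)} (hS : S.ShortExact)
  (N : ModuleCat.{u} R)

/-- the connecting map `Ext^p(X₁, N) → Ext^{p+1}(X₃, N)` -/
noncomputable def δlin (p : ℕ) : Ext S.X₁ N p →ₗ[R] Ext S.X₃ N (p + 1) :=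
  Ext.precompOfLinear hS.extClass R N (add_comm 1 p)

theorem δlin_apply (p : ℕ) (x : Ext S.X₁ N p) :
    δlin hS N p x = hS.extClass.comp x (add_comm 1 p) := rfl

/-- the restriction map `Ext^p(M, N) → Ext^p(M', N)` along `u : M' ⟶ M` -/
noncomputable def pre {M M' : ModuleCat.{u} R} (u : M' ⟶ M) (p : ℕ) :
    Ext M N p →ₗ[R] Ext M' N p :=
  Ext.precompOfLinear (Ext.mk₀ u) R N (zero_add p)

theorem pre_apply {M M' : ModuleCat.{u} R} (u : M' ⟶ M) (p : ℕ) (x : Ext M N p) :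
    pre N u p x = (Ext.mk₀ u).comp x (zero_add p) := rfl

include hS in
theorem δlin_surjective [Projective S.X₂] (p : ℕ) : Function.Surjective (δlin hS N p) :=
  fun x => Ext.contravariant_sequence_exact₃ hS N x (Ext.eq_zero_of_projective _) (add_comm 1 p)

theorem δlin_eq_zero_iff (p : ℕ) (x : Ext S.X₁ N p) :
    δlin hS N p x = 0 ↔ ∃ y : Ext S.X₂ N p, pre N S.f p y = x := by
  constructor
  · intro h
    exact Ext.contravariant_sequence_exact₁ hS N x (add_comm 1 p) h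
  · rintro ⟨y, rfl⟩
    rw [δlin_apply, pre_apply]
    exact hS.extClass_comp_assoc y

theorem δlin_injective [Projective S.X₂] (p : ℕ) : Function.Injective (δlin hS N (p + 1)) := by
  rw [injective_iff_map_eq_zero]
  intro x hx
  obtain ⟨y, rfl⟩ := (δlin_eq_zero_iff hS N (p + 1) x).1 hx
  rw [Ext.eq_zero_of_projective y, map_zero]

/-- dimension shifting, linearly -/
noncomputable def shiftEquiv [Projective S.X₂] (p : ℕ) :
    Ext S.X₁ N (p + 1) ≃ₗ[R] Ext S.X₃ N (p + 1 + 1) :=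
  LinearEquiv.ofBijective (δlin hS N (p + 1)) ⟨δlin_injective hS N p, δlin_surjective hS N (p + 1)⟩

/-- the exact sequence `Ext⁰(X₂, N) → Ext⁰(X₁, N) → Ext¹(X₃, N)` -/
noncomputable def sc : ShortComplex (ModuleCat.{u} R) :=
  ShortComplex.mk (ModuleCat.ofHom (pre N S.f 0)) (ModuleCat.ofHom (δlin hS N 0)) (by
    ext y
    exact (δlin_eq_zero_iff hS N 0 _).2 ⟨y, rfl⟩)

theorem sc_exact : (sc hS N).Exact := by
  rw [ShortComplex.moduleCat_exact_iff]
  intro x hx
  exact (δlin_eq_zero_iff hS N 0 x).1 hx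

theorem sc_epi [Projective S.X₂] : Epi (sc hS N).g :=
  (ModuleCat.epi_iff_surjective _).2 (δlin_surjective hS N 0)

/-- `Ext⁰(M, N) ≃ Hom(M, N)` linearly -/
noncomputable def hom0 (M : ModuleCat.{u} R) : Ext M N 0 ≃ₗ[R] (M →ₗ[R] N) :=
  (Ext.linearEquiv₀ (R := R)).trans ModuleCat.homLinearEquiv

theorem hom0_mk₀ (M : ModuleCat.{u} R) (φ : M ⟶ N) : hom0 N M (Ext.mk₀ φ) = φ.hom := by
  change ((Ext.linearEquiv₀ (R := R)) (Ext.mk₀ φ)).hom = φ.hom
  congr 1
  apply (Ext.mk₀_bijective M N).1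
  rw [Ext.mk₀_linearEquiv₀_apply]

theorem hom0_pre {M M' : ModuleCat.{u} R} (u : M' ⟶ M) (x : Ext M N 0) :
    hom0 N M' (pre N u 0 x) = (hom0 N M x).comp u.hom := by
  obtain ⟨φ, rfl⟩ := (Ext.mk₀_bijective M N).2 x
  rw [pre_apply, Ext.mk₀_comp_mk₀, hom0_mk₀, hom0_mk₀]
  rfl

end Groth.Agent.Helper2.ExtModShift
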