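import Mathlib
import Groth.Prelude.Def_ModSite2
import Groth.Prelude.Def_ExtSupp
import Groth.Agent.Lib.Helper2.HomExt.LocFreeExact
import Groth.Agent.Lib.Helper3.SHomEx

/-!
# The explicit sheaf Hom `RefHull.homSh` as a model of `ModSite.sheafHom`, naturally in both variables
(helper2)

* `homShPre v : 𝓗om(F, G) ⟶ 𝓗om(F', G)` for `v : F' ⟶ F`;
* `modelIso F G : 𝓗om(F, G) ≅ (ModSite.sheafHom F).obj G`, natural in `G` (`homShMap_modelIso`) and in
  `F` (`homShPre_modelIso`, against `ExtSupp.sheafHomMap`).
-/

set_option autoImplicit false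
set_option linter.unusedSectionVars false
set_option linter.style.haveILetI false
universe u

open CategoryTheory CategoryTheory.Limits AlgebraicGeometry TopologicalSpace Opposite MonoidalCategory

namespace Groth.Agent.Helper2.HomExt

open Groth.Agent.Lead.RH Groth.Agent.Helper1.QcCech Groth.Agent.Helper1.TmulLib
  Groth.Agent.Helper1.TensLib Groth.Agent.Helper1.ProjF

variable {X : Scheme.{u}}

section Pre

variable {F F' : X.Modules} (G : X.Modules)

/-- functoriality of the explicit sheaf Hom in the first variable -/
noncomputable def homShPre (v : F' ⟶ F) : RefHull.homSh F G ⟶ RefHull.homSh F' G :=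
  curry ((tensR (RefHull.homSh F G)).map v ≫ ev F G)

theorem app_homShPre (v : F' ⟶ F) {U V : X.Opens} (g : Γ(RefHull.homSh F G, U)) (i : V ≤ U)
    (m : Γ(F', V)) :
    Groth.Agent.Lead.RH.app ((homShPre G v).app U g) i m =
      Groth.Agent.Lead.RH.app g i (v.app V m) := by
  rw [homShPre, curry_app, app_curryFun]
  change (ev F G).app V (((tensR (RefHull.homSh F G)).map v).app V (tm F' _ V m (res _ i g))) = _
  rw [tensR_map_tm, ev_tm]
  exact app_map g (homOfLE i) le_rfl (v.app V m)

end Pre

section EvR

variable (F G : X.Modules)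

/-- the evaluation pairing `𝓗om(F, G) × F → G` -/
noncomputable def evPairingR : Pairing (RefHull.homSh F G) F G where
  β U g m := (evPairing F G).β U m g
  add_left U g₁ g₂ m := (evPairing F G).add_right U m g₁ g₂
  smul_left U a g m := (evPairing F G).smul_right U a m g
  add_right U g m₁ m₂ := (evPairing F G).add_left U m₁ m₂ g
  smul_right U a g m := (evPairing F G).smul_left U a m g
  nat f g m := (evPairing F G).nat f m g

/-- evaluation `𝓗om(F, G) ⊗ F ⟶ G` -/
noncomputable def evR : CohB1.tensorMod (RefHull.homSh F G) F ⟶ G := descP (evPairingR F G)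

theorem evR_tm (U : X.Opens) (g : Γ(RefHull.homSh F G, U)) (m : Γ(F, U)) :
    (evR F G).app U (tm (RefHull.homSh F G) F U g m) = Groth.Agent.Lead.RH.app g le_rfl m :=
  descP_tm (evPairingR F G) U g m

variable {G}

/-- the transpose of a morphism into the sheaf Hom, with the Hom on the left -/
noncomputable def uncurryR {A : X.Modules} (h : A ⟶ RefHull.homSh F G) :
    CohB1.tensorMod A F ⟶ G :=
  (tensR F).map h ≫ evR F G

theorem uncurryR_tm {A : X.Modules} (h : A ⟶ RefHull.homSh F G) (U : X.Opens) (a : Γ(A, U))
    (m : Γ(F, U)) :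
    (uncurryR F h).app U (tm A F U a m) = Groth.Agent.Lead.RH.app (h.app U a) le_rfl m := by
  change (evR F G).app U (((tensR F).map h).app U (tm A F U a m)) = _
  rw [tensR_map_tm, evR_tm]

/-- swapping the factors of a tensor product, on pure tensors -/
theorem tensorModComm_tm (M N : X.Modules) (U : X.Opens) (m : Γ(M, U)) (n : Γ(N, U)) :
    (Groth.Agent.Helper1.TildeTens.tensorModComm M N).hom.app U (tm M N U m n) = tm N M U n m := by
  have h := (adj X).unit.naturality (Groth.Agent.Helper1.TildeTens.tensorPreComm M N).hom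
  have h2 := congrArg (fun χ => (χ.app (op U)).hom (pure M N U m n)) h
  exact h2.symm

theorem uncurryR_eq {A : X.Modules} (h : A ⟶ RefHull.homSh F G) :
    uncurryR F h = (Groth.Agent.Helper1.TildeTens.tensorModComm A F).hom ≫ uncurry F h := by
  apply hom_ext_tm
  intro U a m
  rw [uncurryR_tm]
  change _ = (uncurry F h).app U
    ((Groth.Agent.Helper1.TildeTens.tensorModComm A F).hom.app U (tm A F U a m))
  rw [tensorModComm_tm, uncurry_tm]

theorem uncurryR_bijective {A : X.Modules} :
    Function.Bijective (uncurryR F (G := G) (A := A)) := by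
  have h : uncurryR F (G := G) (A := A) =
      (fun f => (Groth.Agent.Helper1.TildeTens.tensorModComm A F).hom ≫ f) ∘ uncurry F :=
    funext (uncurryR_eq F)
  rw [h]
  refine Function.Bijective.comp ?_ (uncurry_bijective F)
  exact ⟨fun f f' hff => (cancel_epi _).1 hff,
    fun f => ⟨(Groth.Agent.Helper1.TildeTens.tensorModComm A F).inv ≫ f, by simp⟩⟩

end EvR

section Model

variable (F G : X.Modules) [ModSite.HasSheafHom (O := X.sheaf) F]

/-- the comparison morphism from the explicit sheaf Hom to `ModSite.sheafHom` -/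
noncomputable def toModel : RefHull.homSh F G ⟶ (ModSite.sheafHom (O := X.sheaf) F).obj G :=
  (ModSite.sheafHomAdj (O := X.sheaf) F).homEquiv (RefHull.homSh F G) G (evR F G)

theorem tensorBi_flip_map {A A' : X.Modules} (h : A ⟶ A') :
    ((ModSite.tensorBi X.sheaf).flip.obj F).map h = (tensR F).map h := rfl

theorem comp_toModel {A : X.Modules} (h : A ⟶ RefHull.homSh F G) :
    h ≫ toModel F G = (ModSite.sheafHomAdj (O := X.sheaf) F).homEquiv A G (uncurryR F h) :=
  ((ModSite.sheafHomAdj (O := X.sheaf) F).homEquiv_naturality_left h (evR F G)).symm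

instance isIso_toModel : IsIso (toModel F G) := by
  refine (isIso_iff_yoneda_map_bijective (C := X.Modules) (toModel F G)).2 ?_
  intro A
  have h : (fun g : A ⟶ RefHull.homSh F G => g ≫ toModel F G) =
      (ModSite.sheafHomAdj (O := X.sheaf) F).homEquiv A G ∘ uncurryR F :=
    funext (comp_toModel F G)
  rw [h]
  exact (Equiv.bijective _).comp (uncurryR_bijective F)

/-- **the explicit sheaf Hom is a model of `ModSite.sheafHom`** -/
noncomputable def modelIso : RefHull.homSh F G ≅ (ModSite.sheafHom (O := X.sheaf) F).obj G :=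
  asIso (toModel F G)

variable {G}

/-- naturality of the model in the second variable -/
theorem homShMap_toModel {G' : X.Modules} (φ : G ⟶ G') :
    homShMap F φ ≫ toModel F G' = toModel F G ≫ (ModSite.sheafHom (O := X.sheaf) F).map φ := by
  have h1 := comp_toModel F G' (homShMap F φ)
  have h2 : uncurryR F (homShMap F φ) = evR F G ≫ φ := by
    apply hom_ext_tm
    intro U g m
    rw [uncurryR_tm, app_homShMap]
    change _ = φ.app U ((evR F G).app U (tm _ F U g m))
    rw [evR_tm]
  have h3 : (ModSite.sheafHomAdj (O := X.sheaf) F).homEquiv (RefHull.homSh F G) G' (evR F G ≫ φ) =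
      (ModSite.sheafHomAdj (O := X.sheaf) F).homEquiv (RefHull.homSh F G) G (evR F G) ≫
        (ModSite.sheafHom (O := X.sheaf) F).map φ :=
    (ModSite.sheafHomAdj (O := X.sheaf) F).homEquiv_naturality_right
      (X := RefHull.homSh F G) (evR F G) φ
  rw [h1, h2]
  exact h3

variable (G)

/-- naturality of the model in the first variable -/
theorem homShPre_toModel {F' : X.Modules} [ModSite.HasSheafHom (O := X.sheaf) F'] (v : F' ⟶ F) :
    homShPre G v ≫ toModel F' G = toModel F G ≫ (ExtSupp.sheafHomMap (O := X.sheaf) v).app G := by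
  have h1 := comp_toModel F' G (homShPre G v)
  have h2 : uncurryR F' (homShPre G v) =
      ((ModSite.tensorBi X.sheaf).obj (RefHull.homSh F G)).map v ≫ evR F G := by
    apply hom_ext_tm
    intro U g m
    rw [uncurryR_tm, app_homShPre]
    change _ = (evR F G).app U ((tensLmap (RefHull.homSh F G) v).app U (tm _ F' U g m))
    rw [tensLmap_tm, evR_tm]
  have h3 := Groth.Agent.Helper3.SHomEx.homEquiv_sheafHomMap (O := X.sheaf) v
    (N := RefHull.homSh F G) (Q := G) (evR F G)
  rw [h1, h2]
  exact h3.symm

end Model

end Groth.Agent.Helper2.HomExt
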