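import Mathlib
import Groth.Prelude.Def_RefHull
import Groth.Agent.Lib.Lead.RH3
import Groth.Agent.Lib.Lead.FP2

/-!
# The sheaf Hom of the modules associated to `M` (finitely presented) and `N` on `Spec R` is the module
associated to `Hom_R(M, N)` (helper2)
-/

set_option autoImplicit false
set_option linter.unusedSectionVars false
universe u

open CategoryTheory CategoryTheory.Limits AlgebraicGeometry TopologicalSpace Opposite

namespace Groth.Agent.Helper2.HomExt

open Groth.Agent.Lead.RH

variable (R : CommRingCat.{u}) (M N : ModuleCat.{u} R)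

theorem isFP_tilde [Module.FinitePresentation R M] : CohB1.IsFP (tilde M) := by
  have h : Module.FinitePresentation R Γ(tilde M, ⊤) :=
    Module.FinitePresentation.of_equiv (tilde.isoTop M).toLinearEquiv
  obtain ⟨P, hP⟩ := Groth.Agent.Lead.FP.exists_finite_presentation_of_fp (tilde M) h
  exact Groth.Agent.Lead.FP.isFP_of_presentation (tilde M) P

theorem isAffineOpen_top_Spec : IsAffineOpen (⊤ : (Spec R).Opens) := isAffineOpen_top (Spec R)

/-- every function on `Spec R` is the image of an element of `R` -/
theorem exists_eq_ΓSpecIso_inv (s : Γ(Spec R, ⊤)) : ∃ r : R, (Scheme.ΓSpecIso R).inv r = s :=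
  ⟨(Scheme.ΓSpecIso R).hom s, by
    change ((Scheme.ΓSpecIso R).hom ≫ (Scheme.ΓSpecIso R).inv) s = s
    rw [Iso.hom_inv_id]; rfl⟩

theorem smul_top_def (K : (Spec R).Modules) (r : R) (x : Γ(K, ⊤)) :
    r • x = ((Scheme.ΓSpecIso R).inv r : Γ(Spec R, ⊤)) • x := by
  rw [Scheme.Modules.smul_Spec_def]
  congr 1

variable {R} in
/-- a map on global sections which is linear over the functions is linear over `R` -/
noncomputable def toRLin {K L : (Spec R).Modules} (α : Γ(K, ⊤) →ₗ[Γ(Spec R, ⊤)] Γ(L, ⊤)) :
    Γ(K, ⊤) →ₗ[R] Γ(L, ⊤) where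
  toFun := α
  map_add' := map_add α
  map_smul' r x := by
    rw [RingHom.id_apply, smul_top_def, smul_top_def, map_smul]

variable {R} in
/-- a map on global sections which is linear over `R` is linear over the functions -/
noncomputable def ofRLin {K L : (Spec R).Modules} (α : Γ(K, ⊤) →ₗ[R] Γ(L, ⊤)) :
    Γ(K, ⊤) →ₗ[Γ(Spec R, ⊤)] Γ(L, ⊤) where
  toFun := α
  map_add' := map_add α
  map_smul' s x := by
    obtain ⟨r, rfl⟩ := exists_eq_ΓSpecIso_inv R s
    rw [RingHom.id_apply, ← smul_top_def, ← smul_top_def, map_smul]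

/-- global sections of `M~`, with clean types -/
noncomputable def topEquiv : M ≃ₗ[R] Γ(tilde M, ⊤) where
  toFun m := (show Γ(tilde M, ⊤) from (tilde.isoTop M).hom.hom m)
  invFun x := (tilde.isoTop M).inv.hom
    (show ((modulesSpecToSheaf.obj (tilde M)).presheaf.obj (op ⊤) : ModuleCat R) from x)
  map_add' m m' := (tilde.isoTop M).hom.hom.map_add m m'
  map_smul' r m := (tilde.isoTop M).hom.hom.map_smul r m
  left_inv m := by
    change ((tilde.isoTop M).hom ≫ (tilde.isoTop M).inv).hom m = m
    rw [Iso.hom_inv_id]; rfl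
  right_inv x := by
    change ((tilde.isoTop M).inv ≫ (tilde.isoTop M).hom).hom _ = x
    rw [Iso.inv_hom_id]; rfl

variable [Module.FinitePresentation R M]

/-- global sections of the sheaf Hom of `M~` and `N~` -/
noncomputable def homTopEquiv :
    Γ(RefHull.homSh (tilde M) (tilde N), ⊤) ≃ₗ[R] (M →ₗ[R] N) where
  toFun g := (topEquiv R N).symm.toLinearMap ∘ₗ
    toRLin (secEquiv (F := tilde M) (G := tilde N) (isAffineOpen_top_Spec R) g) ∘ₗ
      (topEquiv R M).toLinearMap
  map_add' g g' := by
    apply LinearMap.ext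
    intro m
    change (topEquiv R N).symm
      (secEquiv (F := tilde M) (G := tilde N) (isAffineOpen_top_Spec R) (g + g') (topEquiv R M m)) =
      (topEquiv R N).symm
        (secEquiv (F := tilde M) (G := tilde N) (isAffineOpen_top_Spec R) g (topEquiv R M m)) +
      (topEquiv R N).symm
        (secEquiv (F := tilde M) (G := tilde N) (isAffineOpen_top_Spec R) g' (topEquiv R M m))
    rw [map_add, LinearMap.add_apply, map_add]
  map_smul' r g := by
    apply LinearMap.ext
    intro m
    change (topEquiv R N).symm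
      (secEquiv (F := tilde M) (G := tilde N) (isAffineOpen_top_Spec R) (r • g) (topEquiv R M m)) =
      r • (topEquiv R N).symm
        (secEquiv (F := tilde M) (G := tilde N) (isAffineOpen_top_Spec R) g (topEquiv R M m))
    rw [smul_top_def, map_smul, LinearMap.smul_apply, ← smul_top_def, map_smul]
  invFun φ := (secEquiv (F := tilde M) (G := tilde N) (isAffineOpen_top_Spec R)).symm
    (ofRLin ((topEquiv R N).toLinearMap ∘ₗ φ ∘ₗ (topEquiv R M).symm.toLinearMap))
  left_inv g := by
    apply (secEquiv (F := tilde M) (G := tilde N) (isAffineOpen_top_Spec R)).injective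
    rw [LinearEquiv.apply_symm_apply]
    apply LinearMap.ext
    intro x
    change (topEquiv R N) ((topEquiv R N).symm
      (secEquiv (F := tilde M) (G := tilde N) (isAffineOpen_top_Spec R) g
        ((topEquiv R M) ((topEquiv R M).symm x)))) = _
    rw [LinearEquiv.apply_symm_apply, LinearEquiv.apply_symm_apply]
  right_inv φ := by
    apply LinearMap.ext
    intro m
    change (topEquiv R N).symm
      (secEquiv (F := tilde M) (G := tilde N) (isAffineOpen_top_Spec R)
        ((secEquiv (F := tilde M) (G := tilde N) (isAffineOpen_top_Spec R)).symm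
          (ofRLin ((topEquiv R N).toLinearMap ∘ₗ φ ∘ₗ (topEquiv R M).symm.toLinearMap)))
          ((topEquiv R M) m)) = _
    rw [LinearEquiv.apply_symm_apply]
    change (topEquiv R N).symm ((topEquiv R N)
      (φ ((topEquiv R M).symm ((topEquiv R M) m)))) = _
    rw [LinearEquiv.symm_apply_apply, LinearEquiv.symm_apply_apply]

/-- the sheaf Hom of `M~` and `N~` is `Hom_R(M, N)~` -/
theorem nonempty_homSh_tilde_iso :
    Nonempty (RefHull.homSh (tilde M) (tilde N) ≅ tilde (ModuleCat.of R (M →ₗ[R] N))) := by
  haveI : (RefHull.homSh (tilde M) (tilde N)).IsQuasicoherent :=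
    isQuasicoherent_homSh (isFP_tilde R M)
  haveI : IsIso (RefHull.homSh (tilde M) (tilde N)).fromTildeΓ :=
    Scheme.Modules.isIso_fromTildeΓ_of_isQuasicoherent _
  exact ⟨(asIso (RefHull.homSh (tilde M) (tilde N)).fromTildeΓ).symm ≪≫
    (tilde.functor R).mapIso (homTopEquiv R M N).toModuleIso⟩

end Groth.Agent.Helper2.HomExt
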