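import Mathlib
import Groth.Agent.Lib.Helper2.HomExt.Tilde
import Groth.Agent.Lib.Helper2.HomExt.Model

/-!
# The isomorphism `𝓗om(M~, N~) ≅ Hom_R(M, N)~` is natural in `M` (helper2)
-/

set_option autoImplicit false
set_option linter.unusedSectionVars false
set_option linter.style.haveILetI false
universe u

open CategoryTheory CategoryTheory.Limits AlgebraicGeometry TopologicalSpace Opposite

namespace Groth.Agent.Helper2.HomExt

open Groth.Agent.Lead.RH

variable (R : CommRingCat.{u}) (M M' N : ModuleCat.{u} R)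

theorem topEquiv_natural (u : M' ⟶ M) (m' : M') :
    (tilde.map u).app ⊤ (topEquiv R M' m') = topEquiv R M (u.hom m') := by
  have h := tilde.toOpen_map_app u ⊤
  have h2 := congrArg (fun χ => χ.hom m') h
  exact h2

variable [Module.FinitePresentation R M] [Module.FinitePresentation R M']

instance isIso_fromTildeΓ_homSh : IsIso (RefHull.homSh (tilde M) (tilde N)).fromTildeΓ := by
  haveI : (RefHull.homSh (tilde M) (tilde N)).IsQuasicoherent :=
    isQuasicoherent_homSh (isFP_tilde R M)
  exact Scheme.Modules.isIso_fromTildeΓ_of_isQuasicoherent _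

/-- the sheaf Hom of `M~` and `N~` is `Hom_R(M, N)~` -/
noncomputable def tildeHomIso :
    RefHull.homSh (tilde M) (tilde N) ≅ tilde (ModuleCat.of R (M →ₗ[R] N)) :=
  (asIso (RefHull.homSh (tilde M) (tilde N)).fromTildeΓ).symm ≪≫
    (tilde.functor R).mapIso (homTopEquiv R M N).toModuleIso

/-- precomposition with `u`, as a morphism of modules -/
noncomputable def preHom (u : M' ⟶ M) :
    ModuleCat.of R (M →ₗ[R] N) ⟶ ModuleCat.of R (M' →ₗ[R] N) :=
  ModuleCat.ofHom (LinearMap.lcomp R N u.hom)

theorem homTopEquiv_pre (u : M' ⟶ M) (g : Γ(RefHull.homSh (tilde M) (tilde N), ⊤)) (m' : M') :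
    homTopEquiv R M' N ((homShPre (tilde N) (tilde.map u)).app ⊤ g) m' =
      homTopEquiv R M N g (u.hom m') := by
  change (topEquiv R N).symm
      (secEquiv (F := tilde M') (G := tilde N) (isAffineOpen_top_Spec R)
        ((homShPre (tilde N) (tilde.map u)).app ⊤ g) (topEquiv R M' m')) =
    (topEquiv R N).symm
      (secEquiv (F := tilde M) (G := tilde N) (isAffineOpen_top_Spec R) g
        (topEquiv R M (u.hom m')))
  rw [secEquiv_apply, secEquiv_apply, app_homShPre, topEquiv_natural]

theorem key_natural (u : M' ⟶ M) :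
    moduleSpecΓFunctor.map (homShPre (tilde N) (tilde.map u)) ≫
        (homTopEquiv R M' N).toModuleIso.hom =
      (homTopEquiv R M N).toModuleIso.hom ≫ preHom R M M' N u := by
  ext g m'
  exact homTopEquiv_pre R M M' N u g m'

theorem nat_aux2 {C : Type*} [Category C] {K L TK TL P Q : C} (ψ : K ⟶ L) (f : TK ⟶ K)
    (f' : TL ⟶ L) [IsIso f] [IsIso f'] (a : TK ⟶ TL) (nat : a ≫ f' = f ≫ ψ) (h : TK ⟶ P)
    (h' : TL ⟶ Q) (p : P ⟶ Q) (h2 : a ≫ h' = h ≫ p) :
    ψ ≫ (inv f' ≫ h') = (inv f ≫ h) ≫ p := by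
  have h1 : ψ ≫ inv f' = inv f ≫ a := by
    rw [IsIso.comp_inv_eq, Category.assoc, nat, IsIso.inv_hom_id_assoc]
  rw [reassoc_of% h1, h2, Category.assoc]

/-- **naturality of `𝓗om(M~, N~) ≅ Hom_R(M, N)~` in `M`** -/
theorem tildeHomIso_natural (u : M' ⟶ M) :
    homShPre (tilde N) (tilde.map u) ≫ (tildeHomIso R M' N).hom =
      (tildeHomIso R M N).hom ≫ tilde.map (preHom R M M' N u) := by
  haveI i1 : IsIso (RefHull.homSh (tilde M') (tilde N)).fromTildeΓ :=
    isIso_fromTildeΓ_homSh R M' N
  haveI i2 : IsIso (RefHull.homSh (tilde M) (tilde N)).fromTildeΓ :=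
    isIso_fromTildeΓ_homSh R M N
  have nat := (Scheme.Modules.fromTildeΓNatTrans (R := R)).naturality
    (homShPre (tilde N) (tilde.map u))
  have h2 : tilde.map (moduleSpecΓFunctor.map (homShPre (tilde N) (tilde.map u))) ≫
      tilde.map (homTopEquiv R M' N).toModuleIso.hom =
      tilde.map (homTopEquiv R M N).toModuleIso.hom ≫ tilde.map (preHom R M M' N u) :=
    (tilde.map_comp _ _).symm.trans
      ((congrArg tilde.map (key_natural R M M' N u)).trans (tilde.map_comp _ _))
  exact nat_aux2 (homShPre (tilde N) (tilde.map u))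
    (RefHull.homSh (tilde M) (tilde N)).fromTildeΓ (RefHull.homSh (tilde M') (tilde N)).fromTildeΓ
    (tilde.map (moduleSpecΓFunctor.map (homShPre (tilde N) (tilde.map u)))) nat
    (tilde.map (homTopEquiv R M N).toModuleIso.hom) (tilde.map (homTopEquiv R M' N).toModuleIso.hom)
    (tilde.map (preHom R M M' N u)) h2

end Groth.Agent.Helper2.HomExt
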