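import Mathlib
import Groth.Agent.Lib.Helper2.HomExt.TildeNat
import Groth.Agent.Lib.Helper2.HomExt.ExtModShift
import Groth.Agent.Lib.Helper2.HomExt.ExtLocFree
import Groth.Agent.Lib.Helper3.RelExtRes
import Groth.Agent.Lib.Helper3.RelExtHyp
import Groth.Agent.Lib.Helper5.QC.TildeExact
import Groth.Agent.Lib.Lead.FLF2

/-!
# The local Ext sheaves of `M~` and `N~` on `Spec R`, `R` Noetherian and `M` finite (helper2)
-/

set_option autoImplicit false
set_option linter.unusedSectionVars false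
set_option linter.style.haveILetI false
universe u

open CategoryTheory CategoryTheory.Limits AlgebraicGeometry TopologicalSpace Opposite Abelian

namespace Groth.Agent.Helper2.HomExt

open Groth.Agent.Helper2.ExtModShift

section gen

theorem paste4 {C : Type*} [Category C] {A₀ A₁ A₂ A₃ A₄ B₀ B₁ B₂ B₃ B₄ : C}
    (a₁ : A₁ ⟶ A₀) [IsIso a₁] (a₂ : A₂ ⟶ A₁) [IsIso a₂] (a₃ : A₂ ⟶ A₃) (a₄ : A₃ ⟶ A₄)
    (b₁ : B₁ ⟶ B₀) [IsIso b₁] (b₂ : B₂ ⟶ B₁) [IsIso b₂] (b₃ : B₂ ⟶ B₃) (b₄ : B₃ ⟶ B₄)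
    (f₀ : A₀ ⟶ B₀) (f₁ : A₁ ⟶ B₁) (f₂ : A₂ ⟶ B₂) (f₃ : A₃ ⟶ B₃) (f₄ : A₄ ⟶ B₄)
    (h₁ : f₁ ≫ b₁ = a₁ ≫ f₀) (h₂ : f₂ ≫ b₂ = a₂ ≫ f₁) (h₃ : f₂ ≫ b₃ = a₃ ≫ f₃)
    (h₄ : f₃ ≫ b₄ = a₄ ≫ f₄) :
    f₀ ≫ (inv b₁ ≫ inv b₂ ≫ b₃ ≫ b₄) = (inv a₁ ≫ inv a₂ ≫ a₃ ≫ a₄) ≫ f₄ := by
  have e₁ : f₀ ≫ inv b₁ = inv a₁ ≫ f₁ := by
    rw [IsIso.comp_inv_eq, Category.assoc, h₁, IsIso.inv_hom_id_assoc]
  have e₂ : f₁ ≫ inv b₂ = inv a₂ ≫ f₂ := by
    rw [IsIso.comp_inv_eq, Category.assoc, h₂, IsIso.inv_hom_id_assoc]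
  rw [reassoc_of% e₁, reassoc_of% e₂, reassoc_of% h₃, h₄]
  simp only [Category.assoc]

/-- cokernels of isomorphic morphisms are isomorphic -/
theorem nonempty_iso_of_exact_epi {C : Type*} [Category C] [Abelian C] {A B Q A' B' Q' : C}
    (a : A ⟶ B) (q : B ⟶ Q) (w : a ≫ q = 0) (hex : (ShortComplex.mk a q w).Exact) (hq : Epi q)
    (a' : A' ⟶ B') (q' : B' ⟶ Q') (w' : a' ≫ q' = 0) (hex' : (ShortComplex.mk a' q' w').Exact)
    (hq' : Epi q') (eA : A ≅ A') (eB : B ≅ B') (comm : a ≫ eB.hom = eA.hom ≫ a') :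
    Nonempty (Q ≅ Q') := by
  haveI : Epi (ShortComplex.mk a q w).g := hq
  haveI : Epi (ShortComplex.mk a' q' w').g := hq'
  have hc : IsColimit (CokernelCofork.ofπ q w) := hex.gIsCokernel
  have hc' : IsColimit (CokernelCofork.ofπ q' w') := hex'.gIsCokernel
  have w1 : a ≫ (eB.hom ≫ q') = 0 := by rw [← Category.assoc, comm, Category.assoc, w', comp_zero]
  have w2 : a' ≫ (eB.inv ≫ q) = 0 := by
    have : a' ≫ eB.inv = eA.inv ≫ a := by
      rw [Iso.eq_inv_comp, ← Category.assoc, ← comm, Category.assoc, Iso.hom_inv_id,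
        Category.comp_id]
    rw [← Category.assoc, this, Category.assoc, w, comp_zero]
  refine ⟨⟨hc.desc (CokernelCofork.ofπ (eB.hom ≫ q') w1),
    hc'.desc (CokernelCofork.ofπ (eB.inv ≫ q) w2), ?_, ?_⟩⟩
  · rw [← cancel_epi q]
    have e1 : q ≫ hc.desc (CokernelCofork.ofπ (eB.hom ≫ q') w1) = eB.hom ≫ q' :=
      hc.fac _ WalkingParallelPair.one
    have e2 : q' ≫ hc'.desc (CokernelCofork.ofπ (eB.inv ≫ q) w2) = eB.inv ≫ q :=
      hc'.fac _ WalkingParallelPair.one
    rw [reassoc_of% e1, e2, Iso.hom_inv_id_assoc, Category.comp_id]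
  · rw [← cancel_epi q']
    have e1 : q ≫ hc.desc (CokernelCofork.ofπ (eB.hom ≫ q') w1) = eB.hom ≫ q' :=
      hc.fac _ WalkingParallelPair.one
    have e2 : q' ≫ hc'.desc (CokernelCofork.ofπ (eB.inv ≫ q) w2) = eB.inv ≫ q :=
      hc'.fac _ WalkingParallelPair.one
    rw [reassoc_of% e2, e1, Iso.inv_hom_id_assoc, Category.comp_id]

end gen

variable (R : CommRingCat.{u})

/-- the category of modules on `Spec R`, as modules on the ringed site -/
abbrev 𝒜 : Type (u + 1) := ModSite.Mod (Spec R).sheaf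

/-- `M ↦ M~`, with values in the modules on the ringed site -/
noncomputable def tl : ModuleCat.{u} R ⥤ 𝒜 R := tilde.functor R

instance tl_additive : (tl R).Additive := by
  have h : (tilde.functor R).Additive := inferInstance
  exact h

instance tl_pfl : PreservesFiniteLimits (tl R) := by
  have h : PreservesFiniteLimits (tilde.functor R) :=
    Groth.Agent.Lib.Helper5.QC.preservesFiniteLimits_tilde
  exact h

instance tl_pfc : PreservesFiniteColimits (tl R) := by
  have h : PreservesFiniteColimits (tilde.functor R) := inferInstance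
  exact h

variable (N : ModuleCat.{u} R)

/-- all modules have an internal Hom -/
instance hasSheafHom_all (M : 𝒜 R) : ModSite.HasSheafHom (O := (Spec R).sheaf) M :=
  Groth.Agent.Helper3.SHomEx.hasSheafHom M

instance hasSheafHom_sch (F : (Spec R).Modules) : ModSite.HasSheafHom (O := (Spec R).sheaf) F :=
  Groth.Agent.Helper3.SHomEx.hasSheafHom F

/-- the internal Hom functors -/
noncomputable abbrev TT : 𝒜 R → (𝒜 R ⥤ 𝒜 R) :=
  fun M => ModSite.sheafHom (O := (Spec R).sheaf) M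

instance TT_additive (M : 𝒜 R) : (TT R M).Additive := ModSite.sheafHom_additive (Spec R).sheaf M

instance TT_pfl (M : 𝒜 R) : PreservesFiniteLimits (TT R M) :=
  Groth.Agent.Helper3.RelExtHyp.preservesFiniteLimits_sheafHom (O := (Spec R).sheaf) M

/-- contravariant functoriality of the internal Hom functors -/
noncomputable abbrev mm {M' M : 𝒜 R} (v : M' ⟶ M) : TT R M ⟶ TT R M' :=
  ExtSupp.sheafHomMap (O := (Spec R).sheaf) v

variable [HasInjectiveResolutions (𝒜 R)]

section Zero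

variable (M M' : ModuleCat.{u} R) [Module.FinitePresentation R M] [Module.FinitePresentation R M']

/-- `ℰxt⁰(M~, N~) ≅ Ext⁰(M, N)~` -/
noncomputable def iso0 :
    ((TT R ((tl R).obj M)).rightDerived 0).obj ((tl R).obj N) ≅
      (tl R).obj (ModuleCat.of R (Ext M N 0)) :=
  (asIso ((TT R ((tl R).obj M)).toRightDerivedZero.app ((tl R).obj N))).symm ≪≫
    (modelIso (tilde M) (tilde N)).symm ≪≫ tildeHomIso R M N ≪≫
    (tilde.functor R).mapIso (hom0 N M).symm.toModuleIso

theorem iso0_natural (u : M' ⟶ M) :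
    (NatTrans.rightDerived (mm R ((tl R).map u)) 0).app ((tl R).obj N) ≫ (iso0 R N M').hom =
      (iso0 R N M).hom ≫ (tl R).map (ModuleCat.ofHom (pre N u 0)) := by
  have h₁ := Groth.Agent.Helper3.RelExtRes.toRightDerivedZero_naturality
    (mm R ((tl R).map u)) ((tl R).obj N)
  have h₂ := homShPre_toModel (tilde M) (tilde N) (tilde.map u)
  have h₃ := tildeHomIso_natural R M M' N u
  have h₄ : tilde.map (preHom R M M' N u) ≫ tilde.map (hom0 N M').symm.toModuleIso.hom =
      tilde.map (hom0 N M).symm.toModuleIso.hom ≫ tilde.map (ModuleCat.ofHom (pre N u 0)) := by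
    rw [← tilde.map_comp, ← tilde.map_comp]
    congr 1
    ext φ
    change (hom0 N M').symm (φ.comp u.hom) = pre N u 0 ((hom0 N M).symm φ)
    rw [LinearEquiv.symm_apply_eq, hom0_pre, LinearEquiv.apply_symm_apply]
  exact @paste4 (𝒜 R) _ _ _ _ _ _ _ _ _ _ _
    ((TT R ((tl R).obj M)).toRightDerivedZero.app ((tl R).obj N)) inferInstance
    (toModel (tilde M) (tilde N)) (isIso_toModel (tilde M) (tilde N)) (tildeHomIso R M N).hom
    (tilde.map (hom0 N M).symm.toModuleIso.hom)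
    ((TT R ((tl R).obj M')).toRightDerivedZero.app ((tl R).obj N)) inferInstance
    (toModel (tilde M') (tilde N)) (isIso_toModel (tilde M') (tilde N)) (tildeHomIso R M' N).hom
    (tilde.map (hom0 N M').symm.toModuleIso.hom)
    _ _ _ _ _ h₁ h₂ h₃ h₄

end Zero

section Main

open Groth.Agent.Helper3.RelExtRes

theorem hypTT (S : ShortComplex (𝒜 R)) (hS : S.ShortExact) :
    Groth.Agent.Helper3.RDLes.Hyp (mm R S.g) (mm R S.f) :=
  fun Q hQ => ⟨Groth.Agent.Helper3.SHomEx.zero S Q,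
    @Groth.Agent.Helper3.SHomEx.shortExact _ _ _ _ S _ _ _ Q hS hQ⟩

theorem isZero_E_free (n : ℕ) (p : ℕ) (hp : 1 ≤ p) :
    IsZero (E (TT R) ((tl R).obj N) p ((tl R).obj (ModuleCat.of R (Fin n → R)))) :=
  isZero_extSh_of_isFinLocFree
    (Groth.Agent.Lead.FLF.tilde_isFinLocFree_of_free (ModuleCat.of R (Fin n → R))) (tilde N) p hp

variable [IsNoetherianRing R]

/-- **the local Ext sheaves of `M~` and `N~`** -/
theorem nonempty_extSh_tilde_iso : ∀ (i : ℕ) (M : Type u) [AddCommGroup M] [Module R M]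
    [Module.Finite R M],
    Nonempty (E (TT R) ((tl R).obj N) i ((tl R).obj (ModuleCat.of R M)) ≅
      (tl R).obj (ModuleCat.of R (Ext (ModuleCat.of R M) N i))) := by
  intro i
  induction i with
  | zero =>
    intro M _ _ _
    haveI : Module.FinitePresentation R (ModuleCat.of R M) :=
      Module.finitePresentation_of_finite R M
    exact ⟨iso0 R N (ModuleCat.of R M)⟩
  | succ p ih =>
    intro M _ _ _
    obtain ⟨n, π, hπ⟩ := Module.Finite.exists_fin' R M
    have hS : π.shortComplexKer.ShortExact := LinearMap.shortExact_shortComplexKer hπ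
    haveI : Projective π.shortComplexKer.X₂ :=
      (IsProjective.iff_projective (R := R) (P := (Fin n → R))).1 inferInstance
    have htS : (π.shortComplexKer.map (tl R)).ShortExact := hS.map_of_exact (tl R)
    haveI : Module.Finite R (LinearMap.ker π) := inferInstance
    cases p with
    | zero =>
      haveI : Module.FinitePresentation R (ModuleCat.of R (Fin n → R)) :=
        Module.finitePresentation_of_finite R _
      haveI : Module.FinitePresentation R (ModuleCat.of R (LinearMap.ker π)) :=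
        Module.finitePresentation_of_finite R _
      obtain ⟨-, -, δ, hδ⟩ := les (TT R) (fun {M' M} u => mm R u) ((tl R).obj N) (hypTT R)
        (π.shortComplexKer.map (tl R)) htS
      obtain ⟨⟨w1, ex1⟩, ⟨w2, ex2⟩⟩ := hδ 0
      have hepi : Epi (δ 0) := ex2.epi_f ((isZero_E_free R N n 1 le_rfl).eq_of_tgt _ _)
      have hex' : ((sc hS N).map (tl R)).Exact := (sc_exact hS N).map (tl R)
      haveI := sc_epi hS N
      have hepi' : Epi ((tl R).map (sc hS N).g) := inferInstance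
      exact nonempty_iso_of_exact_epi _ (δ 0) w1 ex1 hepi
        ((tl R).map (sc hS N).f) ((tl R).map (sc hS N).g) ((sc hS N).map (tl R)).zero hex' hepi'
        (iso0 R N (ModuleCat.of R (Fin n → R))) (iso0 R N (ModuleCat.of R (LinearMap.ker π)))
        (iso0_natural R N (ModuleCat.of R (Fin n → R)) (ModuleCat.of R (LinearMap.ker π))
          π.shortComplexKer.f)
    | succ q =>
      obtain ⟨e1⟩ := shift (TT R) (fun {M' M} u => mm R u) ((tl R).obj N) (hypTT R)
        (π.shortComplexKer.map (tl R)) htS (q + 1)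
        (isZero_E_free R N n (q + 1) (by omega)) (isZero_E_free R N n (q + 1 + 1) (by omega))
      obtain ⟨e2⟩ := ih (LinearMap.ker π)
      exact ⟨e1.symm ≪≫ e2 ≪≫ (tl R).mapIso (shiftEquiv hS N q).toModuleIso⟩

end Main

end Groth.Agent.Helper2.HomExt
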