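import Mathlib
import Groth.Agent.Lib.Helper2.HomExt.Model
import Groth.Agent.Lib.Lead.TilT4
import Groth.Agent.Lib.Lead.BCU4

/-!
# The sheaf Hom commutes with restriction along an open immersion (helper2)

`restrHomSh j F G : (𝓗om(F, G))|_V ⟶ 𝓗om(F|_V, G|_V)` is an isomorphism, natural in `G`.
-/

set_option autoImplicit false
set_option linter.unusedSectionVars false
set_option linter.style.haveILetI false
set_option backward.isDefEq.respectTransparency.types false
universe u

open CategoryTheory CategoryTheory.Limits AlgebraicGeometry TopologicalSpace Opposite MonoidalCategory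

namespace Groth.Agent.Helper2.HomExt

open Groth.Agent.Lead.RH Groth.Agent.Helper1.QcCech Groth.Agent.Helper1.TmulLib
  Groth.Agent.Helper1.TensLib Groth.Agent.Helper1.ProjF

variable {X V : Scheme.{u}} (j : V ⟶ X) [IsOpenImmersion j] (F G : X.Modules)

/-- the comparison morphism `(𝓗om(F, G))|_V ⟶ 𝓗om(F|_V, G|_V)` -/
noncomputable def restrHomSh :
    (Scheme.Modules.restrictFunctor j).obj (RefHull.homSh F G) ⟶
      RefHull.homSh ((Scheme.Modules.restrictFunctor j).obj F)
        ((Scheme.Modules.restrictFunctor j).obj G) :=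
  curry (descP (Groth.Agent.Lead.TilT.pairingRestrict j (evPairing F G)))

theorem app_restrHomSh {W W' : V.Opens} (g : Γ(RefHull.homSh F G, j ''ᵁ W)) (i : W' ≤ W)
    (m : Γ(F, j ''ᵁ W')) :
    Groth.Agent.Lead.RH.app (F := (Scheme.Modules.restrictFunctor j).obj F)
        (G := (Scheme.Modules.restrictFunctor j).obj G)
        ((restrHomSh j F G).app W g) i m =
      Groth.Agent.Lead.RH.app g (j.image_mono i) m := by
  rw [restrHomSh, curry_app, app_curryFun, descP_tm]
  exact app_map g (homOfLE (j.image_mono i)) le_rfl m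


theorem restrHomSh_app_injective (W : V.Opens) :
    Function.Injective ((restrHomSh j F G).app W) := by
  intro g g' h
  apply section_ext_app (F := F) (G := G) (U := j ''ᵁ W)
  intro W₀ i₀ m₀
  obtain ⟨W', rfl⟩ := Groth.Agent.Lead.TilT.exists_image_eq j i₀
  have hW' : W' ≤ W := (Scheme.Hom.image_le_image_iff j W' W).1 i₀
  have e1 := app_restrHomSh j F G g hW' m₀
  have e2 := app_restrHomSh j F G g' hW' m₀
  rw [h] at e1
  exact e1.symm.trans e2

section Surj

variable {j F G}
variable {W : V.Opens}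
  (g' : Γ(RefHull.homSh ((Scheme.Modules.restrictFunctor j).obj F)
    ((Scheme.Modules.restrictFunctor j).obj G), W))

theorem le_image_preimage {W₀ : X.Opens} (i₀ : W₀ ≤ j ''ᵁ W) : W₀ ≤ j ''ᵁ (j ⁻¹ᵁ W₀) := by
  rw [Scheme.Hom.image_preimage_eq_opensRange_inf]
  exact le_inf (i₀.trans (j.image_le_opensRange W)) le_rfl

theorem preimage_le {W₀ : X.Opens} (i₀ : W₀ ≤ j ''ᵁ W) : j ⁻¹ᵁ W₀ ≤ W := by
  have h : j ⁻¹ᵁ W₀ ≤ j ⁻¹ᵁ (j ''ᵁ W) := fun x hx => i₀ hx
  rwa [Scheme.Hom.preimage_image_eq] at h

theorem resR_self' {O : X.Opens} (h : O ≤ O) (r : Γ(X, O)) : resR h r = r := by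
  have : (homOfLE h).op = 𝟙 _ := Subsingleton.elim _ _
  change (X.presheaf.map (homOfLE h).op).hom r = r
  rw [this, CategoryTheory.Functor.map_id]
  rfl

/-- the value of the family on `W₀ ≤ j(W)` -/
noncomputable def restrLocFun {W₀ : X.Opens} (i₀ : W₀ ≤ j ''ᵁ W) (m : Γ(F, W₀)) : Γ(G, W₀) :=
  res G (le_image_preimage i₀)
    (show Γ(G, j ''ᵁ (j ⁻¹ᵁ W₀)) from
      Groth.Agent.Lead.RH.app (F := (Scheme.Modules.restrictFunctor j).obj F)
        (G := (Scheme.Modules.restrictFunctor j).obj G) g' (preimage_le i₀)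
        (show Γ((Scheme.Modules.restrictFunctor j).obj F, j ⁻¹ᵁ W₀) from
          res F (j.image_preimage_le W₀) m))

theorem restrLocFun_add {W₀ : X.Opens} (i₀ : W₀ ≤ j ''ᵁ W) (m m' : Γ(F, W₀)) :
    restrLocFun g' i₀ (m + m') = restrLocFun g' i₀ m + restrLocFun g' i₀ m' := by
  unfold restrLocFun
  rw [map_add]
  have := app_add (F := (Scheme.Modules.restrictFunctor j).obj F)
    (G := (Scheme.Modules.restrictFunctor j).obj G) g' (preimage_le i₀)
    (show Γ((Scheme.Modules.restrictFunctor j).obj F, j ⁻¹ᵁ W₀) from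
      res F (j.image_preimage_le W₀) m)
    (show Γ((Scheme.Modules.restrictFunctor j).obj F, j ⁻¹ᵁ W₀) from
      res F (j.image_preimage_le W₀) m')
  refine (congrArg (res G (le_image_preimage i₀)) this).trans ?_
  exact map_add _ _ _

theorem restrLocFun_res {W₀ W₁ : X.Opens} (i₀ : W₀ ≤ j ''ᵁ W) (h : W₁ ≤ W₀) (m : Γ(F, W₀)) :
    res G h (restrLocFun g' i₀ m) = restrLocFun g' (h.trans i₀) (res F h m) := by
  have k : j ⁻¹ᵁ W₁ ≤ j ⁻¹ᵁ W₀ := fun x hx => h hx
  have e := app_res (F := (Scheme.Modules.restrictFunctor j).obj F)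
    (G := (Scheme.Modules.restrictFunctor j).obj G) g' (preimage_le i₀) k
    (show Γ((Scheme.Modules.restrictFunctor j).obj F, j ⁻¹ᵁ W₀) from
      res F (j.image_preimage_le W₀) m)
  unfold restrLocFun
  rw [res_res, res_res]
  have e' : res F ((j.image_preimage_le W₁).trans h) m =
      ((Scheme.Modules.restrictFunctor j).obj F).presheaf.map (homOfLE k).op
        (show Γ((Scheme.Modules.restrictFunctor j).obj F, j ⁻¹ᵁ W₀) from
          res F (j.image_preimage_le W₀) m) := by
    change _ = res F (j.image_mono k) (res F (j.image_preimage_le W₀) m)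
    rw [res_res]
  rw [e', ← e]
  change _ = res G (le_image_preimage (h.trans i₀)) (res G (j.image_mono k) _)
  rw [res_res]

theorem restrLocFun_smul {W₀ : X.Opens} (i₀ : W₀ ≤ j ''ᵁ W) (r : Γ(X, W₀)) (m : Γ(F, W₀)) :
    restrLocFun g' i₀ (r • m) = r • restrLocFun g' i₀ m := by
  unfold restrLocFun
  rw [res_smul]
  obtain ⟨s, hs⟩ : ∃ s : Γ(V, j ⁻¹ᵁ W₀),
      Groth.Agent.Lead.TilT.ringE j (j ⁻¹ᵁ W₀) s = resR (j.image_preimage_le W₀) r :=
    ⟨(Groth.Agent.Lead.TilT.ringE j (j ⁻¹ᵁ W₀)).symm _, RingEquiv.apply_symm_apply _ _⟩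
  rw [← hs]
  have e := app_smul (F := (Scheme.Modules.restrictFunctor j).obj F)
    (G := (Scheme.Modules.restrictFunctor j).obj G) g' (preimage_le i₀) s
    (show Γ((Scheme.Modules.restrictFunctor j).obj F, j ⁻¹ᵁ W₀) from
      res F (j.image_preimage_le W₀) m)
  refine (congrArg (res G (le_image_preimage i₀)) e).trans ?_
  change res G (le_image_preimage i₀) (Groth.Agent.Lead.TilT.ringE j (j ⁻¹ᵁ W₀) s • _) = _
  rw [res_smul, hs, resR_resR, resR_self']

/-- the compatible family on `j(W)` attached to a section of `𝓗om(F|_V, G|_V)` over `W` -/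
noncomputable def restrLoc : LocHom F G (j ''ᵁ W) where
  app W₀ i₀ :=
    { toFun := restrLocFun g' i₀
      map_zero' := by
        have := restrLocFun_add g' i₀ 0 0
        rw [add_zero] at this
        exact left_eq_add.mp this
      map_add' := restrLocFun_add g' i₀ }
  res W₀ W₁ i₀ h m := restrLocFun_res g' i₀ h m
  smul W₀ i₀ r m := restrLocFun_smul g' i₀ r m

theorem restrHomSh_restrLoc :
    (restrHomSh j F G).app W (restrLoc g').toSection = g' := by
  apply section_ext_app (F := (Scheme.Modules.restrictFunctor j).obj F)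
    (G := (Scheme.Modules.restrictFunctor j).obj G)
  intro W' i m
  rw [app_restrHomSh, LocHom.app_toSection]
  change restrLocFun g' (j.image_mono i) m = _
  unfold restrLocFun
  have k : j ⁻¹ᵁ (j ''ᵁ W') ≤ W' := by rw [Scheme.Hom.preimage_image_eq]
  have e := app_res (F := (Scheme.Modules.restrictFunctor j).obj F)
    (G := (Scheme.Modules.restrictFunctor j).obj G) g' i k m
  have e' : res F (j.image_preimage_le (j ''ᵁ W')) m =
      ((Scheme.Modules.restrictFunctor j).obj F).presheaf.map (homOfLE k).op m := rfl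
  rw [e', ← e]
  change res G (le_image_preimage (j.image_mono i)) (res G (j.image_mono k) _) = _
  rw [res_res, res_self]

end Surj

theorem restrHomSh_app_bijective (W : V.Opens) :
    Function.Bijective ((restrHomSh j F G).app W) :=
  ⟨restrHomSh_app_injective j F G W, fun g' => ⟨_, restrHomSh_restrLoc g'⟩⟩

instance isIso_restrHomSh : IsIso (restrHomSh j F G) := by
  apply Groth.Agent.Lead.BCU.isIso_of_bijective_nhds
  intro U x hx
  exact ⟨U, le_rfl, hx, restrHomSh_app_bijective j F G U⟩

/-- naturality of the comparison in the second variable -/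
theorem restrHomSh_natural {G' : X.Modules} (φ : G ⟶ G') :
    (Scheme.Modules.restrictFunctor j).map (homShMap F φ) ≫ restrHomSh j F G' =
      restrHomSh j F G ≫ homShMap ((Scheme.Modules.restrictFunctor j).obj F)
        ((Scheme.Modules.restrictFunctor j).map φ) := by
  apply Scheme.Modules.hom_ext
  intro W
  ext g
  apply section_ext_app (F := (Scheme.Modules.restrictFunctor j).obj F)
    (G := (Scheme.Modules.restrictFunctor j).obj G')
  intro W' i m
  change Groth.Agent.Lead.RH.app ((restrHomSh j F G').app W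
      ((homShMap F φ).app (j ''ᵁ W) g)) i m =
    Groth.Agent.Lead.RH.app ((homShMap ((Scheme.Modules.restrictFunctor j).obj F)
      ((Scheme.Modules.restrictFunctor j).map φ)).app W ((restrHomSh j F G).app W g)) i m
  rw [app_restrHomSh, app_homShMap, app_homShMap, app_restrHomSh]
  rfl

end Groth.Agent.Helper2.HomExt
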