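import Mathlib
import Groth.Agent.Lib.Helper2.HomExt.RestrIso
import Groth.Agent.Lib.Helper5.Stalk.FlatPull
import Groth.Agent.Lib.Helper1.DeltaComp
import Groth.Agent.Lib.Helper3.RelExtHyp
import Groth.Agent.S11327

/-!
# The local Ext sheaves commute with restriction along an open immersion (helper2)
-/

set_option autoImplicit false
set_option linter.unusedSectionVars false
set_option linter.style.haveILetI false
universe u

open CategoryTheory CategoryTheory.Limits AlgebraicGeometry TopologicalSpace Opposite

namespace Groth.Agent.Helper2.HomExt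

/-- restriction along an isomorphism is an equivalence -/
noncomputable def restrictEquivalence {U V : Scheme.{u}} (e : U ≅ V) : V.Modules ≌ U.Modules :=
  CategoryTheory.Equivalence.mk (Scheme.Modules.restrictFunctor e.hom)
    (Scheme.Modules.restrictFunctor e.inv)
    (Scheme.Modules.restrictFunctorId.symm ≪≫
      Scheme.Modules.restrictFunctorCongr e.inv_hom_id.symm ≪≫
      Scheme.Modules.restrictFunctorComp e.inv e.hom)
    ((Scheme.Modules.restrictFunctorComp e.hom e.inv).symm ≪≫
      Scheme.Modules.restrictFunctorCongr e.hom_inv_id ≪≫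
      Scheme.Modules.restrictFunctorId)

theorem nat_aux {C D : Type*} [Category C] [Category D] (R : C ⥤ D) {A A' H H' : C}
    {B B' K K' : D} (t : A ⟶ H) [IsIso t] (t' : A' ⟶ H') [IsIso t'] (hm : A ⟶ A') (mφ : H ⟶ H')
    (h0 : hm ≫ t' = t ≫ mφ) (Φ : R.obj A ⟶ B) (Φ' : R.obj A' ⟶ B') (hm' : B ⟶ B')
    (h2 : R.map hm ≫ Φ' = Φ ≫ hm') (T : B ⟶ K) (T' : B' ⟶ K') (mψ : K ⟶ K')
    (h3 : hm' ≫ T' = T ≫ mψ) :
    R.map mφ ≫ (R.map (inv t') ≫ Φ' ≫ T') = (R.map (inv t) ≫ Φ ≫ T) ≫ mψ := by
  have h1 : mφ ≫ inv t' = inv t ≫ hm := by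
    rw [IsIso.comp_inv_eq, Category.assoc, h0, IsIso.inv_hom_id_assoc]
  have h1' := congrArg R.map h1
  rw [Functor.map_comp, Functor.map_comp] at h1'
  rw [reassoc_of% h1', reassoc_of% h2, h3]
  simp only [Category.assoc]

variable {X V : Scheme.{u}} (j : V ⟶ X) [IsOpenImmersion j]

/-- the restriction of an injective module along an open immersion is injective -/
theorem injective_restrict (I : X.Modules) (hI : Injective I) :
    Injective ((Scheme.Modules.restrictFunctor j).obj I) := by
  have hj : j.isoOpensRange.hom ≫ j.opensRange.ι = j := j.isoOpensRange_hom_ι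
  have h1 : Injective (I.restrict j.opensRange.ι) := Groth.Agent.S11327.result X j.opensRange I hI
  have h2 : Injective ((Scheme.Modules.restrictFunctor j.isoOpensRange.hom).obj
      (I.restrict j.opensRange.ι)) := by
    let E := restrictEquivalence j.isoOpensRange
    exact Injective.injective_of_adjoint E.symm.toAdjunction (I.restrict j.opensRange.ι)
  exact Injective.of_iso
    (((Scheme.Modules.restrictFunctorCongr hj.symm) ≪≫
      Scheme.Modules.restrictFunctorComp j.isoOpensRange.hom j.opensRange.ι).app I).symm h2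

variable (F : X.Modules) [ModSite.HasSheafHom (O := X.sheaf) F]
  [ModSite.HasSheafHom (O := V.sheaf) ((Scheme.Modules.restrictFunctor j).obj F)]

/-- `𝓗om(F, -)|_V ≅ 𝓗om(F|_V, (-)|_V)` -/
noncomputable def sheafHomRestrictIso :
    ModSite.sheafHom (O := X.sheaf) F ⋙ Scheme.Modules.restrictFunctor j ≅
      Scheme.Modules.restrictFunctor j ⋙
        ModSite.sheafHom (O := V.sheaf) ((Scheme.Modules.restrictFunctor j).obj F) :=
  NatIso.ofComponents
    (fun (G : X.Modules) => (Scheme.Modules.restrictFunctor j).mapIso (modelIso F G).symm ≪≫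
      asIso (restrHomSh j F G) ≪≫
      modelIso ((Scheme.Modules.restrictFunctor j).obj F) ((Scheme.Modules.restrictFunctor j).obj G))
    (by
      intro (G : X.Modules) (G' : X.Modules) (φ : G ⟶ G')
      exact nat_aux (Scheme.Modules.restrictFunctor j) (toModel F G) (toModel F G') (homShMap F φ)
        ((ModSite.sheafHom (O := X.sheaf) F).map φ) (homShMap_toModel F φ)
        (restrHomSh j F G) (restrHomSh j F G')
        (homShMap ((Scheme.Modules.restrictFunctor j).obj F)
          ((Scheme.Modules.restrictFunctor j).map φ)) (restrHomSh_natural j F G φ)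
        (toModel _ _) (toModel _ _)
        ((ModSite.sheafHom (O := V.sheaf) ((Scheme.Modules.restrictFunctor j).obj F)).map
          ((Scheme.Modules.restrictFunctor j).map φ))
        (homShMap_toModel ((Scheme.Modules.restrictFunctor j).obj F)
          ((Scheme.Modules.restrictFunctor j).map φ)))

variable [HasInjectiveResolutions (ModSite.Mod X.sheaf)]
  [HasInjectiveResolutions (ModSite.Mod V.sheaf)]

/-- **the local Ext sheaves commute with restriction along an open immersion** -/
theorem nonempty_restrict_extSh_iso (G : X.Modules) (i : ℕ) :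
    Nonempty ((Scheme.Modules.restrictFunctor j).obj ((ModSite.extSh (O := X.sheaf) F i).obj G) ≅
      (ModSite.extSh (O := V.sheaf) ((Scheme.Modules.restrictFunctor j).obj F) i).obj
        ((Scheme.Modules.restrictFunctor j).obj G)) := by
  haveI : (ModSite.sheafHom (O := X.sheaf) F).Additive := ModSite.sheafHom_additive X.sheaf F
  haveI : (ModSite.sheafHom (O := V.sheaf) ((Scheme.Modules.restrictFunctor j).obj F)).Additive :=
    ModSite.sheafHom_additive V.sheaf _
  haveI : PreservesFiniteLimits (ModSite.sheafHom (O := X.sheaf) F) :=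
    Groth.Agent.Helper3.RelExtHyp.preservesFiniteLimits_sheafHom (O := X.sheaf) F
  haveI : PreservesFiniteLimits
      (ModSite.sheafHom (O := V.sheaf) ((Scheme.Modules.restrictFunctor j).obj F)) :=
    Groth.Agent.Helper3.RelExtHyp.preservesFiniteLimits_sheafHom (O := V.sheaf) _
  let R : ModSite.Mod X.sheaf ⥤ ModSite.Mod V.sheaf := Scheme.Modules.restrictFunctor j
  haveI hRa : R.Additive := (Scheme.Modules.restrictAdjunction j).left_adjoint_additive
  haveI hRl : PreservesFiniteLimits R :=
    Groth.Agent.Lib.Helper5.StalkAdj.preservesFiniteLimits_restrictFunctor j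
  haveI hRc : PreservesFiniteColimits R :=
    Groth.Agent.Lib.Helper5.StalkAdj.preservesFiniteColimits_restrictFunctor j
  exact Groth.Agent.Helper1.DeltaComp.nonempty_iso
    (A := ModSite.Mod X.sheaf) (A' := ModSite.Mod X.sheaf) (B := ModSite.Mod V.sheaf)
    (B' := ModSite.Mod V.sheaf)
    (ModSite.sheafHom (O := X.sheaf) F)
    (ModSite.sheafHom (O := V.sheaf) ((Scheme.Modules.restrictFunctor j).obj F))
    R R
    (sheafHomRestrictIso j F)
    (fun I hI n => by
      haveI : Injective (R.obj I) := injective_restrict j I hI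
      exact Functor.isZero_rightDerived_obj_injective_succ _ n _) G i

end Groth.Agent.Helper2.HomExt
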