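import Mathlib
import Groth.Agent.Lib.Helper2.HomExt.ExtTilde
import Groth.Agent.Lib.Helper2.HomExt.RestrExt
import Groth.Agent.Lib.Helper2.HomExt.ExtShDual
import Groth.Agent.Lib.Lead.TilT5

/-!
# The local Ext sheaves of a coherent module on affine charts (helper2)
-/

set_option autoImplicit false
set_option linter.unusedSectionVars false
set_option linter.style.haveILetI false
set_option backward.isDefEq.respectTransparency.types false
universe u

open CategoryTheory CategoryTheory.Limits AlgebraicGeometry TopologicalSpace Opposite Abelian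

namespace Groth.Agent.Helper2.HomExt

open Groth.Agent.Lead.TilT

variable {X : Scheme.{u}} (F G : X.Modules)

/-- modules on a scheme have injective resolutions -/
theorem hasInjectiveResolutions_modSite (Y : Scheme.{u}) :
    HasInjectiveResolutions (ModSite.Mod Y.sheaf) := by
  haveI : EnoughInjectives Y.Modules := IsGrothendieckAbelian.enoughInjectives.{u}
  have h : HasInjectiveResolutions Y.Modules := inferInstance
  exact h

/-- **the local Ext sheaves on an affine chart**: for `F` coherent and `G` quasi-coherent, the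
restriction of `ℰxt^i(F, G)` to a Noetherian affine chart `Spec R` is `Ext^i_R(F(Spec R), G(Spec R))~` -/
theorem nonempty_restrict_extSh_iso_tilde (hF : Coh.IsCoh F) [G.IsQuasicoherent]
    {R : CommRingCat.{u}} [IsNoetherianRing R] (j : Spec R ⟶ X) [IsOpenImmersion j]
    [ModSite.HasSheafHom (O := X.sheaf) F] [HasInjectiveResolutions (ModSite.Mod X.sheaf)] (i : ℕ) :
    Nonempty ((Scheme.Modules.restrictFunctor j).obj ((ModSite.extSh (O := X.sheaf) F i).obj G) ≅
      tilde (ModuleCat.of R (Ext (ModuleCat.of R Γ(F.restrict j, (⊤ : (Spec R).Opens)))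
        (ModuleCat.of R Γ(G.restrict j, (⊤ : (Spec R).Opens))) i))) := by
  haveI := hF.1
  haveI : F.IsQuasicoherent := hF.1
  haveI := hasInjectiveResolutions_modSite (Spec R)
  haveI hfin : Module.Finite R Γ(F.restrict j, (⊤ : (Spec R).Opens)) :=
    Groth.Agent.Helper1.AffFin.finite_restrict F hF.1 hF.2 j
  obtain ⟨e1⟩ := nonempty_restrict_extSh_iso j F G i
  obtain ⟨e2⟩ := nonempty_extSh_congr (O := (Spec R).sheaf) (chartIso F j)
    ((Scheme.Modules.restrictFunctor j).obj G) i
  have e3 := (ModSite.extSh (O := (Spec R).sheaf) (tilde (chartMod F j)) i).mapIso (chartIso G j)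
  obtain ⟨e4⟩ := nonempty_extSh_tilde_iso R (chartMod G j) i Γ(F.restrict j, (⊤ : (Spec R).Opens))
  exact ⟨e1 ≪≫ e2 ≪≫ e3 ≪≫ e4⟩


/-- **the local Ext sheaves of coherent modules on a locally Noetherian scheme are coherent** -/
theorem isCoh_extSh [IsLocallyNoetherian X] (hF : Coh.IsCoh F) (hG : Coh.IsCoh G)
    [ModSite.HasSheafHom (O := X.sheaf) F] [HasInjectiveResolutions (ModSite.Mod X.sheaf)] (i : ℕ) :
    Coh.IsCoh ((ModSite.extSh (O := X.sheaf) F i).obj G) := by
  haveI : G.IsQuasicoherent := hG.1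
  obtain ⟨H, hH⟩ : ∃ H : X.Modules, H = (ModSite.extSh (O := X.sheaf) F i).obj G := ⟨_, rfl⟩
  have key : ∀ V : X.affineOpens, ∃ E : ModuleCat.{u} Γ(X, V.1), Module.Finite Γ(X, V.1) E ∧
      Nonempty (H.restrict V.2.fromSpec ≅ tilde E) := by
    intro V
    haveI : IsNoetherianRing Γ(X, V.1) := IsLocallyNoetherian.component_noetherian V
    obtain ⟨e⟩ := nonempty_restrict_extSh_iso_tilde F G hF V.2.fromSpec i
    haveI : Module.Finite Γ(X, V.1) Γ(F.restrict V.2.fromSpec, (⊤ : (Spec Γ(X, V.1)).Opens)) :=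
      Groth.Agent.Helper1.AffFin.finite_restrict F hF.1 hF.2 V.2.fromSpec
    haveI : Module.Finite Γ(X, V.1) Γ(G.restrict V.2.fromSpec, (⊤ : (Spec Γ(X, V.1)).Opens)) :=
      Groth.Agent.Helper1.AffFin.finite_restrict G hG.1 hG.2 V.2.fromSpec
    subst hH
    refine ⟨_, ?_, ⟨e⟩⟩
    exact ModuleCat.finite_ext Γ(X, V.1) _ _ i
  rw [← hH]
  have hq : H.IsQuasicoherent := by
    refine Groth.Agent.Helper1.QCohLib.isQuasicoherent_of_affine_charts H (I := X.affineOpens)
      (fun V => Γ(X, V.1)) (fun V => V.2.fromSpec) iSup_opensRange_fromSpec (fun V => ?_)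
    obtain ⟨E, -, ⟨e⟩⟩ := key V
    exact isIso_fromTildeΓ_iff.2 ⟨_, ⟨e.symm⟩⟩
  refine ⟨hq, ?_⟩
  haveI := hq
  refine Groth.Agent.Helper1.FtLocal.isFiniteType_of_affine_charts H (I := X.affineOpens)
    (fun V => Γ(X, V.1)) (fun V => V.2.fromSpec) iSup_opensRange_fromSpec (fun V => ?_)
  obtain ⟨E, hE, ⟨e⟩⟩ := key V
  haveI := hE
  haveI := finite_tilde_top E
  exact Module.Finite.equiv (sectionsEquivOfIso e ⊤).symm

end Groth.Agent.Helper2.HomExt
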