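import Mathlib
import Groth.Agent.Lib.Helper5.Misc.ClosedEmbSh
import Groth.Agent.Lib.Helper5.Misc.ClosedPushMod
import Groth.Agent.Lib.Helper1.PushQc

/-!
# The direct image of modules along a closed immersion is fully faithful (helper2)
-/

set_option autoImplicit false
set_option linter.unusedSectionVars false
set_option linter.style.haveILetI false
universe u

open CategoryTheory CategoryTheory.Limits AlgebraicGeometry TopologicalSpace Opposite

namespace Groth.Agent.Helper2.HomExt.ClImm

open Groth.Agent.Lib.Helper5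

variable {X P : Scheme.{u}} (ι : X ⟶ P) [IsClosedImmersion ι]

theorem exists_preimage_eq (V : X.Opens) : ∃ U : P.Opens, ι ⁻¹ᵁ U = V := by
  obtain ⟨U, hU, hUV⟩ := (ι.isClosedEmbedding.isInducing.isOpen_iff).1 V.isOpen
  exact ⟨⟨U, hU⟩, Opens.ext hUV⟩

/-- every point of an open of `X` has a neighbourhood which is the preimage of an affine open -/
theorem exists_affine_preimage_le (V : X.Opens) (x : X) (hx : x ∈ V) :
    ∃ U : P.Opens, IsAffineOpen U ∧ x ∈ ι ⁻¹ᵁ U ∧ ι ⁻¹ᵁ U ≤ V := by
  obtain ⟨U₀, rfl⟩ := exists_preimage_eq ι V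
  obtain ⟨_, ⟨U, hU, rfl⟩, hxU, hUU₀⟩ :=
    P.isBasis_affineOpens.exists_subset_of_mem_open (show ι x ∈ (U₀ : Set P) from hx) U₀.isOpen
  exact ⟨U, hU, hxU, fun y hy => hUU₀ hy⟩

variable {A B : X.Modules}

/-- the underlying sheaves of abelian groups -/
noncomputable abbrev toSh (A : X.Modules) : TopCat.Sheaf AddCommGrpCat.{u} X :=
  (SheafOfModules.toSheaf X.ringCatSheaf).obj A

section full

variable (φ : (Scheme.Modules.pushforward ι).obj A ⟶ (Scheme.Modules.pushforward ι).obj B)

/-- the morphism of abelian sheaves underlying the preimage of `φ` -/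
noncomputable def g₀ : toSh A ⟶ toSh B :=
  (ClosedEmbSh.fullyFaithfulPushforward ι.base ι.isClosedEmbedding AddCommGrpCat.{u}).preimage
    (X := toSh A) (Y := toSh B) ((SheafOfModules.toSheaf P.ringCatSheaf).map φ)

lemma g₀_spec :
    (TopCat.Sheaf.pushforward AddCommGrpCat.{u} ι.base).map (g₀ ι φ) =
      (SheafOfModules.toSheaf P.ringCatSheaf).map φ :=
  (ClosedEmbSh.fullyFaithfulPushforward ι.base ι.isClosedEmbedding AddCommGrpCat.{u}).map_preimage _

lemma g₀_app (U : P.Opens) (m : Γ(A, ι ⁻¹ᵁ U)) :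
    (g₀ ι φ).hom.app (op (ι ⁻¹ᵁ U)) m = φ.app U m := by
  have h := congrArg (fun ψ => (ψ.hom.app (op U)).hom m) (g₀_spec ι φ)
  exact h

/-- naturality of `g₀` with respect to restriction -/
lemma g₀_res {V W : X.Opens} (h : W ≤ V) (m : Γ(A, V)) :
    (g₀ ι φ).hom.app (op W) (A.presheaf.map (homOfLE h).op m) =
      B.presheaf.map (homOfLE h).op ((g₀ ι φ).hom.app (op V) m) :=
  ConcreteCategory.congr_hom ((g₀ ι φ).hom.naturality (homOfLE h).op) m

/-- `g₀` is `O_X`-linear -/
lemma g₀_smul (V : X.Opens) (r : Γ(X, V)) (m : Γ(A, V)) :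
    (g₀ ι φ).hom.app (op V) (r • m) = r • (show Γ(B, V) from (g₀ ι φ).hom.app (op V) m) := by
  choose U hU hxU hUV using fun x : V => exists_affine_preimage_le ι V x.1 x.2
  apply TopCat.Sheaf.eq_of_locally_eq' (⟨B.presheaf, B.isSheaf⟩ : TopCat.Sheaf Ab X)
    (fun x : V => ι ⁻¹ᵁ U x) V (fun x => homOfLE (hUV x))
  · intro x hx
    exact Opens.mem_iSup.2 ⟨⟨x, hx⟩, hxU ⟨x, hx⟩⟩
  · intro x
    obtain ⟨r', hr'⟩ := Scheme.Hom.app_surjective ι (U x) (hU x)
      (X.presheaf.map (homOfLE (hUV x)).op r)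
    change B.presheaf.map (homOfLE (hUV x)).op ((g₀ ι φ).hom.app (op V) (r • m)) =
      B.presheaf.map (homOfLE (hUV x)).op (r • (show Γ(B, V) from (g₀ ι φ).hom.app (op V) m))
    rw [← g₀_res, Scheme.Modules.map_smul, Scheme.Modules.map_smul, ← g₀_res, ← hr']
    let m' : Γ((Scheme.Modules.pushforward ι).obj A, U x) :=
      A.presheaf.map (homOfLE (hUV x)).op m
    have h1 := g₀_app ι φ (U x) (r' • m')
    have h2 := Scheme.Modules.Hom.app_smul φ r' m'
    have h3 := g₀_app ι φ (U x) m'
    rw [h2] at h1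
    rw [← h3] at h1
    exact h1

/-- the preimage of `φ` under the direct image functor -/
noncomputable def g : A ⟶ B :=
  ⟨PresheafOfModules.homMk (M₁ := A.val) (M₂ := B.val) (g₀ ι φ).hom
    (fun V r m => g₀_smul ι φ V.unop r m)⟩

lemma map_g : (Scheme.Modules.pushforward ι).map (g ι φ) = φ := by
  apply Scheme.Modules.hom_ext
  intro U
  ext m
  exact g₀_app ι φ U m

end full

instance full_pushforward : (Scheme.Modules.pushforward ι).Full where
  map_surjective φ := ⟨g ι φ, map_g ι φ⟩

instance faithful_pushforward : (Scheme.Modules.pushforward ι).Faithful where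
  map_injective {A B} f g h := by
    apply Scheme.Modules.hom_ext
    intro V
    obtain ⟨U, rfl⟩ := exists_preimage_eq ι V
    exact congrArg (fun ψ => Scheme.Modules.Hom.app ψ U) h

/-- the direct image along a closed immersion is fully faithful -/
noncomputable def fullyFaithfulPushforward : (Scheme.Modules.pushforward ι).FullyFaithful :=
  Functor.FullyFaithful.ofFullyFaithful _

/-- modules with isomorphic direct images are isomorphic -/
theorem nonempty_iso_of_push_iso {A B : X.Modules}
    (e : (Scheme.Modules.pushforward ι).obj A ≅ (Scheme.Modules.pushforward ι).obj B) :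
    Nonempty (A ≅ B) :=
  ⟨(fullyFaithfulPushforward ι).preimageIso e⟩

end Groth.Agent.Helper2.HomExt.ClImm
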