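import Mathlib
import Groth.Agent.Lib.Helper2.HomExt.LocFreeExact
import Groth.Agent.Lib.Lead.BCU4

/-!
# `G ⊗ E^∨ ≅ 𝓗om(E, G)` for `E` with local bases (helper2)
-/

set_option autoImplicit false
set_option linter.unusedSectionVars false
set_option linter.style.haveILetI false
universe u

open CategoryTheory CategoryTheory.Limits AlgebraicGeometry TopologicalSpace Opposite MonoidalCategory

namespace Groth.Agent.Helper2.HomExt

open Groth.Agent.Lead.RH Groth.Agent.Helper1.QcCech Groth.Agent.Helper1.TmulLib
  Groth.Agent.Helper1.TensLib Groth.Agent.Helper1.ProjF Groth.Agent.Helper1.PFrame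

variable {X : Scheme.{u}}

/-- sections of the structure module as functions -/
def fn {V : X.Opens} (m : Γ(Coh.structureModule X, V)) : Γ(X, V) := m

theorem fn_add {V : X.Opens} (m m' : Γ(Coh.structureModule X, V)) : fn (m + m') = fn m + fn m' :=
  rfl

theorem fn_zero {V : X.Opens} : fn (0 : Γ(Coh.structureModule X, V)) = 0 := rfl

theorem fn_smul {V : X.Opens} (r : Γ(X, V)) (m : Γ(Coh.structureModule X, V)) :
    fn (r • m) = r * fn m := rfl

theorem fn_res {V V' : X.Opens} (h : V' ≤ V) (m : Γ(Coh.structureModule X, V)) :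
    fn (res (Coh.structureModule X) h m) = resR h (fn m) := rfl

theorem fn_injective {V : X.Opens} : Function.Injective (fn (X := X) (V := V)) := fun _ _ h => h

section AppHom

variable {F G : X.Modules}

theorem app_zero_right {U V : X.Opens} (g : Γ(RefHull.homSh F G, U)) (i : V ≤ U) :
    Groth.Agent.Lead.RH.app g i 0 = 0 := by
  have := app_add g i 0 0
  rw [add_zero] at this
  exact left_eq_add.mp this

/-- evaluation at a section, as an additive map in the section of the sheaf Hom -/
noncomputable def appLeftHom {U V : X.Opens} (i : V ≤ U) (m : Γ(F, V)) :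
    Γ(RefHull.homSh F G, U) →+ Γ(G, V) where
  toFun g := Groth.Agent.Lead.RH.app g i m
  map_zero' := app_zero i m
  map_add' g g' := app_add_left g g' i m

theorem app_sum_left {U V : X.Opens} (i : V ≤ U) (m : Γ(F, V)) {ι : Type*} (s : Finset ι)
    (g : ι → Γ(RefHull.homSh F G, U)) :
    Groth.Agent.Lead.RH.app (∑ j ∈ s, g j) i m = ∑ j ∈ s, Groth.Agent.Lead.RH.app (g j) i m :=
  map_sum (appLeftHom (G := G) i m) g s

/-- a section of the sheaf Hom over an open inside a basis open is determined on the basis -/
theorem app_eq_sum_coord' {E : X.Modules} {n : ℕ} {W : X.Opens} {b : Fin n → Γ(E, W)}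
    (hb : IsBasisOn E W b) {U V₀ : X.Opens} (g : Γ(RefHull.homSh E G, U)) (h₀ : V₀ ≤ W)
    (h₀U : V₀ ≤ U) (V : X.Opens) (i : V ≤ V₀) (m : Γ(E, V)) :
    Groth.Agent.Lead.RH.app g (i.trans h₀U) m =
      ∑ j, (coordEquiv hb V (i.trans h₀)).symm m j •
        res G i (Groth.Agent.Lead.RH.app g h₀U (res E h₀ (b j))) := by
  conv_lhs => rw [← (coordEquiv hb V (i.trans h₀)).apply_symm_apply m, coordEquiv_apply]
  change (LocHom.ofSection g).app V (i.trans h₀U) _ = _
  rw [map_sum]
  refine Finset.sum_congr rfl fun j _ => ?_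
  change Groth.Agent.Lead.RH.app g (i.trans h₀U) _ = _
  rw [app_smul]
  congr 1
  have := app_res g h₀U i (res E h₀ (b j))
  refine Eq.trans ?_ this.symm
  congr 1
  exact (res_res E h₀ i (b j)).symm

/-- sections of the sheaf Hom over an open inside a basis open are determined by their values on
the basis -/
theorem section_ext_basis {E : X.Modules} {n : ℕ} {W : X.Opens} {b : Fin n → Γ(E, W)}
    (hb : IsBasisOn E W b) {V : X.Opens} (h : V ≤ W) (g g' : Γ(RefHull.homSh E G, V))
    (hgg : ∀ j, Groth.Agent.Lead.RH.app g le_rfl (res E h (b j)) =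
      Groth.Agent.Lead.RH.app g' le_rfl (res E h (b j))) : g = g' := by
  apply section_ext_app
  intro V' i m
  have h1 := app_eq_sum_coord' hb g h le_rfl V' i m
  have h2 := app_eq_sum_coord' hb g' h le_rfl V' i m
  rw [h1, h2]
  refine Finset.sum_congr rfl fun j _ => ?_
  rw [hgg j]

end AppHom

section Coord

variable {E : X.Modules} {n : ℕ} {W : X.Opens} {b : Fin n → Γ(E, W)}

theorem coordEquiv_symm_basis (hb : IsBasisOn E W b) {V : X.Opens} (i : V ≤ W) (k : Fin n) :
    (coordEquiv hb V i).symm (res E i (b k)) = Pi.single k 1 := by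
  rw [LinearEquiv.symm_apply_eq, coordEquiv_apply]
  rw [Finset.sum_eq_single k]
  · rw [Pi.single_eq_same, one_smul]
  · intro j _ hj
    rw [Pi.single_eq_of_ne hj, zero_smul]
  · intro hk
    exact absurd (Finset.mem_univ k) hk

/-- the coordinate functions of a local basis, as a compatible family -/
noncomputable def coordLoc (hb : IsBasisOn E W b) (j : Fin n) :
    LocHom E (Coh.structureModule X) W where
  app V i :=
    { toFun := fun m => (show Γ(Coh.structureModule X, V) from (coordEquiv hb V i).symm m j)
      map_zero' := by rw [map_zero]; rfl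
      map_add' := fun m m' => by rw [map_add]; rfl }
  res V V' hV h m := by
    change res (Coh.structureModule X) h
        (show Γ(Coh.structureModule X, V) from (coordEquiv hb V hV).symm m j) =
      (show Γ(Coh.structureModule X, V') from (coordEquiv hb V' (h.trans hV)).symm (res E h m) j)
    rw [coordEquiv_symm_res]
    rfl
  smul V hV r m := by
    change (show Γ(Coh.structureModule X, V) from (coordEquiv hb V hV).symm (r • m) j) =
      r • (show Γ(Coh.structureModule X, V) from (coordEquiv hb V hV).symm m j)
    rw [map_smul]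
    rfl

/-- the dual basis of a local basis -/
noncomputable def dualBasis (hb : IsBasisOn E W b) (j : Fin n) : Γ(RefHull.dual E, W) :=
  (coordLoc hb j).toSection

theorem fn_app_dualBasis (hb : IsBasisOn E W b) (j : Fin n) {V : X.Opens} (i : V ≤ W)
    (m : Γ(E, V)) :
    fn (Groth.Agent.Lead.RH.app (dualBasis hb j) i m) = (coordEquiv hb V i).symm m j := by
  rw [dualBasis, LocHom.app_toSection]
  rfl

theorem fn_app_res_dualBasis (hb : IsBasisOn E W b) (j k : Fin n) {V : X.Opens} (h : V ≤ W) :
    fn (Groth.Agent.Lead.RH.app (res (RefHull.dual E) h (dualBasis hb j)) le_rfl (res E h (b k))) =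
      if j = k then 1 else 0 := by
  have h1 : Groth.Agent.Lead.RH.app (res (RefHull.dual E) h (dualBasis hb j)) le_rfl
      (res E h (b k)) = Groth.Agent.Lead.RH.app (dualBasis hb j) h (res E h (b k)) :=
    app_map (dualBasis hb j) (homOfLE h) le_rfl (res E h (b k))
  rw [h1, fn_app_dualBasis, coordEquiv_symm_basis, Pi.single_apply]

/-- evaluation of a combination of the dual basis on a basis element -/
theorem fn_app_sum_dualBasis (hb : IsBasisOn E W b) {V : X.Opens} (h : V ≤ W)
    (r : Fin n → Γ(X, V)) (k : Fin n) :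
    fn (Groth.Agent.Lead.RH.app (∑ j, r j • res (RefHull.dual E) h (dualBasis hb j)) le_rfl
      (res E h (b k))) = r k := by
  rw [app_sum_left]
  have h1 : ∀ j, Groth.Agent.Lead.RH.app (r j • res (RefHull.dual E) h (dualBasis hb j)) le_rfl
      (res E h (b k)) = r j • Groth.Agent.Lead.RH.app (res (RefHull.dual E) h (dualBasis hb j))
        le_rfl (res E h (b k)) := by
    intro j
    rw [app_smul_left]
    congr 1
    have hid : (homOfLE (le_refl V)).op = 𝟙 (op V) := Subsingleton.elim _ _
    rw [hid, X.presheaf.map_id]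
    rfl
  simp_rw [h1]
  have h2 : fn (∑ j, r j • Groth.Agent.Lead.RH.app (res (RefHull.dual E) h (dualBasis hb j))
      le_rfl (res E h (b k))) = ∑ j, r j * fn (Groth.Agent.Lead.RH.app
        (res (RefHull.dual E) h (dualBasis hb j)) le_rfl (res E h (b k))) := rfl
  rw [h2]
  simp_rw [fn_app_res_dualBasis]
  rw [Finset.sum_eq_single k]
  · rw [if_pos rfl, mul_one]
  · intro j _ hj
    rw [if_neg hj, mul_zero]
  · intro hk
    exact absurd (Finset.mem_univ k) hk

/-- the dual basis is a local basis of the dual -/
theorem isBasisOn_dualBasis (hb : IsBasisOn E W b) :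
    IsBasisOn (RefHull.dual E) W (dualBasis hb) := by
  intro V h
  constructor
  · intro r r' hrr
    funext k
    have h1 := fn_app_sum_dualBasis hb h r k
    have h2 := fn_app_sum_dualBasis hb h r' k
    rw [← h1, ← h2]
    exact congrArg (fun l => fn (Groth.Agent.Lead.RH.app l le_rfl (res E h (b k)))) hrr
  · intro l
    refine ⟨fun k => fn (Groth.Agent.Lead.RH.app l le_rfl (res E h (b k))), ?_⟩
    apply section_ext_basis hb h
    intro k
    apply fn_injective
    exact fn_app_sum_dualBasis hb h _ k

end Coord

section Pair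

variable (E G : X.Modules)

/-- the compatible family `e ↦ l(e) • g` -/
noncomputable def pairLoc {U : X.Opens} (g : Γ(G, U)) (l : Γ(RefHull.dual E, U)) :
    LocHom E G U where
  app V i :=
    { toFun := fun m => fn (Groth.Agent.Lead.RH.app l i m) • res G i g
      map_zero' := by rw [app_zero_right, fn_zero, zero_smul]
      map_add' := fun m m' => by rw [app_add, fn_add, add_smul] }
  res V V' hV h m := by
    change res G h (fn (Groth.Agent.Lead.RH.app l hV m) • res G hV g) =
      fn (Groth.Agent.Lead.RH.app l (h.trans hV) (res E h m)) • res G (h.trans hV) g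
    rw [res_smul, res_res, ← fn_res]
    congr 2
    exact app_res l hV h m
  smul V hV r m := by
    change fn (Groth.Agent.Lead.RH.app l hV (r • m)) • res G hV g =
      r • (fn (Groth.Agent.Lead.RH.app l hV m) • res G hV g)
    rw [app_smul, fn_smul, mul_smul]

/-- the section `e ↦ l(e) • g` of the sheaf Hom -/
noncomputable def pairSec {U : X.Opens} (g : Γ(G, U)) (l : Γ(RefHull.dual E, U)) :
    Γ(RefHull.homSh E G, U) :=
  (pairLoc E G g l).toSection

theorem app_pairSec {U V : X.Opens} (g : Γ(G, U)) (l : Γ(RefHull.dual E, U)) (i : V ≤ U)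
    (m : Γ(E, V)) :
    Groth.Agent.Lead.RH.app (pairSec E G g l) i m =
      fn (Groth.Agent.Lead.RH.app l i m) • res G i g :=
  LocHom.app_toSection _ i m

theorem pairSec_add_left {U : X.Opens} (g g' : Γ(G, U)) (l : Γ(RefHull.dual E, U)) :
    pairSec E G (g + g') l = pairSec E G g l + pairSec E G g' l := by
  apply section_ext_app
  intro V i m
  rw [app_add_left, app_pairSec, app_pairSec, app_pairSec, map_add, smul_add]

theorem pairSec_smul_left {U : X.Opens} (a : Γ(X, U)) (g : Γ(G, U)) (l : Γ(RefHull.dual E, U)) :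
    pairSec E G (a • g) l = a • pairSec E G g l := by
  apply section_ext_app
  intro V i m
  rw [app_smul_left, app_pairSec, app_pairSec, res_smul, smul_comm]
  rfl

theorem pairSec_add_right {U : X.Opens} (g : Γ(G, U)) (l l' : Γ(RefHull.dual E, U)) :
    pairSec E G g (l + l') = pairSec E G g l + pairSec E G g l' := by
  apply section_ext_app
  intro V i m
  rw [app_add_left, app_pairSec, app_pairSec, app_pairSec, app_add_left, fn_add, add_smul]

theorem pairSec_smul_right {U : X.Opens} (a : Γ(X, U)) (g : Γ(G, U)) (l : Γ(RefHull.dual E, U)) :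
    pairSec E G g (a • l) = a • pairSec E G g l := by
  apply section_ext_app
  intro V i m
  rw [app_smul_left, app_pairSec, app_pairSec, app_smul_left, fn_smul, mul_smul]

theorem pairSec_res {U U' : X.Opens} (h : U' ≤ U) (g : Γ(G, U)) (l : Γ(RefHull.dual E, U)) :
    (RefHull.homSh E G).presheaf.map (homOfLE h).op (pairSec E G g l) =
      pairSec E G (res G h g) (res (RefHull.dual E) h l) := by
  apply section_ext_app
  intro V i m
  rw [app_map, app_pairSec, app_pairSec, res_res]
  rw [show Groth.Agent.Lead.RH.app (res (RefHull.dual E) h l) i m =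
    Groth.Agent.Lead.RH.app l (i.trans h) m from app_map l (homOfLE h) i m]

/-- the pairing `G × E^∨ → 𝓗om(E, G)` -/
noncomputable def dualPairing : Pairing G (RefHull.dual E) (RefHull.homSh E G) where
  β U g l := pairSec E G (U := U.unop) (show Γ(G, U.unop) from g)
    (show Γ(RefHull.dual E, U.unop) from l)
  add_left U g g' l := pairSec_add_left E G (U := U.unop) (show Γ(G, U.unop) from g)
    (show Γ(G, U.unop) from g') (show Γ(RefHull.dual E, U.unop) from l)
  smul_left U a g l := pairSec_smul_left E G (U := U.unop) (show Γ(X, U.unop) from a)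
    (show Γ(G, U.unop) from g) (show Γ(RefHull.dual E, U.unop) from l)
  add_right U g l l' := pairSec_add_right E G (U := U.unop) (show Γ(G, U.unop) from g)
    (show Γ(RefHull.dual E, U.unop) from l) (show Γ(RefHull.dual E, U.unop) from l')
  smul_right U a g l := pairSec_smul_right E G (U := U.unop) (show Γ(X, U.unop) from a)
    (show Γ(G, U.unop) from g) (show Γ(RefHull.dual E, U.unop) from l)
  nat {U V} f g l := by
    obtain ⟨U⟩ := U
    obtain ⟨V⟩ := V
    have hle : V ≤ U := leOfHom f.unop
    obtain rfl : f = (homOfLE hle).op := Subsingleton.elim _ _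
    exact pairSec_res E G hle (show Γ(G, U) from g) (show Γ(RefHull.dual E, U) from l)

/-- the comparison `G ⊗ E^∨ ⟶ 𝓗om(E, G)` -/
noncomputable def dualMap : CohB1.tensorMod G (RefHull.dual E) ⟶ RefHull.homSh E G :=
  descP (dualPairing E G)

theorem dualMap_tm (U : X.Opens) (g : Γ(G, U)) (l : Γ(RefHull.dual E, U)) :
    (dualMap E G).app U (tm G (RefHull.dual E) U g l) = pairSec E G g l :=
  descP_tm (dualPairing E G) U g l

variable {E G}

/-- evaluation of the comparison map on a basis element -/
theorem app_dualMap_sum {n : ℕ} {W : X.Opens} {b : Fin n → Γ(E, W)} (hb : IsBasisOn E W b)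
    {V : X.Opens} (h : V ≤ W) (g : Fin n → Γ(G, V)) (k : Fin n) :
    Groth.Agent.Lead.RH.app ((dualMap E G).app V
      (∑ j, tm G (RefHull.dual E) V (g j) (res (RefHull.dual E) h (dualBasis hb j))))
      le_rfl (res E h (b k)) = g k := by
  rw [map_sum, app_sum_left]
  simp_rw [dualMap_tm, app_pairSec, fn_app_res_dualBasis, res_self]
  rw [Finset.sum_eq_single k]
  · rw [if_pos rfl, one_smul]
  · intro j _ hj
    rw [if_neg hj, zero_smul]
  · intro hk
    exact absurd (Finset.mem_univ k) hk

theorem bijective_dualMap_app {n : ℕ} {W : X.Opens} {b : Fin n → Γ(E, W)} (hb : IsBasisOn E W b)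
    {V : X.Opens} (h : V ≤ W) : Function.Bijective ((dualMap E G).app V) := by
  have hT1 := bijective_sum_tm_of_isBasisOn G ((isBasisOn_dualBasis hb).res h)
  constructor
  · intro x y hxy
    obtain ⟨g, rfl⟩ := hT1.2 x
    obtain ⟨g', rfl⟩ := hT1.2 y
    have : g = g' := by
      funext k
      rw [← app_dualMap_sum hb h g k, ← app_dualMap_sum hb h g' k]
      exact congrArg (fun θ => Groth.Agent.Lead.RH.app θ le_rfl (res E h (b k))) hxy
    rw [this]
  · intro θ
    refine ⟨∑ j, tm G (RefHull.dual E) V (Groth.Agent.Lead.RH.app θ le_rfl (res E h (b j)))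
      (res (RefHull.dual E) h (dualBasis hb j)), ?_⟩
    apply section_ext_basis hb h
    intro k
    exact app_dualMap_sum hb h _ k

/-- **`G ⊗ E^∨ ≅ 𝓗om(E, G)` for `E` with local bases** -/
theorem isIso_dualMap (hE : HasBases E) : IsIso (dualMap E G) := by
  apply Groth.Agent.Lead.BCU.isIso_of_bijective_nhds
  intro U x hx
  obtain ⟨V, hVU, n, b, hxV, hb⟩ := hE.exists_le U x hx
  exact ⟨V, hVU, hxV, bijective_dualMap_app hb le_rfl⟩

/-- the dual isomorphism -/
noncomputable def dualIso (hE : HasBases E) :
    CohB1.tensorMod G (RefHull.dual E) ≅ RefHull.homSh E G :=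
  haveI := isIso_dualMap (G := G) hE
  asIso (dualMap E G)

end Pair

end Groth.Agent.Helper2.HomExt
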