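import Mathlib
import Groth.Agent.Lib.Helper2.HomExt.ExtLocFree
import Groth.Agent.Lib.Helper2.HomExt.DualIso
import Groth.Agent.Lib.Helper5.Misc.ExtAdjAcyc

/-!
# `Ext^i(F ⊗ E, G) ≅ Ext^i(F, G ⊗ E^∨)` for `E` finite locally free (helper2)
-/

set_option autoImplicit false
set_option linter.unusedSectionVars false
set_option linter.style.haveILetI false
universe w u

open CategoryTheory CategoryTheory.Limits AlgebraicGeometry TopologicalSpace Opposite Abelian

namespace Groth.Agent.Helper2.HomExt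

open Groth.Agent.Lib.Helper5 Groth.Agent.Helper1.ProjF

section ext

variable {𝒜 : Type*} [Category 𝒜] [Abelian 𝒜] [HasExt.{w} 𝒜]

/-- `Ext` only depends on the isomorphism class of the second variable -/
noncomputable def extAddEquivOfIsoRight (X : 𝒜) {Y Y' : 𝒜} (e : Y ≅ Y') (n : ℕ) :
    Ext X Y n ≃+ Ext X Y' n where
  toFun x := x.comp (Ext.mk₀ e.hom) (add_zero n)
  invFun y := y.comp (Ext.mk₀ e.inv) (add_zero n)
  left_inv x := by
    simp only
    rw [Ext.comp_assoc_of_third_deg_zero, Ext.mk₀_comp_mk₀, e.hom_inv_id, Ext.comp_mk₀_id]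
  right_inv y := by
    simp only
    rw [Ext.comp_assoc_of_third_deg_zero, Ext.mk₀_comp_mk₀, e.inv_hom_id, Ext.comp_mk₀_id]
  map_add' x y := Ext.add_comp _ _ _ _

end ext

variable {X : Scheme.{u}} {E : X.Modules}

/-- `G ⊗ -` on isomorphisms -/
noncomputable def tensLIso (G : X.Modules) {A A' : X.Modules} (e : A ≅ A') :
    CohB1.tensorMod G A ≅ CohB1.tensorMod G A' :=
  ((DCoh.tensorBi (X := X)).obj G).mapIso e

/-- `𝓗om(E, G) ≅ G ⊗ E^∨` for the abstract sheaf Hom `ModSite.sheafHom` -/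
theorem nonempty_sheafHom_obj_iso_tensor_dual (hE : FlatMod.IsFinLocFree E)
    [ModSite.HasSheafHom (O := X.sheaf) E] (G : X.Modules) :
    Nonempty ((ModSite.sheafHom (O := X.sheaf) E).obj G ≅
      CohB1.tensorMod G ((ModSite.sheafHom (O := X.sheaf) E).obj (Coh.structureModule X))) := by
  haveI := hasSheafHom_dcoh E
  have e1 : (ModSite.sheafHom (O := X.sheaf) E).obj G ≅ RefHull.homSh E G :=
    (dcohIsoModSite E).symm.app G ≪≫ sheafHomIso E G
  have e2 : RefHull.homSh E G ≅ CohB1.tensorMod G (RefHull.dual E) :=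
    (dualIso (G := G) (hasBases_of_isFinLocFree hE)).symm
  have e3 : RefHull.dual E ≅
      (ModSite.sheafHom (O := X.sheaf) E).obj (Coh.structureModule X) :=
    (sheafHomIso E (Coh.structureModule X)).symm ≪≫
      (dcohIsoModSite E).app (Coh.structureModule X)
  exact ⟨e1 ≪≫ e2 ≪≫ tensLIso G e3⟩

section site

variable {C : Type u} [SmallCategory C] {J : GrothendieckTopology C} (O : Sheaf J CommRingCat.{u})

/-- the adjunction isomorphism on `Ext` for a flat module with exact internal hom, on a site -/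
theorem nonempty_ext_adj_site (E F G : ModSite.Mod O) [ModSite.HasSheafHom E]
    [HasExt.{u} (ModSite.Mod O)] [EnoughInjectives (ModSite.Mod O)] (hflat : ModSite.IsFlat E)
    (hacyc : ∀ j : ℕ, 0 < j → IsZero (((ModSite.sheafHom E).rightDerived j).obj G)) (i : ℕ) :
    Nonempty (Ext (((ModSite.tensorBi O).flip.obj E).obj F) G i ≃+
      Ext F ((ModSite.sheafHom E).obj G) i) := by
  letI : HasDerivedCategory (ModSite.Mod O) := HasDerivedCategory.standard _
  haveI : PreservesFiniteLimits ((ModSite.tensorBi O).flip.obj E) := hflat.1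
  haveI : PreservesFiniteColimits ((ModSite.tensorBi O).flip.obj E) := hflat.2
  have hbij := ExtAdjAcyc.Φ_bijective (ModSite.sheafHomAdj E) F G hacyc i
  exact ⟨(AddEquiv.ofBijective _ hbij).symm⟩

end site

/-- **`Ext^i(F ⊗ E, G) ≅ Ext^i(F, G ⊗ E^∨)` for `E` finite locally free** -/
theorem nonempty_ext_tensor_addEquiv (hE : FlatMod.IsFinLocFree E) (F G : X.Modules)
    [ModSite.HasSheafHom (O := X.sheaf) E] [HasExt.{u} X.Modules] (i : ℕ) :
    Nonempty (Ext (CohB1.tensorMod F E) G i ≃+
      Ext F (CohB1.tensorMod G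
        ((ModSite.sheafHom (O := X.sheaf) E).obj (Coh.structureModule X))) i) := by
  haveI : EnoughInjectives (ModSite.Mod X.sheaf) := IsGrothendieckAbelian.enoughInjectives.{u}
  haveI : HasInjectiveResolutions (ModSite.Mod X.sheaf) := inferInstance
  have hflat := Groth.Agent.Lib.Helper5.Misc.StalkFlatSch.isFlat_of_flatMod E
    (Groth.Agent.Lib.Helper5.LTenDer.isFlat_of_isFinLocFree E hE)
  haveI : (ModSite.sheafHom (O := X.sheaf) E).Additive := ModSite.sheafHom_additive X.sheaf E
  have hacyc : ∀ j : ℕ, 0 < j →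
      IsZero (((ModSite.sheafHom (O := X.sheaf) E).rightDerived j).obj G) :=
    fun j hj => isZero_extSh_of_isFinLocFree hE G j hj
  obtain ⟨H, hH⟩ : ∃ H : X.Modules, H = (ModSite.sheafHom (O := X.sheaf) E).obj G := ⟨_, rfl⟩
  have h1 : Nonempty (Ext (CohB1.tensorMod F E) G i ≃+ Ext F H i) := by
    subst hH
    exact nonempty_ext_adj_site X.sheaf E F G hflat hacyc i
  have h2 : Nonempty (H ≅ CohB1.tensorMod G
      ((ModSite.sheafHom (O := X.sheaf) E).obj (Coh.structureModule X))) := by
    subst hH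
    exact nonempty_sheafHom_obj_iso_tensor_dual hE G
  obtain ⟨e1⟩ := h1
  obtain ⟨e2⟩ := h2
  exact ⟨e1.trans (extAddEquivOfIsoRight F e2 i)⟩

end Groth.Agent.Helper2.HomExt
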