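import Mathlib
import Groth.Agent.Lib.Helper2.HomExt.ExtShDual
import Groth.Agent.Lib.Helper2.HomExt.ExtDual
import Groth.Agent.Lib.Helper1.TildeTens

/-!
# `ℰxt^q(E ⊗ F, G) ≅ ℰxt^q(F, G) ⊗ E^∨` for `E` finite locally free on a scheme (helper2)
-/

set_option autoImplicit false
set_option linter.unusedSectionVars false
set_option linter.style.haveILetI false
universe u

open CategoryTheory CategoryTheory.Limits AlgebraicGeometry TopologicalSpace Opposite

namespace Groth.Agent.Helper2.HomExt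

variable {X : Scheme.{u}} {E : X.Modules}

theorem nonempty_extSh_tensor_iso_dual (hE : FlatMod.IsFinLocFree E) (F G : X.Modules)
    [ModSite.HasSheafHom (O := X.sheaf) E] [ModSite.HasSheafHom (O := X.sheaf) F]
    [ModSite.HasSheafHom (O := X.sheaf) (CohB1.tensorMod E F)]
    [HasInjectiveResolutions (ModSite.Mod X.sheaf)] (q : ℕ) :
    Nonempty ((ModSite.extSh (O := X.sheaf) (CohB1.tensorMod E F) q).obj G ≅
      CohB1.tensorMod ((ModSite.extSh (O := X.sheaf) F q).obj G)
        ((ModSite.sheafHom (O := X.sheaf) E).obj (Coh.structureModule X))) := by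
  haveI := preservesEpimorphisms_sheafHom_modSite hE
  haveI : ModSite.HasSheafHom (O := X.sheaf) (((ModSite.tensorBi X.sheaf).obj E).obj F) :=
    ‹ModSite.HasSheafHom (O := X.sheaf) (CohB1.tensorMod E F)›
  obtain ⟨e1⟩ := nonempty_extSh_tensor_iso (O := X.sheaf) E F G q
  obtain ⟨e2⟩ := nonempty_sheafHom_obj_iso_tensor_dual hE
    ((ModSite.extSh (O := X.sheaf) F q).obj G)
  exact ⟨e1 ≪≫ e2⟩

theorem nonempty_extSh_tensor_iso_dual' (hE : FlatMod.IsFinLocFree E) (F G : X.Modules)
    [ModSite.HasSheafHom (O := X.sheaf) E] [ModSite.HasSheafHom (O := X.sheaf) F]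
    [ModSite.HasSheafHom (O := X.sheaf) (CohB1.tensorMod F E)]
    [HasInjectiveResolutions (ModSite.Mod X.sheaf)] (q : ℕ) :
    Nonempty ((ModSite.extSh (O := X.sheaf) (CohB1.tensorMod F E) q).obj G ≅
      CohB1.tensorMod ((ModSite.extSh (O := X.sheaf) F q).obj G)
        ((ModSite.sheafHom (O := X.sheaf) E).obj (Coh.structureModule X))) := by
  haveI : ModSite.HasSheafHom (O := X.sheaf) (CohB1.tensorMod E F) :=
    Groth.Agent.Helper3.SHomEx.hasSheafHom _
  obtain ⟨e0⟩ := nonempty_extSh_congr (O := X.sheaf)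
    (Groth.Agent.Helper1.TildeTens.tensorModComm F E) G q
  obtain ⟨e1⟩ := nonempty_extSh_tensor_iso_dual hE F G q
  exact ⟨e0 ≪≫ e1⟩

end Groth.Agent.Helper2.HomExt
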