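import Mathlib
import Groth.Agent.Lib.Helper2.HomExt.DualIso
import Groth.Agent.Lib.Helper1.VBQ3

/-!
# Modules with local bases are reflexive; their duals have local bases (helper2)
-/

set_option autoImplicit false
set_option linter.unusedSectionVars false
set_option linter.style.haveILetI false
universe u

open CategoryTheory CategoryTheory.Limits AlgebraicGeometry TopologicalSpace Opposite MonoidalCategory

namespace Groth.Agent.Helper2.HomExt

open Groth.Agent.Lead.RH Groth.Agent.Helper1.QcCech Groth.Agent.Helper1.TmulLib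
  Groth.Agent.Helper1.TensLib Groth.Agent.Helper1.ProjF Groth.Agent.Helper1.PFrame

variable {X : Scheme.{u}} {E : X.Modules}

theorem isFinLocFree_of_hasBases (h : HasBases E) : FlatMod.IsFinLocFree E := fun x => by
  obtain ⟨W, n, b, hxW, hb⟩ := h x
  exact ⟨W, n, hxW, Groth.Agent.Helper1.VBQ.nonempty_restrict_iso_freeMod hb⟩

theorem hasBases_dual (hE : HasBases E) : HasBases (RefHull.dual E) := fun x => by
  obtain ⟨W, n, b, hxW, hb⟩ := hE x
  exact ⟨W, n, dualBasis hb, hxW, isBasisOn_dualBasis hb⟩

/-- the biduality map, on sections -/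
theorem app_bidualMap {U V : X.Opens} (s : Γ(E, U)) (i : V ≤ U) (l : Γ(RefHull.dual E, V)) :
    Groth.Agent.Lead.RH.app ((RefHull.bidualMap E).app U s) i l =
      Groth.Agent.Lead.RH.app l le_rfl (res E i s) := by
  apply section_ext
  intro y hy
  rw [germ_app, germ_app, RefHull.bidualMap_app_apply, RefHull.bidualAt_apply,
    RefHull.evalStalk_germ]
  congr 1
  exact (TopCat.Presheaf.germ_res_apply E.presheaf (homOfLE i) y hy s).symm

variable {n : ℕ} {W : X.Opens} {b : Fin n → Γ(E, W)}

/-- the biduality map sends a local basis to the double dual basis -/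
theorem bidualMap_basis (hb : IsBasisOn E W b) {V : X.Opens} (h : V ≤ W) (j : Fin n) :
    (RefHull.bidualMap E).app V (res E h (b j)) =
      res (RefHull.ddual E) h (dualBasis (isBasisOn_dualBasis hb) j) := by
  apply section_ext_basis (isBasisOn_dualBasis hb) h
  intro k
  apply fn_injective
  rw [app_bidualMap, res_self, fn_app_res_dualBasis, fn_app_res_dualBasis]
  by_cases hjk : j = k
  · rw [if_pos hjk, if_pos hjk.symm]
  · rw [if_neg hjk, if_neg (Ne.symm hjk)]

theorem bijective_bidualMap_app (hb : IsBasisOn E W b) {V : X.Opens} (h : V ≤ W) :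
    Function.Bijective ((RefHull.bidualMap E).app V) := by
  have h1 := hb V h
  have h2 := isBasisOn_dualBasis (isBasisOn_dualBasis hb) V h
  have hcomp : (fun r : Fin n → Γ(X, V) =>
      ∑ j, r j • res (RefHull.ddual E) h (dualBasis (isBasisOn_dualBasis hb) j)) =
      (RefHull.bidualMap E).app V ∘ (fun r : Fin n → Γ(X, V) => ∑ j, r j • res E h (b j)) := by
    funext r
    change _ = (RefHull.bidualMap E).app V (∑ j, r j • res E h (b j))
    rw [map_sum]
    refine Finset.sum_congr rfl fun j _ => ?_
    rw [Scheme.Modules.Hom.app_smul, bidualMap_basis hb h j]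
  rw [hcomp] at h2
  exact (Function.Bijective.of_comp_iff _ h1).1 h2

/-- **modules with local bases are reflexive** -/
theorem isIso_bidualMap (hE : HasBases E) : IsIso (RefHull.bidualMap E) := by
  apply Groth.Agent.Lead.BCU.isIso_of_bijective_nhds
  intro U x hx
  obtain ⟨V, hVU, n, b, hxV, hb⟩ := hE.exists_le U x hx
  exact ⟨V, hVU, hxV, bijective_bidualMap_app hb le_rfl⟩

theorem isReflexive_of_hasBases (hE : HasBases E) : RefHull.IsReflexive E := isIso_bidualMap hE

end Groth.Agent.Helper2.HomExt
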