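import Mathlib
import Groth.Agent.Lib.Helper2.HomExt.Reflexive
import Groth.Agent.Lib.Helper2.HomExt.ExtDual
import Groth.Agent.Lib.Helper1.TildeTens

/-!
# `E ⊗ I` is injective for `I` injective and `E` finite locally free (helper2)
-/

set_option autoImplicit false
set_option linter.unusedSectionVars false
set_option linter.style.haveILetI false
universe u

open CategoryTheory CategoryTheory.Limits AlgebraicGeometry TopologicalSpace Opposite

namespace Groth.Agent.Helper2.HomExt

open Groth.Agent.Helper1.ProjF

variable {X : Scheme.{u}} {E : X.Modules}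

/-- `E ⊗ G ≅ 𝓗om(E^∨, G)` for `E` finite locally free, with the abstract sheaf Hom -/
theorem nonempty_tensor_iso_sheafHom_dual (hE : FlatMod.IsFinLocFree E) (G : X.Modules)
    [DCoh.HasSheafHom (RefHull.dual E)] :
    Nonempty (CohB1.tensorMod E G ≅ (DCoh.sheafHom (RefHull.dual E)).obj G) := by
  have hB := hasBases_of_isFinLocFree hE
  have hB' := hasBases_dual hB
  haveI := isIso_bidualMap hB
  have e1 : CohB1.tensorMod E G ≅ CohB1.tensorMod G E :=
    Groth.Agent.Helper1.TildeTens.tensorModComm E G
  have e2 : CohB1.tensorMod G E ≅ CohB1.tensorMod G (RefHull.ddual E) :=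
    tensLIso G (asIso (RefHull.bidualMap E))
  have e3 : CohB1.tensorMod G (RefHull.ddual E) ≅ RefHull.homSh (RefHull.dual E) G :=
    dualIso (E := RefHull.dual E) (G := G) hB'
  exact ⟨e1 ≪≫ e2 ≪≫ e3 ≪≫ (sheafHomIso (RefHull.dual E) G).symm⟩

/-- **`E ⊗ I` is injective for `I` injective and `E` finite locally free** -/
theorem injective_tensorMod (hE : FlatMod.IsFinLocFree E) (I : X.Modules) [Injective I] :
    Injective (CohB1.tensorMod E I) := by
  have hD : FlatMod.IsFinLocFree (RefHull.dual E) :=
    isFinLocFree_of_hasBases (hasBases_dual (hasBases_of_isFinLocFree hE))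
  haveI := Groth.Agent.Helper3.SHomEx.hasSheafHom (O := X.sheaf) (RefHull.dual E)
  haveI := hasSheafHom_dcoh (RefHull.dual E)
  haveI := preservesInjectiveObjects_sheafHom hD
  have h1 : Injective ((DCoh.sheafHom (RefHull.dual E)).obj I) :=
    (DCoh.sheafHom (RefHull.dual E)).injective_obj_of_injective inferInstance
  obtain ⟨e⟩ := nonempty_tensor_iso_sheafHom_dual hE I
  exact Injective.of_iso e.symm h1

end Groth.Agent.Helper2.HomExt
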