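import Mathlib
import Groth.Agent.Lib.Helper2.HomExt.DualIso
import Groth.Agent.Lib.Helper2.HomExt.Reflexive
import Groth.Agent.Lib.Helper2.HomExt.Model
import Groth.Agent.Lib.Helper2.HomExt.ExtShDual
import Groth.Agent.Lib.Helper2.HomExt.ExtDual
import Groth.Agent.Lib.Helper2.HomExt.InjTensor
import Groth.Agent.Lib.Helper2.HomExt.ExtLocFree
import Groth.Agent.Lib.Helper1.ProjF3
import Groth.Agent.Lib.Helper1.TildeTens
import Groth.Agent.Lib.Helper5.Misc.RDComp

/-!
# `- ⊗ N ≅ ℋom(N^∨, -)` naturally, for `N` with local bases; commuting `ℋom(F, -)` with `- ⊗ N`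
(helper2)
-/

set_option backward.isDefEq.respectTransparency.types false
set_option synthInstance.maxHeartbeats 400000
set_option maxHeartbeats 4000000
set_option autoImplicit false
set_option linter.unusedSectionVars false
set_option linter.style.haveILetI false
universe u

open CategoryTheory CategoryTheory.Limits AlgebraicGeometry TopologicalSpace Opposite

namespace Groth.Agent.Helper2.HomExt.TensHomNat

open Groth.Agent.Helper2.HomExt
open Groth.Agent.Lead.RH Groth.Agent.Helper1.QcCech Groth.Agent.Helper1.TmulLib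
  Groth.Agent.Helper1.TensLib Groth.Agent.Helper1.ProjF

variable {X : Scheme.{u}}

/-- the category of modules, in its site-level incarnation -/
abbrev 𝒜s (X : Scheme.{u}) := ModSite.Mod X.sheaf

/-- the functor `- ⊗ L` -/
noncomputable abbrev tF (L : X.Modules) : 𝒜s X ⥤ 𝒜s X := (ModSite.tensorBi X.sheaf).flip.obj L

lemma res_app {M N : X.Modules} (φ : M ⟶ N) {W W' : X.Opens} (h : W' ≤ W) (s : Γ(M, W)) :
    φ.app W' (res M h s) = res N h (φ.app W s) := by
  have := congrArg (fun f => f.hom s) (φ.mapPresheaf.naturality (homOfLE h).op)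
  exact this

/-- naturality of the comparison `G ⊗ E^∨ ⟶ ℋom(E, G)` in `G` -/
theorem dualMap_natural (E : X.Modules) {G G' : X.Modules} (ψ : G ⟶ G') :
    (tensR (RefHull.dual E)).map ψ ≫ dualMap E G' = dualMap E G ≫ homShMap E ψ := by
  apply hom_ext_tm
  intro U g l
  change (dualMap E G').app U (((tensR (RefHull.dual E)).map ψ).app U
    (tm G (RefHull.dual E) U g l)) =
      (homShMap E ψ).app U ((dualMap E G).app U (tm G (RefHull.dual E) U g l))
  rw [tensR_map_tm, dualMap_tm, dualMap_tm]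
  apply section_ext_app
  intro V i m
  rw [app_homShMap, app_pairSec, app_pairSec, Scheme.Modules.Hom.app_smul, res_app]

variable (E : X.Modules) [ModSite.HasSheafHom (O := X.sheaf) E]

omit [ModSite.HasSheafHom (O := X.sheaf) E] in
lemma nat_paste {𝒞 : Type*} [Category 𝒞] {A A' B B' C C' : 𝒞} (a : A ⟶ A') (b : B ⟶ B')
    (c : C ⟶ C') (u : A ⟶ B) (u' : A' ⟶ B') (v : B ⟶ C) (v' : B' ⟶ C')
    (h1 : a ≫ u' = u ≫ b) (h2 : b ≫ v' = v ≫ c) : a ≫ u' ≫ v' = (u ≫ v) ≫ c := by
  rw [← Category.assoc, h1, Category.assoc, h2, Category.assoc]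

theorem dualNat_aux {G G' : X.Modules} (ψ : G ⟶ G') :
    (tensR (RefHull.dual E)).map ψ ≫ dualMap E G' ≫ toModel E G' =
      (dualMap E G ≫ toModel E G) ≫ (ModSite.sheafHom (O := X.sheaf) E).map ψ :=
  nat_paste (𝒞 := X.Modules) _ _ _ _ _ _ _ (dualMap_natural E ψ) (homShMap_toModel E ψ)

/-- **`- ⊗ E^∨ ≅ ℋom(E, -)` naturally, for `E` with local bases** -/
noncomputable def dualNatIso (hE : HasBases E) :
    tF (RefHull.dual E) ≅ ModSite.sheafHom (O := X.sheaf) E :=
  NatIso.ofComponents (fun G => dualIso (G := G) hE ≪≫ modelIso E G) (by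
    intro G G' ψ
    exact dualNat_aux E ψ)

omit [ModSite.HasSheafHom (O := X.sheaf) E] in
/-- **`- ⊗ N ≅ ℋom(N^∨, -)` naturally, for `N` with local bases** -/
noncomputable def tensHomIso (N : X.Modules) (hN : HasBases N)
    [ModSite.HasSheafHom (O := X.sheaf) (RefHull.dual N)] :
    tF N ≅ ModSite.sheafHom (O := X.sheaf) (RefHull.dual N) :=
  let e : (show 𝒜s X from N) ≅ (show 𝒜s X from RefHull.dual (RefHull.dual N)) :=
    @asIso X.Modules _ _ _ (RefHull.bidualMap N) (isIso_bidualMap hN)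
  (ModSite.tensorBi X.sheaf).flip.mapIso e ≪≫
    dualNatIso (RefHull.dual N) (hasBases_dual hN)

omit [ModSite.HasSheafHom (O := X.sheaf) E] in
/-- **`ℋom(F, -) ⊗ N ≅ ℋom(F, - ⊗ N)` naturally, for `N` with local bases** -/
noncomputable def swapIso (F N : X.Modules) (hN : HasBases N)
    [ModSite.HasSheafHom (O := X.sheaf) F] :
    ModSite.sheafHom (O := X.sheaf) F ⋙ tF N ≅ tF N ⋙ ModSite.sheafHom (O := X.sheaf) F :=
  haveI : ModSite.HasSheafHom (O := X.sheaf) (RefHull.dual N) :=
    Groth.Agent.Helper3.SHomEx.hasSheafHom _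
  haveI : ModSite.HasSheafHom (O := X.sheaf)
      (((ModSite.tensorBi X.sheaf).obj (RefHull.dual N)).obj F) :=
    Groth.Agent.Helper3.SHomEx.hasSheafHom _
  haveI : ModSite.HasSheafHom (O := X.sheaf)
      (((ModSite.tensorBi X.sheaf).obj F).obj (RefHull.dual N)) :=
    Groth.Agent.Helper3.SHomEx.hasSheafHom _
  haveI : ModSite.HasSheafHom (O := X.sheaf) (CohB1.tensorMod (RefHull.dual N) F) :=
    Groth.Agent.Helper3.SHomEx.hasSheafHom _
  haveI : ModSite.HasSheafHom (O := X.sheaf) (CohB1.tensorMod F (RefHull.dual N)) :=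
    Groth.Agent.Helper3.SHomEx.hasSheafHom _
  Functor.isoWhiskerLeft (ModSite.sheafHom (O := X.sheaf) F) (tensHomIso N hN) ≪≫
    (sheafHomTensorIso (O := X.sheaf) (RefHull.dual N) F).symm ≪≫
    sheafHomCongr (O := X.sheaf)
      (Groth.Agent.Helper1.TildeTens.tensorModComm (RefHull.dual N) F) ≪≫
    sheafHomTensorIso (O := X.sheaf) F (RefHull.dual N) ≪≫
    Functor.isoWhiskerRight (tensHomIso N hN).symm (ModSite.sheafHom (O := X.sheaf) F)

end Groth.Agent.Helper2.HomExt.TensHomNat
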