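import Mathlib
import Groth.Agent.Lib.Helper2.HomExt.TensHomNat
import Groth.Agent.Lib.Helper2.HomExt.ExtShDualSch
import Groth.Agent.Lib.Helper1.ProjF4

/-!
# The projection formula for the relative Ext sheaves (helper2)

`Ext^p_f(F ⊗ L, G ⊗ f^*N) ≅ Ext^p_f(F, G ⊗ L^∨) ⊗ N` for `L`, `N` finite locally free.
-/

set_option backward.isDefEq.respectTransparency.types false
set_option synthInstance.maxHeartbeats 400000
set_option maxHeartbeats 4000000
set_option autoImplicit false
set_option linter.unusedSectionVars false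
set_option linter.style.haveILetI false
universe u

open CategoryTheory CategoryTheory.Limits AlgebraicGeometry TopologicalSpace Opposite

namespace Groth.Agent.Helper2.HomExt.RelExtProj

open Groth.Agent.Helper2.HomExt Groth.Agent.Helper2.HomExt.TensHomNat
open Groth.Agent.Helper1.QcCech Groth.Agent.Helper1.TmulLib Groth.Agent.Helper1.TensLib
  Groth.Agent.Helper1.TensGen Groth.Agent.Helper1.PFrame Groth.Agent.Helper1.PullSec
  Groth.Agent.Helper1.ProjF

variable {X Y : Scheme.{u}} (f : X ⟶ Y)

theorem hasBases_pullback {N : Y.Modules} (hN : FlatMod.IsFinLocFree N) :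
    HasBases ((Scheme.Modules.pullback f).obj N) := by
  intro x
  obtain ⟨W, k, a, hxW, ha⟩ := exists_isFrame hN (f.base x)
  exact ⟨f ⁻¹ᵁ W, k, _, hxW, (ha.pullback f).isBasisOn⟩

section inst

variable (L : X.Modules)

instance additive_tF : (tF L).Additive := inferInstanceAs (tensR L).Additive

theorem preservesFiniteLimits_tF (hL : HasBases L) : PreservesFiniteLimits (tF L) :=
  preservesFiniteLimits_tensR (L := L) hL

theorem preservesFiniteColimits_tF (hL : HasBases L) : PreservesFiniteColimits (tF L) :=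
  preservesFiniteColimits_tensR (L := L) hL

theorem preservesInjectiveObjects_tF (hL : FlatMod.IsFinLocFree L) :
    (tF L).PreservesInjectiveObjects where
  injective_obj := fun {I} hI => by
    haveI : Injective (C := X.Modules) I := hI
    have h1 : Injective (CohB1.tensorMod L I) := injective_tensorMod hL I
    exact Injective.of_iso (Groth.Agent.Helper1.TildeTens.tensorModComm L I) h1

end inst

section main

variable (F : X.Modules) [ModSite.HasSheafHom (O := X.sheaf) F]

/-- the relative Hom functor `f_* ℋom(F, -)` -/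
noncomputable abbrev Φ : 𝒜s X ⥤ Y.Modules :=
  ModSite.sheafHom (O := X.sheaf) F ⋙ Scheme.Modules.pushforward f

/-- `f_* ℋom(F, - ⊗ f^*N) ≅ f_* ℋom(F, -) ⊗ N`, naturally -/
noncomputable def relSwapIso (N : Y.Modules) (hN : FlatMod.IsFinLocFree N) :
    tF ((Scheme.Modules.pullback f).obj N) ⋙ Φ f F ≅ Φ f F ⋙ tensR N :=
  (Functor.associator _ _ _).symm ≪≫
    Functor.isoWhiskerRight (swapIso F ((Scheme.Modules.pullback f).obj N)
      (hasBases_pullback f hN)).symm (Scheme.Modules.pushforward f) ≪≫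
    Functor.associator _ _ _ ≪≫
    Functor.isoWhiskerLeft (ModSite.sheafHom (O := X.sheaf) F) (projIso f N hN).symm ≪≫
    (Functor.associator _ _ _).symm

variable [HasInjectiveResolutions (ModSite.Mod X.sheaf)]
  [(ModSite.sheafHom (O := X.sheaf) F ⋙ Scheme.Modules.pushforward f).Additive]

/-- **`Ext^p_f(F, G ⊗ f^*N) ≅ Ext^p_f(F, G) ⊗ N` for `N` finite locally free** -/
theorem nonempty_relExt_tensor_pullback_iso (N : Y.Modules) (hN : FlatMod.IsFinLocFree N)
    (G : X.Modules) (p : ℕ) :
    Nonempty (((Φ f F).rightDerived p).obj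
        (CohB1.tensorMod G ((Scheme.Modules.pullback f).obj N)) ≅
      CohB1.tensorMod (((Φ f F).rightDerived p).obj G) N) := by
  have hN' := hasBases_pullback f hN
  have hNf : FlatMod.IsFinLocFree ((Scheme.Modules.pullback f).obj N) :=
    isFinLocFree_of_hasBases hN'
  haveI := preservesFiniteLimits_tF _ hN'
  haveI := preservesFiniteColimits_tF _ hN'
  haveI := preservesInjectiveObjects_tF _ hNf
  haveI := preservesFiniteLimits_tensR (L := N) (hasBases_of_isFinLocFree hN)
  haveI := preservesFiniteColimits_tensR (L := N) (hasBases_of_isFinLocFree hN)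
  haveI : (tF ((Scheme.Modules.pullback f).obj N) ⋙ Φ f F).Additive := inferInstance
  haveI : (Φ f F ⋙ tensR N).Additive := inferInstance
  have e1 := Groth.Agent.Lib.Helper5.Misc.RDComp.preIso
    (tF ((Scheme.Modules.pullback f).obj N)) (Φ f F) G p
  have e2 := (Groth.Agent.Lib.Helper5.Misc.RDComp.natIso (relSwapIso f F N hN) p).app G
  have e3 := Groth.Agent.Lib.Helper5.Misc.RDComp.postIso (Φ f F) (tensR N) G p
  exact ⟨e1.symm ≪≫ e2 ≪≫ e3⟩

/-- `(A ⊗ B) ⊗ C ≅ (A ⊗ C) ⊗ B` -/
noncomputable def tensorSwap (A B C : X.Modules) :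
    CohB1.tensorMod (CohB1.tensorMod A B) C ≅ CohB1.tensorMod (CohB1.tensorMod A C) B :=
  Groth.Agent.Lib.Helper5.TenAssoc.assocObj (O := X.sheaf) A B C ≪≫
    ((ModSite.tensorBi X.sheaf).obj A).mapIso
      (Groth.Agent.Helper1.TildeTens.tensorModComm B C) ≪≫
    (Groth.Agent.Lib.Helper5.TenAssoc.assocObj (O := X.sheaf) A C B).symm

/-- **`Ext^p_f(F ⊗ L, H) ≅ Ext^p_f(F, ℋom(L, H))` for `L` finite locally free** -/
theorem nonempty_relExt_tensor_iso (L : X.Modules) (hL : FlatMod.IsFinLocFree L)
    [ModSite.HasSheafHom (O := X.sheaf) L]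
    [ModSite.HasSheafHom (O := X.sheaf) (CohB1.tensorMod F L)]
    [(ModSite.sheafHom (O := X.sheaf) (CohB1.tensorMod F L) ⋙
      Scheme.Modules.pushforward f).Additive] (H : X.Modules) (p : ℕ) :
    Nonempty (((Φ f (CohB1.tensorMod F L)).rightDerived p).obj H ≅
      ((Φ f F).rightDerived p).obj ((ModSite.sheafHom (O := X.sheaf) L).obj H)) := by
  have hB := hasBases_of_isFinLocFree hL
  haveI : ModSite.HasSheafHom (O := X.sheaf) (((ModSite.tensorBi X.sheaf).obj F).obj L) :=
    ‹ModSite.HasSheafHom (O := X.sheaf) (CohB1.tensorMod F L)›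
  haveI := preservesFiniteLimits_tF L hB
  haveI : (ModSite.sheafHom (O := X.sheaf) L).PreservesInjectiveObjects :=
    Functor.preservesInjectiveObjects_of_adjunction_of_preservesMonomorphisms
      (ModSite.sheafHomAdj (O := X.sheaf) L)
  haveI := preservesEpimorphisms_sheafHom_modSite hL
  haveI : PreservesFiniteLimits (ModSite.sheafHom (O := X.sheaf) L) := by
    haveI := (ModSite.sheafHomAdj (O := X.sheaf) L).rightAdjoint_preservesLimits
    infer_instance
  haveI := preservesFiniteColimits_of_preservesEpimorphisms (ModSite.sheafHom (O := X.sheaf) L)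
  haveI : (ModSite.sheafHom (O := X.sheaf) L).PreservesHomology := inferInstance
  let α : Φ f (CohB1.tensorMod F L) ≅ ModSite.sheafHom (O := X.sheaf) L ⋙ Φ f F :=
    Functor.isoWhiskerRight (sheafHomTensorIso (O := X.sheaf) F L)
      (Scheme.Modules.pushforward f) ≪≫ Functor.associator _ _ _
  haveI : (ModSite.sheafHom (O := X.sheaf) L ⋙ Φ f F).Additive := inferInstance
  have e1 := (Groth.Agent.Lib.Helper5.Misc.RDComp.natIso α p).app H
  have e2 := Groth.Agent.Lib.Helper5.Misc.RDComp.preIso
    (ModSite.sheafHom (O := X.sheaf) L) (Φ f F) H p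
  exact ⟨e1 ≪≫ e2⟩

/-- **the projection formula for the relative Ext sheaves** -/
theorem nonempty_relExt_proj_iso (L : X.Modules) (hL : FlatMod.IsFinLocFree L)
    (N : Y.Modules) (hN : FlatMod.IsFinLocFree N)
    [ModSite.HasSheafHom (O := X.sheaf) L]
    [ModSite.HasSheafHom (O := X.sheaf) (CohB1.tensorMod F L)]
    [(ModSite.sheafHom (O := X.sheaf) (CohB1.tensorMod F L) ⋙
      Scheme.Modules.pushforward f).Additive] (G : X.Modules) (p : ℕ) :
    Nonempty (((Φ f (CohB1.tensorMod F L)).rightDerived p).obj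
        (CohB1.tensorMod G ((Scheme.Modules.pullback f).obj N)) ≅
      CohB1.tensorMod (((Φ f F).rightDerived p).obj
        (CohB1.tensorMod G ((ModSite.sheafHom (O := X.sheaf) L).obj (Coh.structureModule X)))) N) := by
  obtain ⟨e1⟩ := nonempty_relExt_tensor_iso f F L hL
    (CohB1.tensorMod G ((Scheme.Modules.pullback f).obj N)) p
  obtain ⟨e2⟩ := nonempty_sheafHom_obj_iso_tensor_dual hL
    (CohB1.tensorMod G ((Scheme.Modules.pullback f).obj N))
  have e3 := tensorSwap G ((Scheme.Modules.pullback f).obj N)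
    ((ModSite.sheafHom (O := X.sheaf) L).obj (Coh.structureModule X))
  have e4 := ((Φ f F).rightDerived p).mapIso (e2 ≪≫ e3)
  obtain ⟨e5⟩ := nonempty_relExt_tensor_pullback_iso f F N hN
    (CohB1.tensorMod G ((ModSite.sheafHom (O := X.sheaf) L).obj (Coh.structureModule X))) p
  exact ⟨e1 ≪≫ e4 ≪≫ e5⟩

end main

end Groth.Agent.Helper2.HomExt.RelExtProj
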