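import Mathlib
import Groth.Agent.Lib.Helper2.HomExt.ClImmFull
import Groth.Agent.Lib.Helper2.HomExt.RelExtProj
import Groth.Agent.Lib.Helper5.ProjF.PiCx
import Groth.Agent.Lib.Helper5.ProjF.ClDer
import Groth.Agent.Lib.Helper3.SHomEx
import Groth.Agent.Lib.Helper3.GSS
import Groth.Agent.Lib.Helper3.AbutIso
import Groth.Agent.Lib.Helper3.RelExtHyp

/-!
# Change of rings for `ℋom` and `ℰxt` along a closed immersion (helper2)

For a closed immersion `ι : X ⟶ P` and an `O_X`-module `K`:
`ι_* ℋom_X(K, ι^! -) ≅ ℋom_P(ι_* K, -)`.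
-/

set_option backward.isDefEq.respectTransparency.types false
set_option synthInstance.maxHeartbeats 400000
set_option maxHeartbeats 4000000
set_option autoImplicit false
set_option linter.unusedSectionVars false
set_option linter.style.haveILetI false
universe u

open CategoryTheory CategoryTheory.Limits AlgebraicGeometry TopologicalSpace Opposite

namespace Groth.Agent.Helper2.HomExt.ChangeRings

open Groth.Agent.Helper2.HomExt Groth.Agent.Helper2.HomExt.TensHomNat
open Groth.Agent.Lib.Helper5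

variable {X P : Scheme.{u}} (ι : X ⟶ P) [IsClosedImmersion ι]

/-- the direct image functor, between the site-level categories of modules -/
noncomputable abbrev push : 𝒜s X ⥤ 𝒜s P := Scheme.Modules.pushforward ι

/-- the inverse image functor -/
noncomputable abbrev pull : 𝒜s P ⥤ 𝒜s X := Scheme.Modules.pullback ι

instance isLeftAdjoint_push : (push ι).IsLeftAdjoint :=
  ClosedPushMod.isLeftAdjoint_pushforward ι

/-- the right adjoint `ι^!` of the direct image -/
noncomputable abbrev ish : 𝒜s P ⥤ 𝒜s X := (push ι).rightAdjoint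

/-- `ι_* ⊣ ι^!` -/
noncomputable abbrev pushAdj : push ι ⊣ ish ι := Adjunction.ofIsLeftAdjoint _

instance additive_push : (push ι).Additive :=
  inferInstanceAs (Scheme.Modules.pushforward ι).Additive

instance additive_ish : (ish ι).Additive := (pushAdj ι).right_adjoint_additive

section K

variable (K : X.Modules) [ModSite.HasSheafHom (O := X.sheaf) K]

/-- `H ↦ ι_*(ι^*H ⊗ K)` -/
noncomputable abbrev LK : 𝒜s P ⥤ 𝒜s P := pull ι ⋙ tF K ⋙ push ι

/-- `H ↦ ι_* ℋom(K, ι^! H)` -/
noncomputable abbrev RK : 𝒜s P ⥤ 𝒜s P := ish ι ⋙ ModSite.sheafHom (O := X.sheaf) K ⋙ push ι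

/-- `LK ⊣ RK` -/
noncomputable def adjK : LK ι K ⊣ RK ι K :=
  (Scheme.Modules.pullbackPushforwardAdjunction ι).comp
    ((ModSite.sheafHomAdj (O := X.sheaf) K).comp (pushAdj ι))

/-- the projection formula `ι_*(ι^*H ⊗ K) ≅ H ⊗ ι_*K`, naturally in `H` -/
noncomputable def leftIso : LK ι K ≅ tF ((push ι).obj K) :=
  Functor.isoWhiskerLeft (pull ι)
      (Functor.isoWhiskerRight (TensorSES.objIsoFlipObj (O := X.sheaf) K).symm (push ι)) ≪≫
    NatIso.ofComponents (fun H => ProjF.piIso ι K H)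
      (fun h => ProjF.piIso_naturality_right ι K h) ≪≫
    TensorSES.objIsoFlipObj (O := P.sheaf) ((push ι).obj K)

variable [ModSite.HasSheafHom (O := P.sheaf) ((push ι).obj K)]

/-- `ι_* ℋom_X(K, ι^! -) ≅ ℋom_P(ι_* K, -)` -/
noncomputable def rightIso : RK ι K ≅ ModSite.sheafHom (O := P.sheaf) ((push ι).obj K) :=
  conjugateIsoEquiv (adjK ι K) (ModSite.sheafHomAdj (O := P.sheaf) ((push ι).obj K))
    (leftIso ι K).symm

end K

section main

variable (E F : X.Modules) [ModSite.HasSheafHom (O := X.sheaf) E]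
  [ModSite.HasSheafHom (O := X.sheaf) F]

/-- `T = ℋom_X(E, ι^! -)` -/
noncomputable abbrev TT : 𝒜s P ⥤ 𝒜s X := ish ι ⋙ ModSite.sheafHom (O := X.sheaf) E

/-- `S = ι_* ℋom_X(F, -)` -/
noncomputable abbrev SS : 𝒜s X ⥤ 𝒜s P := ModSite.sheafHom (O := X.sheaf) F ⋙ push ι

/-- `ι_* ℋom_X(F, ℋom_X(E, ι^! -)) ≅ ℋom_P(ι_*(E ⊗ F), -)` -/
noncomputable def compIso
    [ModSite.HasSheafHom (O := X.sheaf) (((ModSite.tensorBi X.sheaf).obj F).obj E)]
    [ModSite.HasSheafHom (O := P.sheaf) ((push ι).obj (((ModSite.tensorBi X.sheaf).obj F).obj E))]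
    [ModSite.HasSheafHom (O := P.sheaf) ((push ι).obj (((ModSite.tensorBi X.sheaf).obj E).obj F))] :
    TT ι E ⋙ SS ι F ≅
      ModSite.sheafHom (O := P.sheaf) ((push ι).obj (((ModSite.tensorBi X.sheaf).obj E).obj F)) :=
  (show TT ι E ⋙ SS ι F ≅ ish ι ⋙ (ModSite.sheafHom (O := X.sheaf) E ⋙
      ModSite.sheafHom (O := X.sheaf) F) ⋙ push ι from Iso.refl _) ≪≫
    Functor.isoWhiskerLeft (ish ι)
      (Functor.isoWhiskerRight (sheafHomTensorIso (O := X.sheaf) F E).symm (push ι)) ≪≫
    rightIso ι (((ModSite.tensorBi X.sheaf).obj F).obj E) ≪≫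
    sheafHomCongr (O := P.sheaf)
      ((push ι).mapIso ((TensorSES.objIsoFlipObj (O := X.sheaf) F).app E))

end main

section inst

instance preservesFiniteLimits_push : PreservesFiniteLimits (push ι) :=
  ProjF.preservesFiniteLimits_push' ι

instance preservesFiniteColimits_push : PreservesFiniteColimits (push ι) :=
  ProjF.preservesFiniteColimits_push' ι

instance preservesHomology_push : (push ι).PreservesHomology := inferInstance

variable (E F : X.Modules) [ModSite.HasSheafHom (O := X.sheaf) E]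
  [ModSite.HasSheafHom (O := X.sheaf) F]

instance additive_TT : (TT ι E).Additive := inferInstanceAs
  (ish ι ⋙ ModSite.sheafHom (O := X.sheaf) E).Additive

instance additive_SS : (SS ι F).Additive := inferInstanceAs
  (ModSite.sheafHom (O := X.sheaf) F ⋙ push ι).Additive

instance preservesFiniteLimits_SS : PreservesFiniteLimits (SS ι F) := by
  haveI : PreservesFiniteLimits (ModSite.sheafHom (O := X.sheaf) F) :=
    Groth.Agent.Helper3.RelExtHyp.preservesFiniteLimits_sheafHom (O := X.sheaf) F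
  exact comp_preservesFiniteLimits _ _

/-- `T` is right adjoint to `ι_*(- ⊗ E)` -/
noncomputable def adjT : tF E ⋙ push ι ⊣ TT ι E :=
  (ModSite.sheafHomAdj (O := X.sheaf) E).comp (pushAdj ι)

theorem preservesInjectiveObjects_TT (hE : FlatMod.IsFinLocFree E) :
    (TT ι E).PreservesInjectiveObjects := by
  haveI : PreservesFiniteLimits (tF E) :=
    RelExtProj.preservesFiniteLimits_tF E (Groth.Agent.Helper1.ProjF.hasBases_of_isFinLocFree hE)
  haveI : PreservesFiniteLimits (tF E ⋙ push ι) := comp_preservesFiniteLimits _ _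
  haveI : (tF E ⋙ push ι).PreservesMonomorphisms := inferInstance
  exact Functor.preservesInjectiveObjects_of_adjunction_of_preservesMonomorphisms (adjT ι E)

end inst

section ss

open scoped ZeroObject

variable (E F : X.Modules) (hE : FlatMod.IsFinLocFree E) (G : P.Modules)
  [ModSite.HasSheafHom (O := P.sheaf) ((Scheme.Modules.pushforward ι).obj E)]
  [HasInjectiveResolutions (ModSite.Mod P.sheaf)]
  [HasInjectiveResolutions (ModSite.Mod X.sheaf)]
  (M : ℕ → X.Modules)
  (hM : ∀ q : ℕ, Nonempty (((Scheme.Modules.pushforward ι).obj (M q)) ≅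
    (ModSite.extSh (O := P.sheaf) ((Scheme.Modules.pushforward ι).obj E) q).obj G))

include hM in
/-- `R^q T (G) ≅ M_q` -/
theorem nonempty_rightDerived_TT_iso [ModSite.HasSheafHom (O := X.sheaf) E] (q : ℕ) :
    Nonempty (((TT ι E).rightDerived q).obj G ≅ M q) := by
  obtain ⟨e⟩ := hM q
  refine ClImm.nonempty_iso_of_push_iso ι ?_
  exact (Misc.RDComp.postIso (TT ι E) (push ι) G q).symm ≪≫
    (Misc.RDComp.natIso (rightIso ι E) q).app G ≪≫ e.symm

include hE hM in
/-- **the change of rings spectral sequence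
`E_2^{p,q} = ι_* ℰxt^p_X(F, M_q) ⇒ ℰxt^{p+q}_P(ι_*(E ⊗ F), G)`** -/
theorem exists_spectralSequence
    [ModSite.HasSheafHom (O := P.sheaf)
      ((Scheme.Modules.pushforward ι).obj (CohB1.tensorMod E F))]
    [ModSite.HasSheafHom (O := X.sheaf) F] :
    ∃ (ES : E₂CohomologicalSpectralSequence P.Modules)
      (a : SpSeq.Abutment ES (fun n : ℤ => if 0 ≤ n then
        (ModSite.extSh (O := P.sheaf)
          ((Scheme.Modules.pushforward ι).obj (CohB1.tensorMod E F)) n.toNat).obj G else 0)),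
      (∀ n, a.IsFinite n) ∧ SpSeq.IsBounded ES ∧
      ∀ p q : ℤ, Nonempty ((ES.page 2 le_rfl).X (p, q) ≅
        (if 0 ≤ p ∧ 0 ≤ q then ((Scheme.Modules.pushforward ι).obj
          ((ModSite.extSh (O := X.sheaf) F p.toNat).obj (M q.toNat))) else 0)) := by
  haveI : ModSite.HasSheafHom (O := X.sheaf) E := Groth.Agent.Helper3.SHomEx.hasSheafHom E
  haveI : ModSite.HasSheafHom (O := X.sheaf) (((ModSite.tensorBi X.sheaf).obj F).obj E) :=
    Groth.Agent.Helper3.SHomEx.hasSheafHom _
  haveI : ModSite.HasSheafHom (O := P.sheaf)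
      ((push ι).obj (((ModSite.tensorBi X.sheaf).obj F).obj E)) :=
    Groth.Agent.Helper3.SHomEx.hasSheafHom _
  haveI : ModSite.HasSheafHom (O := P.sheaf)
      ((push ι).obj (((ModSite.tensorBi X.sheaf).obj E).obj F)) :=
    Groth.Agent.Helper3.SHomEx.hasSheafHom _
  haveI := preservesInjectiveObjects_TT ι E hE
  have hT : ∀ Q : 𝒜s P, Injective Q → ∀ q : ℕ, 0 < q →
      IsZero (((SS ι F).rightDerived q).obj ((TT ι E).obj Q)) := by
    intro Q hQ q hq
    obtain ⟨m, rfl⟩ : ∃ m, q = m + 1 := ⟨q - 1, by omega⟩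
    haveI : Injective ((TT ι E).obj Q) := (TT ι E).injective_obj_of_injective hQ
    exact Functor.isZero_rightDerived_obj_injective_succ (SS ι F) m ((TT ι E).obj Q)
  obtain ⟨ES, a, hfin, hbdd, hE2⟩ := Groth.Agent.Helper3.GSS.main' (TT ι E) (SS ι F) hT G
  have eab : ∀ n : ℤ, (if 0 ≤ n then ((TT ι E ⋙ SS ι F).rightDerived n.toNat).obj G else 0) ≅
      (if 0 ≤ n then (ModSite.extSh (O := P.sheaf)
          ((Scheme.Modules.pushforward ι).obj (CohB1.tensorMod E F)) n.toNat).obj G else 0) := by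
    intro n
    by_cases h : 0 ≤ n
    · rw [if_pos h, if_pos h]
      exact (Misc.RDComp.natIso (compIso ι E F) n.toNat).app G
    · rw [if_neg h, if_neg h]
  obtain ⟨a', ha'⟩ := Groth.Agent.Helper3.AbutIso.exists_abutment_of_iso a eab hfin
  refine ⟨ES, a', ha', hbdd, fun p q => ?_⟩
  obtain ⟨e⟩ := hE2 p q
  by_cases h : 0 ≤ p ∧ 0 ≤ q
  · rw [if_pos h] at e ⊢
    obtain ⟨eq⟩ := nonempty_rightDerived_TT_iso ι E G M hM q.toNat
    exact ⟨e ≪≫ ((SS ι F).rightDerived p.toNat).mapIso eq ≪≫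
      Misc.RDComp.postIso (ModSite.sheafHom (O := X.sheaf) F) (push ι) (M q.toNat) p.toNat⟩
  · rw [if_neg h] at e ⊢
    exact ⟨e⟩

end ss

/-- **if `ι_* J ≅ ℋom_P(ι_* E, Q)` with `Q` injective and `E` finite locally free, then `J` is
injective** -/
theorem injective_of_push_iso_sheafHom (Q : P.Modules) (hQ : Injective Q) (E : X.Modules)
    (hE : FlatMod.IsFinLocFree E)
    [ModSite.HasSheafHom (O := P.sheaf) ((Scheme.Modules.pushforward ι).obj E)] (J : X.Modules)
    (hJ : Nonempty ((Scheme.Modules.pushforward ι).obj J ≅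
      (ModSite.sheafHom (O := P.sheaf) ((Scheme.Modules.pushforward ι).obj E)).obj Q)) :
    Injective J := by
  haveI : ModSite.HasSheafHom (O := X.sheaf) E := Groth.Agent.Helper3.SHomEx.hasSheafHom E
  haveI := preservesInjectiveObjects_TT ι E hE
  haveI : Injective ((TT ι E).obj Q) := (TT ι E).injective_obj_of_injective hQ
  obtain ⟨e⟩ := hJ
  obtain ⟨e'⟩ := ClImm.nonempty_iso_of_push_iso ι (A := (TT ι E).obj Q) (B := J)
    ((rightIso ι E).app Q ≪≫ e.symm)
  exact Injective.of_iso (C := X.Modules) e' (inferInstanceAs (Injective ((TT ι E).obj Q)))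

end Groth.Agent.Helper2.HomExt.ChangeRings
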