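import Mathlib
import Groth.Agent.Lib.Helper5.RelPC.ClosedPushQC
import Groth.Agent.Lib.Helper5.Stalk.RpushRes
import Groth.Agent.Lib.Helper5.Perf.LocalCoh
import Groth.Agent.Lib.Helper1.FinPush

/-!
# Quasi-coherence and coherence are reflected by the direct image along a closed immersion (helper2)
-/

set_option autoImplicit false
set_option linter.unusedSectionVars false
set_option linter.style.haveILetI false
universe u

open CategoryTheory CategoryTheory.Limits AlgebraicGeometry TopologicalSpace Opposite

namespace Groth.Agent.Helper2.HomExt.ClImmRefl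

open Groth.Agent.Lib.Helper5 Groth.Agent.Helper1

variable {Z X : Scheme.{u}} (i : Z ⟶ X) [IsClosedImmersion i]

/-- **a module whose direct image along a closed immersion is quasi-coherent is quasi-coherent** -/
theorem isQuasicoherent_of_push (M : Z.Modules)
    (h : ((Scheme.Modules.pushforward i).obj M).IsQuasicoherent) : M.IsQuasicoherent := by
  apply LocalCoh.isQuasicoherent_of_locally
  intro z
  obtain ⟨_, ⟨(V : X.Opens), hV : IsAffineOpen V, rfl⟩, hzV, -⟩ :=
    X.isBasis_affineOpens.exists_subset_of_mem_open (Set.mem_univ (i z)) isOpen_univ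
  refine ⟨i ⁻¹ᵁ V, hzV, ?_⟩
  haveI : IsAffine (V : Scheme.{u}) := hV
  haveI : IsClosedImmersion (i ∣_ V) := inferInstance
  haveI : (((Scheme.Modules.pushforward i).obj M).restrict V.ι).IsQuasicoherent :=
    Scheme.Modules.isQuasicoherent_restrictFunctor _ _
  haveI : ((Scheme.Modules.pushforward (i ∣_ V)).obj (M.restrict (i ⁻¹ᵁ V).ι)).IsQuasicoherent :=
    QcAbel.isQuasicoherent_of_iso (M := ((Scheme.Modules.pushforward i).obj M).restrict V.ι)
      ((RpushRes.pushRestrictIso i V).app M)
  exact ClosedPushQC.isQuasicoherent_of_pushforward (i ∣_ V) (M.restrict (i ⁻¹ᵁ V).ι)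

/-- transfer of finiteness along a semilinear surjection -/
theorem finite_of_semilinear_surjective {A B N N' : Type*} [CommRing A] [CommRing B]
    [AddCommGroup N] [Module A N] [AddCommGroup N'] [Module B N'] (φ : A →+* B) (L : N →+ N')
    (hL : Function.Surjective L) (hcompat : ∀ (a : A) (x : N), L (a • x) = φ a • L x)
    (hN : Module.Finite A N) : Module.Finite B N' := by
  classical
  obtain ⟨S, hS⟩ := hN.fg_top
  refine ⟨⟨S.image L, ?_⟩⟩
  rw [eq_top_iff]
  rintro y -
  obtain ⟨x, rfl⟩ := hL y
  have hx : x ∈ Submodule.span A (S : Set N) := by rw [hS]; trivial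
  induction hx using Submodule.span_induction with
  | mem x hx => exact Submodule.subset_span (by simpa using ⟨x, hx, rfl⟩)
  | zero => rw [map_zero]; exact Submodule.zero_mem _
  | add x y _ _ hx hy => rw [map_add]; exact Submodule.add_mem _ hx hy
  | smul a x _ hx => rw [hcompat]; exact Submodule.smul_mem _ _ hx

open Groth.Agent.Helper1.QcCech in
/-- **a module whose direct image along a closed immersion is coherent is coherent** -/
theorem isCoh_of_push (M : Z.Modules) (h : Coh.IsCoh ((Scheme.Modules.pushforward i).obj M)) :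
    Coh.IsCoh M := by
  have hq : M.IsQuasicoherent := isQuasicoherent_of_push i M h.1
  refine ⟨hq, ?_⟩
  refine FtLocal.isFiniteType_of_affine_charts M (I := X.affineOpens)
    (fun V => Γ(Z, i ⁻¹ᵁ V.1)) (fun V => (V.2.preimage i).fromSpec) ?_ (fun V => ?_)
  · refine top_le_iff.mp fun z _ => ?_
    obtain ⟨_, ⟨(V : X.Opens), hV : IsAffineOpen V, rfl⟩, hzV, -⟩ :=
      X.isBasis_affineOpens.exists_subset_of_mem_open (Set.mem_univ (i z)) isOpen_univ
    refine Opens.mem_iSup.mpr ⟨⟨V, hV⟩, ?_⟩
    rw [(hV.preimage i).opensRange_fromSpec]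
    exact hzV
  · have hW := V.2.preimage i
    have e0 : hW.fromSpec ''ᵁ ⊤ = i ⁻¹ᵁ V.1 := QcLoc.image_top hW
    have hfin : Module.Finite Γ(X, V.1) Γ((Scheme.Modules.pushforward i).obj M, V.1) :=
      FinPush.finite_sections _ h V.2
    let L : Γ((Scheme.Modules.pushforward i).obj M, V.1) →+
        Γ(M.restrict hW.fromSpec, ⊤) := res M e0.le
    refine finite_of_semilinear_surjective (i.app V.1).hom L ?_ ?_ hfin
    · intro y
      refine ⟨res M e0.ge (show Γ(M, hW.fromSpec ''ᵁ ⊤) from y), ?_⟩
      change res M e0.le (res M e0.ge _) = y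
      rw [res_res, res_self]
    · intro a x
      rw [QcLoc.smul_eq hW M ⊤ ((i.app V.1).hom a) (L x)]
      change res M e0.le (a • x) = _
      rw [PushQc.push_smul i M V.1 a x]
      exact res_smul M e0.le _ _

end Groth.Agent.Helper2.HomExt.ClImmRefl
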