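import Mathlib
import Groth.Prelude.Def_Coh
import Groth.Prelude.Def_CohB1
import Groth.Prelude.Def_ModSite2
import Groth.Prelude.Def_ExtSupp
import Groth.Prelude.Def_LocCohZ
import Groth.Agent.Lib.Helper4.QSTensor
import Groth.Agent.Lib.Helper4.QSLocal2
import Groth.Agent.Lib.Helper3.GSS
import Groth.Agent.Lib.Helper3.SpSerre1
import Groth.Agent.Lib.Helper3.LocCohMod2
import Groth.Agent.Lib.Helper3.RelExtHyp
import Groth.Agent.Lib.Helper1.QcExt
import Groth.Agent.Lib.Helper5.Misc.RDComp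
import Groth.Agent.Lib.Helper2.HomExt.ExtCoh

/-!
# Quasi-coherence of the local Ext sheaves with supports (helper2)

* `sectOnIsoGammaZ` : the site-level `Γ_Z` (`ModSite.sectOn X.sheaf U`) agrees with the
  scheme-level one (`DCoh.gammaZ U.ι`);
* `isQCoh_HZsh` : `ℋ^q_Z(G)` is quasi-coherent for `G` quasi-coherent on a locally Noetherian scheme;
* `isQCoh_extSh` : `ℰxt^p(F, G)` is quasi-coherent for `F` coherent, `G` quasi-coherent;
* `isQCoh_extZSh` : `ℰxt^n_Z(F, G)` is quasi-coherent, via the Grothendieck spectral sequence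
  `ℰxt^p(F, ℋ^q_Z G) ⟹ ℰxt^{p+q}_Z(F, G)`.
-/

set_option backward.isDefEq.respectTransparency.types false
set_option synthInstance.maxHeartbeats 400000
set_option maxHeartbeats 4000000
set_option autoImplicit false
set_option linter.unusedSectionVars false
set_option linter.style.haveILetI false
universe u
open CategoryTheory CategoryTheory.Limits AlgebraicGeometry Opposite TopologicalSpace

namespace Groth.Agent.Helper2.HomExt.ExtZQ

section general

variable {𝒜 : Type*} [Category 𝒜]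

/-- two subfunctors of the identity which factor through each other are isomorphic -/
noncomputable def subfunctorIso {K₁ K₂ : 𝒜 ⥤ 𝒜} (ι₁ : K₁ ⟶ 𝟭 𝒜) (ι₂ : K₂ ⟶ 𝟭 𝒜)
    (h₁ : ∀ M, Mono (ι₁.app M)) (h₂ : ∀ M, Mono (ι₂.app M))
    (f : ∀ M, K₁.obj M ⟶ K₂.obj M) (hf : ∀ M, f M ≫ ι₂.app M = ι₁.app M)
    (g : ∀ M, K₂.obj M ⟶ K₁.obj M) (hg : ∀ M, g M ≫ ι₁.app M = ι₂.app M) : K₁ ≅ K₂ :=
  NatIso.ofComponents
    (fun M =>
      { hom := f M
        inv := g M
        hom_inv_id := by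
          haveI := h₁ M
          rw [← cancel_mono (ι₁.app M), Category.assoc, hg, hf, Category.id_comp]
        inv_hom_id := by
          haveI := h₂ M
          rw [← cancel_mono (ι₂.app M), Category.assoc, hf, hg, Category.id_comp] })
    (by
      intro M N φ
      change K₁.map φ ≫ f N = f M ≫ K₂.map φ
      haveI := h₂ N
      rw [← cancel_mono (ι₂.app N), Category.assoc, Category.assoc, hf]
      have h1 := ι₁.naturality φ
      have h2 := ι₂.naturality φ
      simp only [Functor.id_obj, Functor.id_map] at h1 h2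
      rw [h1, h2, ← Category.assoc, hf])

end general

section bridge

variable {X : Scheme.{u}} (U : X.Opens)

open Groth.Agent.Helper3.LocCohMod Groth.Agent.Lib.Helper4.QSAdj

lemma app_res' {M N : X.Modules} (φ : M ⟶ N) {W W' : X.Opens} (h : W' ≤ W) (s : Γ(M, W)) :
    N.presheaf.map (homOfLE h).op (φ.app W s) = φ.app W' (M.presheaf.map (homOfLE h).op s) := by
  have := congrArg (fun f => f.hom s) (φ.mapPresheaf.naturality (homOfLE h).op)
  exact this.symm

lemma image_preimage_le_U (V : X.Opens) : U.ι ''ᵁ (U.ι ⁻¹ᵁ V) ≤ U := by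
  rw [Scheme.Hom.image_preimage_eq_opensRange_inf, Scheme.Opens.opensRange_ι]
  exact inf_le_left

/-- a morphism from a module with no sections inside `U` is killed by the unit `M ⟶ j_* j^* M` -/
lemma comp_unit_eq_zero {K M : X.Modules} (a : K ⟶ M)
    (hK : ∀ (V : X.Opens), V ≤ U → ∀ s : Γ(K, V), s = 0) : a ≫ (ηη U.ι).app M = 0 := by
  apply Scheme.Modules.hom_ext
  intro V
  ext s
  have h1 : (a ≫ (ηη U.ι).app M).app V s = ((ηη U.ι).app M).app V (a.app V s) := rfl
  rw [h1, unit_app_app]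
  have hle : U.ι ''ᵁ (U.ι ⁻¹ᵁ V) ≤ V := U.ι.image_preimage_le V
  have h2 := app_res' a hle s
  rw [hK _ (image_preimage_le_U U V) (K.presheaf.map (homOfLE hle).op s), map_zero] at h2
  exact h2

/-- sections of `Γ_Z(M)` (scheme version) over opens inside `U` vanish -/
lemma gammaZ_section_eq_zero (M : X.Modules) {V : X.Opens} (hV : V ≤ U)
    (s : Γ((DCoh.gammaZ U.ι).obj M, V)) : s = 0 := by
  let k : (DCoh.gammaZ U.ι).obj M ⟶ M := (ττ U.ι).app M
  haveI : Mono k := by
    change Mono (kernel.ι _)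
    infer_instance
  have hmono : Function.Injective (k.app V) :=
    Groth.Agent.Helper1.FtLocal.app_injective_of_mono k V
  apply hmono
  rw [map_zero]
  have hc : k ≫ (ηη U.ι).app M = 0 := kernel.condition _
  have h1 : ((ηη U.ι).app M).app V (k.app V s) = 0 := by
    have := congrArg (fun f : (DCoh.gammaZ U.ι).obj M ⟶ _ => f.app V s) hc
    exact this
  rw [unit_app_app] at h1
  have hle : U.ι ''ᵁ (U.ι ⁻¹ᵁ V) ≤ V := U.ι.image_preimage_le V
  have hge : V ≤ U.ι ''ᵁ (U.ι ⁻¹ᵁ V) := by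
    rw [Scheme.Hom.image_preimage_eq_opensRange_inf, Scheme.Opens.opensRange_ι]
    exact le_inf hV le_rfl
  have h2 : M.presheaf.map (homOfLE hge).op (M.presheaf.map (homOfLE hle).op (k.app V s)) = 0 :=
    (congrArg (fun t => M.presheaf.map (homOfLE hge).op t) h1).trans (map_zero _)
  rw [← h2]
  have h3 : M.presheaf.map (homOfLE hle).op ≫ M.presheaf.map (homOfLE hge).op = 𝟙 _ := by
    rw [← M.presheaf.map_comp]
    exact M.presheaf.map_id _
  have := congrArg (fun f => f.hom (k.app V s)) h3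
  exact this.symm

/-- the category of modules, in its site-level incarnation -/
abbrev 𝒜s (X : Scheme.{u}) := ModSite.Mod X.sheaf

/-- scheme-level `Γ_Z`, as a functor on `ModSite.Mod X.sheaf` -/
noncomputable def K₂ : 𝒜s X ⥤ 𝒜s X := DCoh.gammaZ U.ι

noncomputable def ι₂ : K₂ U ⟶ 𝟭 (𝒜s X) := ττ U.ι

noncomputable def η₂ (M : 𝒜s X) : M ⟶ (HH U.ι).obj M := (ηη U.ι).app M

lemma ι₂_η₂ (M : 𝒜s X) : (ι₂ U).app M ≫ η₂ U M = 0 := kernel.condition ((ηη U.ι).app M)

instance mono_ι₂ (M : 𝒜s X) : Mono ((ι₂ U).app M) := by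
  change Mono (kernel.ι ((ηη U.ι).app M))
  infer_instance

lemma sectOnι_η₂ (M : 𝒜s X) : (ModSite.sectOnι X.sheaf U).app M ≫ η₂ U M = 0 := by
  refine comp_unit_eq_zero U (K := (ModSite.sectOn X.sheaf U).obj M) (M := M)
    ((ModSite.sectOnι X.sheaf U).app M) (fun V hV s => ?_)
  exact (ExtSupp.isNullOn_iff X.sheaf U _).1 (isNullOn_sectOn (O := X.sheaf) (U := U) M)
    (homOfLE hV) s

lemma ι₂_unit (M : 𝒜s X) :
    (ι₂ U).app M ≫ (ModSite.restrPushOverAdj X.sheaf U).unit.app M = 0 := by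
  apply (restr_map_eq_zero_iff (O := X.sheaf) (U := U) _).1
  apply restr_map_eq_zero_of_src
  rw [ExtSupp.isNullOn_iff]
  intro V g s
  exact gammaZ_section_eq_zero U M (leOfHom g) s

noncomputable def fwd (M : 𝒜s X) : (ModSite.sectOn X.sheaf U).obj M ⟶ (K₂ U).obj M :=
  kernel.lift ((ηη U.ι).app M) ((ModSite.sectOnι X.sheaf U).app M) (sectOnι_η₂ U M)

lemma fwd_ι₂ (M : 𝒜s X) : fwd U M ≫ (ι₂ U).app M = (ModSite.sectOnι X.sheaf U).app M :=
  kernel.lift_ι ((ηη U.ι).app M) ((ModSite.sectOnι X.sheaf U).app M) (sectOnι_η₂ U M)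

noncomputable def bwd (M : 𝒜s X) : (K₂ U).obj M ⟶ (ModSite.sectOn X.sheaf U).obj M :=
  kernel.lift ((ModSite.restrPushOverAdj X.sheaf U).unit.app M) ((ι₂ U).app M) (ι₂_unit U M)

lemma bwd_ι (M : 𝒜s X) : bwd U M ≫ (ModSite.sectOnι X.sheaf U).app M = (ι₂ U).app M :=
  kernel.lift_ι ((ModSite.restrPushOverAdj X.sheaf U).unit.app M) ((ι₂ U).app M) (ι₂_unit U M)

/-- the site-level and the scheme-level functors of sections with supports agree -/
noncomputable def sectOnIsoGammaZ : ModSite.sectOn X.sheaf U ≅ K₂ U :=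
  subfunctorIso (ModSite.sectOnι X.sheaf U) (ι₂ U)
    (fun M => by
      change Mono (kernel.ι _)
      infer_instance)
    (fun M => inferInstance)
    (fwd U) (fwd_ι₂ U) (bwd U) (bwd_ι U)

instance additive_K₂ : (K₂ U).Additive := inferInstanceAs (DCoh.gammaZ U.ι).Additive

/-- **the local cohomology sheaves `ℋ^q_Z(G)` (site version) of a quasi-coherent module on a
locally Noetherian scheme are quasi-coherent** -/
theorem isQCoh_HZsh [IsLocallyNoetherian X] (G : X.Modules) (hG : Coh.IsQCoh G)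
    [HasInjectiveResolutions (ModSite.Mod X.sheaf)] (q : ℕ) :
    Coh.IsQCoh (((ModSite.sectOn X.sheaf U).rightDerived q).obj G) := by
  haveI : HasInjectiveResolutions X.Modules := ‹HasInjectiveResolutions (ModSite.Mod X.sheaf)›
  have h : Coh.IsQCoh (((K₂ U).rightDerived q).obj G) := S6030_main U.ι G hG q
  have e := (Groth.Agent.Lib.Helper5.Misc.RDComp.natIso (sectOnIsoGammaZ U) q).app G
  haveI : (((K₂ U).rightDerived q).obj G : X.Modules).IsQuasicoherent := h
  exact Groth.Agent.Helper1.QcAbel.isQuasicoherent_of_iso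
    (M := ((K₂ U).rightDerived q).obj G) (N := ((ModSite.sectOn X.sheaf U).rightDerived q).obj G)
    e.symm

end bridge

section extq

open Groth.Agent.Lead.TilT

variable {X : Scheme.{u}}

/-- `ℰxt^i(F, G)` is quasi-coherent for `F` coherent and `G` quasi-coherent on a locally Noetherian
scheme -/
theorem isQCoh_extSh [IsLocallyNoetherian X] (F G : X.Modules) (hF : Coh.IsCoh F)
    (hG : Coh.IsQCoh G)
    [ModSite.HasSheafHom (O := X.sheaf) F] [HasInjectiveResolutions (ModSite.Mod X.sheaf)] (i : ℕ) :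
    Coh.IsQCoh ((ModSite.extSh (O := X.sheaf) F i).obj G) := by
  haveI : G.IsQuasicoherent := hG
  obtain ⟨H, hH⟩ : ∃ H : X.Modules, H = (ModSite.extSh (O := X.sheaf) F i).obj G := ⟨_, rfl⟩
  rw [← hH]
  refine Groth.Agent.Helper1.QCohLib.isQuasicoherent_of_affine_charts H (I := X.affineOpens)
    (fun V => Γ(X, V.1)) (fun V => V.2.fromSpec) iSup_opensRange_fromSpec (fun V => ?_)
  haveI : IsNoetherianRing Γ(X, V.1) := IsLocallyNoetherian.component_noetherian V
  obtain ⟨e⟩ := nonempty_restrict_extSh_iso_tilde F G hF V.2.fromSpec i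
  subst hH
  exact isIso_fromTildeΓ_iff.2 ⟨_, ⟨e.symm⟩⟩

open Groth.Agent.Helper1 in
open scoped ZeroObject in
/-- **`ℰxt^n_Z(F, G)` is quasi-coherent for `F` coherent and `G` quasi-coherent on a locally
Noetherian scheme** -/
theorem isQCoh_extZSh [IsLocallyNoetherian X] (U : X.Opens) (F G : X.Modules) (hF : Coh.IsCoh F)
    (hG : Coh.IsQCoh G)
    [ModSite.HasSheafHom (O := X.sheaf) F] [HasInjectiveResolutions (ModSite.Mod X.sheaf)] (n : ℕ) :
    Coh.IsQCoh ((ModSite.extZSh (O := X.sheaf) U F n).obj G) := by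
  let T : 𝒜s X ⥤ 𝒜s X := ModSite.sectOn X.sheaf U
  let S : 𝒜s X ⥤ 𝒜s X := ModSite.sheafHom (O := X.sheaf) F
  haveI : PreservesFiniteLimits S :=
    Groth.Agent.Helper3.RelExtHyp.preservesFiniteLimits_sheafHom (O := X.sheaf) F
  have hT : ∀ Q : 𝒜s X, Injective Q → ∀ q : ℕ, 0 < q →
      IsZero ((S.rightDerived q).obj (T.obj Q)) := by
    intro Q hQ q hq
    obtain ⟨m, rfl⟩ : ∃ m, q = m + 1 := ⟨q - 1, by omega⟩
    haveI : Injective (T.obj Q) :=
      Groth.Agent.Lib.Helper4.QSLocal2.injective_sectOn (O := X.sheaf) (U := U) Q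
    exact Functor.isZero_rightDerived_obj_injective_succ S m (T.obj Q)
  obtain ⟨E, a, hfin, -, hE2⟩ := Groth.Agent.Helper3.GSS.main' T S hT G
  let P : ObjectProperty (𝒜s X) := fun M => Coh.IsQCoh (X := X) M
  haveI : P.IsClosedUnderIsomorphisms := ⟨fun {M N} e h => by
    haveI : (M : X.Modules).IsQuasicoherent := h
    exact QcAbel.isQuasicoherent_of_iso (M := M) (N := N) e⟩
  have hzero : ∀ M : 𝒜s X, IsZero M → P M := fun M hM =>
    QcAbel.isQuasicoherent_of_isZero (G := M) hM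
  have hker : ∀ {M N : 𝒜s X} (f : M ⟶ N), P M → P N → P (kernel f) := by
    intro M N f hM hN
    haveI : (M : X.Modules).IsQuasicoherent := hM
    haveI : (N : X.Modules).IsQuasicoherent := hN
    exact QcAbel.isQuasicoherent_kernel (M := M) (N := N) f
  have hcoker : ∀ {M N : 𝒜s X} (f : M ⟶ N), P M → P N → P (cokernel f) := by
    intro M N f hM hN
    haveI : (M : X.Modules).IsQuasicoherent := hM
    haveI : (N : X.Modules).IsQuasicoherent := hN
    exact QcAbel.isQuasicoherent_cokernel (M := M) (N := N) f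
  have hext : ∀ S' : ShortComplex (𝒜s X), S'.ShortExact → P S'.X₁ → P S'.X₃ → P S'.X₂ := by
    intro S' hS' h1 h3
    haveI : (S'.X₁ : X.Modules).IsQuasicoherent := h1
    haveI : (S'.X₃ : X.Modules).IsQuasicoherent := h3
    exact QcExt.isQuasicoherent_mid (S := S') hS'
  have hE2P : ∀ p q : ℤ, P ((E.page 2 le_rfl).X (p, q)) := by
    intro p q
    obtain ⟨e⟩ := hE2 p q
    refine P.prop_of_iso e.symm ?_
    split_ifs with h
    · exact isQCoh_extSh F _ hF (isQCoh_HZsh U G hG q.toNat) p.toNat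
    · exact hzero _ (isZero_zero _)
  have hneg : ∀ p q : ℤ, p < 0 → IsZero ((E.page 2 le_rfl).X (p, q)) := by
    intro p q hp
    obtain ⟨e⟩ := hE2 p q
    have hn : ¬ (0 ≤ p ∧ 0 ≤ q) := by omega
    rw [if_neg hn] at e
    exact IsZero.of_iso (isZero_zero _) e
  have hInv := Groth.Agent.Helper3.SpSerre.inv_base P hzero E (n : ℤ) 2 le_rfl hneg
    (fun p q _ => hE2P p q)
  have hab := Groth.Agent.Helper3.SpSerre.prop_abut P hzero hker hcoker hext E a (n : ℤ) 2 le_rfl
    le_rfl hInv (n : ℤ) le_rfl (hfin n)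
  have hn0 : (0 : ℤ) ≤ (n : ℤ) := Int.natCast_nonneg n
  simp only [if_pos hn0, Int.toNat_natCast] at hab
  have e := (Groth.Agent.Lib.Helper5.Misc.RDComp.natIso
    (Groth.Agent.Lib.Helper4.QSTensor.sheafHomSectOnIso (O := X.sheaf) U F) n).app G
  haveI : ((((T ⋙ S).rightDerived n).obj G : 𝒜s X) : X.Modules).IsQuasicoherent := hab
  exact QcAbel.isQuasicoherent_of_iso (M := ((T ⋙ S).rightDerived n).obj G)
    (N := (ModSite.extZSh (O := X.sheaf) U F n).obj G) e.symm

end extq

end Groth.Agent.Helper2.HomExt.ExtZQ
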