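import Mathlib
import Groth.Agent.Lib.Helper2.HomExt.ChangeRings
import Groth.Agent.Lib.Helper2.HomExt.ClImmRefl
import Groth.Agent.Lib.Helper2.HomExt.ExtZQ
import Groth.Agent.Lib.Helper2.HomExt.ExtCoh
import Groth.Agent.Lib.Helper4.ExtSuppSS1

/-!
# The derived functors of `ι^!` for a closed immersion (helper2)

`ι_* R^p ι^!(F) ≅ ℰxt^p(ι_* O_Z, F)`; hence `R^p ι^!` preserves quasi-coherence and coherence on a
locally Noetherian scheme.
-/

set_option backward.isDefEq.respectTransparency.types false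
set_option synthInstance.maxHeartbeats 400000
set_option maxHeartbeats 4000000
set_option autoImplicit false
set_option linter.unusedSectionVars false
set_option linter.style.haveILetI false
universe u

open CategoryTheory CategoryTheory.Limits AlgebraicGeometry TopologicalSpace Opposite

namespace Groth.Agent.Helper2.HomExt.ChangeRings

open Groth.Agent.Helper2.HomExt Groth.Agent.Helper2.HomExt.TensHomNat
open Groth.Agent.Lib.Helper5

section unit

variable (Z : Scheme.{u})

/-- `- ⊗ O ≅ 𝟭` -/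
noncomputable def tFUnitIso : tF (ModSite.unit Z.sheaf) ≅ 𝟭 (𝒜s Z) :=
  (TensorSES.objIsoFlipObj (O := Z.sheaf) (ModSite.unit Z.sheaf)).symm ≪≫
    Groth.Agent.Lib.Helper4.ExtSuppSS1.leftUnitNatIso Z.sheaf

/-- `ℋom(O, -) ≅ 𝟭` -/
noncomputable def sheafHomUnitIso [ModSite.HasSheafHom (O := Z.sheaf) (ModSite.unit Z.sheaf)] :
    ModSite.sheafHom (O := Z.sheaf) (ModSite.unit Z.sheaf) ≅ 𝟭 (𝒜s Z) :=
  conjugateIsoEquiv (ModSite.sheafHomAdj (O := Z.sheaf) (ModSite.unit Z.sheaf)) Adjunction.id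
    (tFUnitIso Z).symm

end unit

variable {Z X : Scheme.{u}} (ι : Z ⟶ X) [IsClosedImmersion ι]

/-- `ι_* ι^! ≅ ℋom(ι_* O_Z, -)` -/
noncomputable def ishPushIso [ModSite.HasSheafHom (O := Z.sheaf) (ModSite.unit Z.sheaf)]
    [ModSite.HasSheafHom (O := X.sheaf) ((push ι).obj (ModSite.unit Z.sheaf))] :
    ish ι ⋙ push ι ≅ ModSite.sheafHom (O := X.sheaf) ((push ι).obj (ModSite.unit Z.sheaf)) :=
  Functor.isoWhiskerLeft (ish ι)
      ((Functor.leftUnitor _).symm ≪≫
        Functor.isoWhiskerRight (sheafHomUnitIso Z).symm (push ι)) ≪≫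
    rightIso ι (ModSite.unit Z.sheaf)

variable [HasInjectiveResolutions (ModSite.Mod X.sheaf)]

/-- `ι_* R^p ι^!(F) ≅ ℰxt^p(ι_* O_Z, F)` -/
noncomputable def pushRightDerivedIshIso
    [ModSite.HasSheafHom (O := X.sheaf) ((push ι).obj (ModSite.unit Z.sheaf))]
    (F : X.Modules) (p : ℕ) :
    (push ι).obj (((ish ι).rightDerived p).obj F) ≅
      (ModSite.extSh (O := X.sheaf) ((push ι).obj (ModSite.unit Z.sheaf)) p).obj F :=
  haveI : ModSite.HasSheafHom (O := Z.sheaf) (ModSite.unit Z.sheaf) :=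
    Groth.Agent.Helper3.SHomEx.hasSheafHom _
  (Misc.RDComp.postIso (ish ι) (push ι) F p).symm ≪≫
    (Misc.RDComp.natIso (ishPushIso ι) p).app F

theorem isCoh_push_unit [IsLocallyNoetherian X] :
    Coh.IsCoh ((push ι).obj (ModSite.unit Z.sheaf)) := by
  refine Groth.Agent.Helper1.FinPush.isCoh_pushforward ι (Coh.structureModule Z) ?_
  exact Groth.Agent.Helper1.Dv.isCoh_structureModule Z

/-- **`R^p ι^!` preserves quasi-coherence** -/
theorem isQCoh_rightDerived_ish [IsLocallyNoetherian X] (F : X.Modules) (hF : Coh.IsQCoh F)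
    (p : ℕ) : Coh.IsQCoh (((ish ι).rightDerived p).obj F) := by
  haveI : ModSite.HasSheafHom (O := X.sheaf) ((push ι).obj (ModSite.unit Z.sheaf)) :=
    Groth.Agent.Helper3.SHomEx.hasSheafHom _
  apply ClImmRefl.isQuasicoherent_of_push ι
  haveI : ((ModSite.extSh (O := X.sheaf) ((push ι).obj (ModSite.unit Z.sheaf)) p).obj
      F : X.Modules).IsQuasicoherent :=
    ExtZQ.isQCoh_extSh _ F (isCoh_push_unit ι) hF p
  exact Groth.Agent.Helper1.QcAbel.isQuasicoherent_of_iso (pushRightDerivedIshIso ι F p).symm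

/-- **`R^p ι^!` preserves coherence** -/
theorem isCoh_rightDerived_ish [IsLocallyNoetherian X] (F : X.Modules) (hF : Coh.IsCoh F)
    (p : ℕ) : Coh.IsCoh (((ish ι).rightDerived p).obj F) := by
  haveI : ModSite.HasSheafHom (O := X.sheaf) ((push ι).obj (ModSite.unit Z.sheaf)) :=
    Groth.Agent.Helper3.SHomEx.hasSheafHom _
  apply ClImmRefl.isCoh_of_push ι
  exact LocalCoh.isCoh_of_iso (pushRightDerivedIshIso ι F p).symm
    (isCoh_extSh _ F (isCoh_push_unit ι) hF p)

end Groth.Agent.Helper2.HomExt.ChangeRings
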