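import Mathlib
import Groth.Prelude
import Groth.Agent.Lib.Helper8.Depth19
import Groth.Agent.Lib.Helper8.CplMap3
import Groth.Agent.Lib.Helper4.DimFT1

/-!
# Regular sequences in ideals of large height in polynomial rings over a field (helper2)

In a Cohen–Macaulay Noetherian ring an ideal of height `≥ r` contains a weakly regular sequence of
length `r`.  In a polynomial ring `k[x_1, …, x_N]` over a field, an ideal `I` with
`dim (k[x]/I) + r ≤ N` has height `≥ r` (dimension formula), hence contains such a sequence.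
-/

set_option autoImplicit false
universe u

namespace Groth.Agent.Helper2.HomExt.RegSeqHeight

open LocCoh RingTheory.Sequence

theorem isWeaklyRegular_replicate_one {R : Type u} [CommRing R] (c : ℕ) :
    ∀ (M : Type u) [AddCommGroup M] [Module R M],
      IsWeaklyRegular M (List.replicate c (1 : R)) := by
  induction c with
  | zero =>
    intro M _ _
    exact IsWeaklyRegular.nil R M
  | succ c ih =>
    intro M _ _
    rw [List.replicate_succ, isWeaklyRegular_cons_iff]
    exact ⟨IsSMulRegular.one M, ih _⟩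

theorem isWeaklyRegular_take {R : Type u} [CommRing R] {M : Type u} [AddCommGroup M] [Module R M]
    {rs : List R} (h : IsWeaklyRegular M rs) (r : ℕ) : IsWeaklyRegular M (rs.take r) := by
  have h1 : IsWeaklyRegular M (rs.take r ++ rs.drop r) := by rwa [List.take_append_drop]
  exact ((isWeaklyRegular_append_iff M _ _).mp h1).1

/-- In a Noetherian Cohen–Macaulay ring, an ideal of height `≥ r` contains a weakly regular
sequence of length `r`. -/
theorem exists_weaklyRegular_of_le_height {R : Type u} [CommRing R] [IsNoetherianRing R]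
    (hCM : IsCohenMacaulayRing R) (I : Ideal R) (r : ℕ) (h : (r : ℕ∞) ≤ I.height) :
    ∃ rs : List R, rs.length = r ∧ IsWeaklyRegular R rs ∧ ∀ x ∈ rs, x ∈ I := by
  by_cases hI : I = ⊤
  · subst hI
    exact ⟨List.replicate r 1, List.length_replicate, isWeaklyRegular_replicate_one r _,
      fun _ _ => Submodule.mem_top⟩
  · have hd := (Groth.Agent.Helper8.Depth.isCohenMacaulayRing_iff_idealDepth_eq_height.mp hCM) I hI
    unfold idealDepth at hd
    have hne : ¬ (I • (⊤ : Submodule R R) = ⊤) := by
      rw [Ideal.smul_top_eq_map, Algebra.algebraMap_self, Ideal.map_id]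
      intro h2
      apply hI
      have := congrArg (Submodule.restrictScalars R) h2
      simpa using this
    rw [if_neg hne] at hd
    rcases Nat.eq_zero_or_pos r with hr | hr
    · subst hr
      exact ⟨[], rfl, IsWeaklyRegular.nil R R, fun _ hx => by simp at hx⟩
    · by_contra hcon
      have hall : ∀ rs : List R, (IsWeaklyRegular R rs ∧ ∀ x ∈ rs, x ∈ I) → rs.length < r := by
        intro rs hrs
        by_contra hlt
        rw [not_lt] at hlt
        apply hcon
        refine ⟨rs.take r, ?_, isWeaklyRegular_take hrs.1 r, fun x hx => hrs.2 x (List.mem_of_mem_take hx)⟩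
        rw [List.length_take]
        exact min_eq_left hlt
      have hle : (⨆ (rs : List R) (_ : IsWeaklyRegular R rs ∧ ∀ x ∈ rs, x ∈ I), (rs.length : ℕ∞))
          ≤ ((r - 1 : ℕ) : ℕ∞) := by
        refine iSup₂_le fun rs hrs => ?_
        have := hall rs hrs
        exact_mod_cast Nat.le_pred_of_lt this
      rw [hd] at hle
      have h3 : (r : ℕ∞) ≤ ((r - 1 : ℕ) : ℕ∞) := h.trans hle
      have h4 : r ≤ r - 1 := by exact_mod_cast h3
      omega

section Poly

variable (k : Type u) [Field k] (N : ℕ)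

/-- In `k[x_1, …, x_N]`, `dim (k[x]/I) + r ≤ N` forces `ht I ≥ r`. -/
theorem le_height_of_dim_quotient_add_le (I : Ideal (MvPolynomial (Fin N) k)) (r : ℕ)
    (h : ringKrullDim (MvPolynomial (Fin N) k ⧸ I) + (r : WithBot ℕ∞) ≤ (N : WithBot ℕ∞)) :
    (r : ℕ∞) ≤ I.height := by
  rw [Ideal.height_eq_inf_minimalPrimes]
  refine le_iInf₂ fun p hp => ?_
  have : p.IsPrime := hp.1.1
  have hform := Groth.Agent.Lib.Helper4.DimFT1.height_add_dim_quotient k (MvPolynomial (Fin N) k) p
  rw [MvPolynomial.ringKrullDim_of_isNoetherianRing, ringKrullDim_eq_zero_of_field, zero_add,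
    Nat.card_fin] at hform
  have hle : ringKrullDim (MvPolynomial (Fin N) k ⧸ p) ≤ ringKrullDim (MvPolynomial (Fin N) k ⧸ I) :=
    ringKrullDim_le_of_surjective (Ideal.Quotient.factor hp.1.2) (Ideal.Quotient.factor_surjective hp.1.2)
  have hnn : (0 : WithBot ℕ∞) ≤ ringKrullDim (MvPolynomial (Fin N) k ⧸ p) :=
    ringKrullDim_nonneg_of_nontrivial
  -- write the dimension of the quotient as a natural number
  obtain ⟨d, hd⟩ : ∃ d : ℕ∞, ringKrullDim (MvPolynomial (Fin N) k ⧸ p) = (d : WithBot ℕ∞) := by
    cases hq : ringKrullDim (MvPolynomial (Fin N) k ⧸ p) with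
    | bot => rw [hq] at hnn; exact absurd hnn (by simp)
    | coe d => exact ⟨d, rfl⟩
  rw [hd] at hform hle
  have hform' : p.height + d = (N : ℕ∞) := by exact_mod_cast hform
  have h2 : (d : WithBot ℕ∞) + (r : WithBot ℕ∞) ≤ (N : WithBot ℕ∞) :=
    (add_le_add_left hle _).trans h
  have h2' : d + (r : ℕ∞) ≤ (N : ℕ∞) := by exact_mod_cast h2
  have hdfin : d ≠ ⊤ := by
    intro hdt
    rw [hdt] at hform'
    simp at hform'
  rw [← hform'] at h2'
  -- d + r ≤ ht p + d
  rw [add_comm p.height d] at h2'
  exact (ENat.add_le_add_iff_left hdfin).mp h2'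

theorem exists_weaklyRegular_mvPolynomial (I : Ideal (MvPolynomial (Fin N) k)) (r : ℕ)
    (h : ringKrullDim (MvPolynomial (Fin N) k ⧸ I) + (r : WithBot ℕ∞) ≤ (N : WithBot ℕ∞)) :
    ∃ rs : List (MvPolynomial (Fin N) k), rs.length = r ∧
      IsWeaklyRegular (MvPolynomial (Fin N) k) rs ∧ ∀ x ∈ rs, x ∈ I :=
  exists_weaklyRegular_of_le_height
    (Groth.Agent.Helper8.CplMap.isCohenMacaulayRing_of_isRegularRing _) I r
    (le_height_of_dim_quotient_add_le k N I r h)

/-- Transport along a ring isomorphism `k[x_1, …, x_N] ≃ A`. -/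
theorem exists_weaklyRegular_of_ringEquiv {A : Type u} [CommRing A]
    (e : MvPolynomial (Fin N) k ≃+* A) (I : Ideal A) (r : ℕ)
    (h : ringKrullDim (A ⧸ I) + (r : WithBot ℕ∞) ≤ (N : WithBot ℕ∞)) :
    ∃ rs : List A, rs.length = r ∧ IsWeaklyRegular A rs ∧ ∀ x ∈ rs, x ∈ I := by
  have hq : ringKrullDim (MvPolynomial (Fin N) k ⧸ I.comap (e : MvPolynomial (Fin N) k →+* A)) =
      ringKrullDim (A ⧸ I) := by
    refine ringKrullDim_eq_of_ringEquiv (Ideal.quotientEquiv _ _ e ?_)
    exact (Ideal.map_comap_of_surjective _ e.surjective I).symm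
  obtain ⟨rs, hlen, hreg, hmem⟩ := exists_weaklyRegular_mvPolynomial k N
    (I.comap (e : MvPolynomial (Fin N) k →+* A)) r (by rw [hq]; exact h)
  refine ⟨rs.map e, by rw [List.length_map, hlen], ?_, ?_⟩
  · refine (AddEquiv.isWeaklyRegular_congr (e := e.toAddEquiv) ?_).mp hreg
    rw [List.forall₂_map_right_iff, List.forall₂_same]
    intro x _ y
    exact map_mul e x y
  · intro x hx
    obtain ⟨y, hy, rfl⟩ := List.mem_map.mp hx
    exact hmem y hy

end Poly

end Groth.Agent.Helper2.HomExt.RegSeqHeight
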