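import Mathlib
import Groth.Prelude
import Groth.Agent.Lib.Helper2.HomExt.RegSeqHeight
import Groth.Agent.Lib.Helper6.ProjChart
import Groth.Agent.Lib.Helper3.ExtReg6

/-!
# Closed subschemes of `P^N_k` of codimension `≥ r` are locally cut out (inside the ideal) by
regular sequences of length `r` (helper2)
-/

set_option autoImplicit false
set_option backward.isDefEq.respectTransparency.types false
set_option synthInstance.maxHeartbeats 400000
set_option maxHeartbeats 4000000
universe u

namespace Groth.Agent.Helper2.HomExt.ProjCodim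

open AlgebraicGeometry CategoryTheory RingTheory.Sequence

variable (k : Type u) [Field k] (N : ℕ)

/-- the standard chart `D_+(x_i)` of `P^N_k` -/
noncomputable def V (i : Fin (N + 1)) : (CohB1.ProjSpace N k).Opens :=
  Proj.basicOpen (CohB1.polyGrading N k) (MvPolynomial.X i)

theorem isAffineOpen_V (i : Fin (N + 1)) : IsAffineOpen (V k N i) :=
  Proj.isAffineOpen_basicOpen (CohB1.polyGrading N k) (MvPolynomial.X i) (m := 1)
    (by
      change MvPolynomial.X i ∈ MvPolynomial.homogeneousSubmodule (Fin (N + 1)) k 1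
      exact MvPolynomial.isHomogeneous_X k i) Nat.one_pos

theorem iSup_V : (⨆ i : Fin (N + 1), V k N i) = ⊤ :=
  Groth.Agent.Lib.Helper6.ProjChart.cover N k

/-- the coordinate ring of a standard chart is a polynomial ring in `N` variables -/
theorem nonempty_chartEquiv (i : Fin (N + 1)) :
    Nonempty (MvPolynomial (Fin N) k ≃+* Γ(CohB1.ProjSpace N k, V k N i)) := by
  have hdeg : (MvPolynomial.X i : MvPolynomial (Fin (N + 1)) k) ∈ CohB1.polyGrading N k 1 := by
    change MvPolynomial.X i ∈ MvPolynomial.homogeneousSubmodule (Fin (N + 1)) k 1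
    exact MvPolynomial.isHomogeneous_X k i
  let e1 : MvPolynomial (Fin N) k ≃+* MvPolynomial {j : Fin (N + 1) // j ≠ i} k :=
    (MvPolynomial.renameEquiv k (finSuccAboveEquiv i)).toRingEquiv
  let e2 : MvPolynomial {j : Fin (N + 1) // j ≠ i} k ≃+*
      HomogeneousLocalization.Away (CohB1.polyGrading N k) (MvPolynomial.X i) :=
    RingEquiv.ofBijective _ (Groth.Agent.Lib.Helper6.ProjChart.phi_bijective (R := k) i)
  let e3 : HomogeneousLocalization.Away (CohB1.polyGrading N k) (MvPolynomial.X i) ≃+*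
      Γ(CohB1.ProjSpace N k, V k N i) :=
    (Proj.basicOpenIsoAway (CohB1.polyGrading N k) (MvPolynomial.X i) hdeg
      Nat.one_pos).commRingCatIsoToRingEquiv
  exact ⟨(e1.trans e2).trans e3⟩

variable {k N}

/-- the dimension of the sections over an affine open is bounded by the dimension of the scheme -/
theorem ringKrullDim_le_topologicalKrullDim {X : Scheme.{u}} (U : X.Opens) (hU : IsAffineOpen U) :
    ringKrullDim Γ(X, U) ≤ topologicalKrullDim ↥X := by
  rw [← PrimeSpectrum.topologicalKrullDim_eq_ringKrullDim Γ(X, U)]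
  change topologicalKrullDim (Spec Γ(X, U)) ≤ _
  rw [← IsHomeomorph.topologicalKrullDim_eq _ hU.isoSpec.hom.homeomorph.isHomeomorph]
  exact topologicalKrullDim_subspace_le X U

/-- **Local regular sequences.** -/
theorem locally_regular {X : Scheme.{u}} (ι : X ⟶ CohB1.ProjSpace N k) [IsClosedImmersion ι] (r : ℕ)
    (hr : topologicalKrullDim ↥X + (r : WithBot ℕ∞) ≤ (N : WithBot ℕ∞)) (F : X.Modules) :
    ∀ x : CohB1.ProjSpace N k, ∃ (W : (CohB1.ProjSpace N k).Opens) (_ : IsAffineOpen W)
      (rs : List Γ(CohB1.ProjSpace N k, W)), x ∈ W ∧ rs.length = r ∧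
      IsWeaklyRegular Γ(CohB1.ProjSpace N k, W) rs ∧
      ∀ s ∈ rs, Groth.Agent.Helper3.ExtReg.KillsOn ((Scheme.Modules.pushforward ι).obj F) W s := by
  intro x
  have hx : x ∈ (⨆ i : Fin (N + 1), V k N i) := by rw [iSup_V]; trivial
  obtain ⟨i, hi⟩ := TopologicalSpace.Opens.mem_iSup.mp hx
  have hV := isAffineOpen_V k N i
  obtain ⟨e⟩ := nonempty_chartEquiv k N i
  have hsurj : Function.Surjective (ι.app (V k N i)).hom := ι.app_surjective (V k N i) hV
  have hU : IsAffineOpen (ι ⁻¹ᵁ V k N i) := hV.preimage ι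
  have hdim : ringKrullDim (Γ(CohB1.ProjSpace N k, V k N i) ⧸ RingHom.ker (ι.app (V k N i)).hom) +
      (r : WithBot ℕ∞) ≤ (N : WithBot ℕ∞) := by
    rw [ringKrullDim_eq_of_ringEquiv (RingHom.quotientKerEquivOfSurjective hsurj)]
    exact (add_le_add_left (ringKrullDim_le_topologicalKrullDim _ hU) _).trans hr
  obtain ⟨rs, hlen, hreg, hmem⟩ :=
    Groth.Agent.Helper2.HomExt.RegSeqHeight.exists_weaklyRegular_of_ringEquiv k N e
      (RingHom.ker (ι.app (V k N i)).hom) r hdim
  refine ⟨V k N i, hV, rs, hi, hlen, hreg, fun s hs => ?_⟩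
  exact Groth.Agent.Helper3.ExtReg.killsOn_pushforward_of_ker ι F (V k N i) s (hmem s hs)

end Groth.Agent.Helper2.HomExt.ProjCodim
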