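import Mathlib
import Groth.Prelude
import Groth.Agent.Lib.Helper3.LocGlobExt2
import Groth.Agent.Lib.Helper3.SpVan

/-!
# Degeneration of the local-to-global Ext spectral sequence (helper2)

If `H^a(X, Ext^q(F, G)) = 0` for `a > 0` and `q ≤ j`, then `Ext^j(F, G) ≅ H^0(X, Ext^j(F, G))`.
-/

set_option backward.isDefEq.respectTransparency.types false
set_option synthInstance.maxHeartbeats 400000
set_option maxHeartbeats 4000000
set_option autoImplicit false
universe u

open CategoryTheory CategoryTheory.Limits AlgebraicGeometry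
open scoped ZeroObject

namespace Groth.Agent.Helper2.HomExt.ExtGlobSec

theorem nonempty_ext_iso_HH_zero (X : Scheme.{u}) (F G : X.Modules)
    [ModSite.HasSheafHom (O := X.sheaf) F] [HasInjectiveResolutions (ModSite.Mod X.sheaf)]
    [HasExt.{u} X.Modules] (j : ℕ)
    (hvan : ∀ a q : ℕ, 0 < a → q ≤ j →
      Subsingleton (Coh.HH X ((ModSite.extSh (O := X.sheaf) F q).obj G) a)) :
    Nonempty (AddCommGrpCat.of (Abelian.Ext F G j) ≅
      AddCommGrpCat.of (Coh.HH X ((ModSite.extSh (O := X.sheaf) F j).obj G) 0)) := by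
  obtain ⟨E, ab, hfin, -, hE2⟩ := Groth.Agent.Helper3.LocGlobExt.main_scheme X F G
  have hzero : ∀ a b : ℤ, (a < 0 ∨ (0 < a ∧ b ≤ j)) → IsZero ((E.page 2 le_rfl).X (a, b)) := by
    intro a b hab
    obtain ⟨e⟩ := hE2 a b
    by_cases h : 0 ≤ a ∧ 0 ≤ b
    · rw [if_pos h] at e
      refine IsZero.of_iso ?_ e
      obtain ⟨a', rfl⟩ := Int.eq_ofNat_of_zero_le h.1
      obtain ⟨b', rfl⟩ := Int.eq_ofNat_of_zero_le h.2
      simp only [Int.toNat_natCast]
      haveI := hvan a' b' (by omega) (by omega)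
      exact AddCommGrpCat.isZero_of_subsingleton _
    · rw [if_neg h] at e
      exact IsZero.of_iso (isZero_zero _) e
  have hst : SpSeq.StationaryAt E ((0 : ℤ), (j : ℤ) - 0) 2 := by
    refine Groth.Agent.Helper3.SpVan.stationaryAt_of_isZero E 2 le_rfl _ (fun r' hr' => ?_)
      (fun r' hr' => ?_)
    · refine hzero _ _ (Or.inl ?_)
      change (0 : ℤ) - r' < 0
      omega
    · refine hzero _ _ (Or.inr ⟨?_, ?_⟩)
      · change (0 : ℤ) < 0 + r'
        omega
      · change ((j : ℤ) - 0) + (1 - r') ≤ j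
        omega
  obtain ⟨e1⟩ := Groth.Agent.Helper3.SpVan.iso_single E ab 2 le_rfl (j : ℤ) 0 (hfin j)
    (fun p' hp' => hzero _ _ (by
      rcases lt_or_gt_of_ne hp' with h | h
      · exact Or.inl h
      · exact Or.inr ⟨h, by omega⟩)) hst
  obtain ⟨e2⟩ := hE2 0 ((j : ℤ) - 0)
  rw [if_pos ⟨le_rfl, by omega⟩] at e2
  have h0 : (0 : ℤ) ≤ (j : ℤ) := Int.natCast_nonneg j
  rw [if_pos h0] at e1
  rw [sub_zero] at e1 e2
  rw [Int.toNat_natCast] at e1 e2
  exact ⟨e1 ≪≫ e2⟩

/-- the `Subsingleton` form -/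
theorem subsingleton_ext_iff (X : Scheme.{u}) (F G : X.Modules)
    [ModSite.HasSheafHom (O := X.sheaf) F] [HasInjectiveResolutions (ModSite.Mod X.sheaf)]
    [HasExt.{u} X.Modules] (j : ℕ)
    (hvan : ∀ a q : ℕ, 0 < a → q ≤ j →
      Subsingleton (Coh.HH X ((ModSite.extSh (O := X.sheaf) F q).obj G) a)) :
    Subsingleton (Abelian.Ext F G j) ↔
      Subsingleton (Coh.HH X ((ModSite.extSh (O := X.sheaf) F j).obj G) 0) := by
  obtain ⟨e⟩ := nonempty_ext_iso_HH_zero X F G j hvan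
  exact e.addCommGroupIsoToAddEquiv.toEquiv.subsingleton_congr

end Groth.Agent.Helper2.HomExt.ExtGlobSec
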