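import Mathlib
import Groth.Prelude.Def_ModSite2
import Groth.Prelude.Def_ExtSupp
import Groth.Agent.Lib.Helper2.HomExt.ExtShDual
import Groth.Agent.Lib.Helper4.ExtSuppSS1
import Groth.Agent.Lib.Helper3.SHomEx

/-!
# Internal hom out of an invertible module, on a ringed site (helper2)

If `L ⊗ I ≅ O` then `- ⊗ I` is an equivalence with quasi-inverse `- ⊗ L`, hence
`ℋom(I, -) ≅ - ⊗ L`; for a morphism `inc : I ⟶ O` the cokernel of the restriction map
`ℋom(O, ω) ⟶ ℋom(I, ω)` is `coker(inc) ⊗ (L ⊗ ω)`.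
-/

set_option autoImplicit false
set_option linter.unusedSectionVars false
set_option linter.style.haveILetI false
universe u

open CategoryTheory CategoryTheory.Limits Opposite

namespace Groth.Agent.Helper2.HomExt.InvHom

open Groth.Agent.Lib.Helper5 Groth.Agent.Lib.Helper5.TenAssoc Groth.Agent.Helper2.HomExt

variable {C : Type u} [SmallCategory C] {J : GrothendieckTopology C} (O : Sheaf J CommRingCat.{u})

/-- `- ⊗ K` -/
noncomputable abbrev T (K : ModSite.Mod O) : ModSite.Mod O ⥤ ModSite.Mod O :=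
  (ModSite.tensorBi O).flip.obj K

/-- `A ⊗ B` -/
noncomputable abbrev ten (A B : ModSite.Mod O) : ModSite.Mod O :=
  ((ModSite.tensorBi O).obj A).obj B

/-- `- ⊗ O ≅ 𝟭` -/
noncomputable def rightUnitNatIso : T O (ModSite.unit O) ≅ 𝟭 (ModSite.Mod O) :=
  (TensorSES.objIsoFlipObj (O := O) (ModSite.unit O)).symm ≪≫
    Groth.Agent.Lib.Helper4.ExtSuppSS1.leftUnitNatIso O

/-- `A ⊗ B ≅ B ⊗ A` -/
noncomputable def commIso (A B : ModSite.Mod O) : ten O A B ≅ ten O B A :=
  (TensorSES.objIsoFlipObj (O := O) A).app B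

variable {O}

/-- the equivalence `- ⊗ I` with quasi-inverse `- ⊗ L` attached to `L ⊗ I ≅ O` -/
noncomputable def invEquiv (I L : ModSite.Mod O) (e₀ : ten O L I ≅ ModSite.unit O) :
    ModSite.Mod O ≌ ModSite.Mod O :=
  CategoryTheory.Equivalence.mk (T O I) (T O L)
    ((rightUnitNatIso O).symm ≪≫
      ((ModSite.tensorBi O).flip.mapIso (commIso O I L ≪≫ e₀)).symm ≪≫ (flipCompIso I L).symm)
    (flipCompIso L I ≪≫ (ModSite.tensorBi O).flip.mapIso e₀ ≪≫ rightUnitNatIso O)

/-- `ℋom(O, -) ≅ 𝟭` -/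
noncomputable def sheafHomUnitIso [ModSite.HasSheafHom (ModSite.unit O)] :
    ModSite.sheafHom (ModSite.unit O) ≅ 𝟭 (ModSite.Mod O) :=
  conjugateIsoEquiv (ModSite.sheafHomAdj (ModSite.unit O)) Adjunction.id
    (rightUnitNatIso O).symm

/-- **`coker(ℋom(O, ω) ⟶ ℋom(I, ω)) ≅ coker(I ⟶ O) ⊗ (L ⊗ ω)` for `L ⊗ I ≅ O`** -/
theorem nonempty_cokernel_sheafHomMap_iso (I L : ModSite.Mod O)
    (e₀ : ten O L I ≅ ModSite.unit O) (inc : I ⟶ ModSite.unit O) (ω : ModSite.Mod O)
    [ModSite.HasSheafHom I] [ModSite.HasSheafHom (ModSite.unit O)] :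
    Nonempty (cokernel ((ExtSupp.sheafHomMap inc).app ω) ≅
      ten O (cokernel inc) (ten O L ω)) := by
  let E := invEquiv I L e₀
  haveI : (T O I).IsEquivalence := E.isEquivalence_functor
  let adjI := ModSite.sheafHomAdj I
  let adjO := ModSite.sheafHomAdj (ModSite.unit O)
  haveI : (ModSite.sheafHom I).IsEquivalence := adjI.isEquivalence_right_of_isEquivalence_left
  haveI : (T O (ModSite.unit O)).IsEquivalence :=
    Functor.isEquivalence_of_iso (rightUnitNatIso O).symm
  haveI : (ModSite.sheafHom (ModSite.unit O)).IsEquivalence :=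
    adjO.isEquivalence_right_of_isEquivalence_left
  let H : ModSite.Mod O := (ModSite.sheafHom (ModSite.unit O)).obj ω
  let f : ten O H I ⟶ ten O H (ModSite.unit O) := ((ModSite.tensorBi O).obj H).map inc
  have hβ : (ExtSupp.sheafHomMap inc).app ω =
      adjI.unit.app H ≫ (ModSite.sheafHom I).map (f ≫ adjO.counit.app ω) := by
    simp only [ExtSupp.sheafHomMap, conjugateEquiv_apply_app, Functor.map_comp]
    rfl
  haveI : IsIso (adjI.unit.app H) := inferInstance
  haveI : IsIso (adjO.counit.app ω) := inferInstance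
  -- the cokernel
  have e1 : cokernel ((ExtSupp.sheafHomMap inc).app ω) ≅
      cokernel ((ModSite.sheafHom I).map (f ≫ adjO.counit.app ω)) :=
    cokernel.mapIso _ _ (asIso (adjI.unit.app H)) (Iso.refl _) (by
      rw [hβ]
      simp)
  have e2 : cokernel ((ModSite.sheafHom I).map (f ≫ adjO.counit.app ω)) ≅
      (ModSite.sheafHom I).obj (cokernel (f ≫ adjO.counit.app ω)) :=
    (PreservesCokernel.iso (ModSite.sheafHom I) (f ≫ adjO.counit.app ω)).symm
  have e3 : cokernel (f ≫ adjO.counit.app ω) ≅ cokernel f := cokernelCompIsIso f _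
  haveI : ModSite.HasSheafHom H := Groth.Agent.Helper3.SHomEx.hasSheafHom _
  haveI : PreservesColimitsOfSize.{0, 0} (T O H) :=
    (ModSite.sheafHomAdj H).leftAdjoint_preservesColimits
  haveI : PreservesColimit (parallelPair inc 0) ((ModSite.tensorBi O).obj H) :=
    preservesColimit_of_natIso _ (TensorSES.objIsoFlipObj (O := O) H).symm
  have e4 : cokernel f ≅ ten O H (cokernel inc) :=
    (PreservesCokernel.iso ((ModSite.tensorBi O).obj H) inc).symm
  have e5 : ModSite.sheafHom I ≅ T O L := adjI.rightAdjointUniq E.toAdjunction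
  have hH : H ≅ ω := (sheafHomUnitIso (O := O)).app ω
  -- assemble
  let Q := cokernel inc
  have e6 : (ModSite.sheafHom I).obj (cokernel (f ≫ adjO.counit.app ω)) ≅
      ten O (ten O H Q) L :=
    (ModSite.sheafHom I).mapIso (e3 ≪≫ e4) ≪≫ e5.app _
  have e7 : ten O (ten O H Q) L ≅ ten O (ten O Q ω) L :=
    (T O L).mapIso (((ModSite.tensorBi O).mapIso hH).app Q ≪≫ commIso O ω Q)
  have e8 : ten O (ten O Q ω) L ≅ ten O Q (ten O L ω) :=
    assocObj Q ω L ≪≫ ((ModSite.tensorBi O).obj Q).mapIso (commIso O ω L)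
  exact ⟨e1 ≪≫ e2 ≪≫ e6 ≪≫ e7 ≪≫ e8⟩

end Groth.Agent.Helper2.HomExt.InvHom
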