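import Mathlib
import Groth.Prelude
import Groth.Agent.Lib.Helper2.HomExt.ExtGlobSec
import Groth.Agent.Lib.Helper2.HomExt.InvHom
import Groth.Agent.Lib.Helper3.SHomEx
import Groth.Agent.Lib.Helper3.LocGlobExt1
import Groth.Agent.Lib.Helper4.DuF8
import Groth.Agent.Lib.Helper4.KosC4
import Groth.Agent.Lib.Helper4.KrrL
import Groth.Agent.Lib.Helper4.PnC7
import Groth.Agent.Lib.Helper4.SerreVan
import Groth.Agent.Lib.Helper4.ClBridge2
import Groth.Agent.Lib.Helper1.CohUtil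
import Groth.Agent.Lib.Helper1.Euler3
import Groth.Agent.Lib.Helper1.VA5
import Groth.Agent.Lib.Helper3.ExtReg6
import Groth.Agent.Lib.Helper1.TwistTens
import Groth.Agent.Lib.Helper1.InvInv2
import Groth.Agent.Lib.Lead.TilT4
import Groth.Agent.S12427
import Groth.Agent.S10943
import Groth.Agent.S0485

/-!
# Cohomology of negative twists and Ext sheaves on projective space (helper2)

For a coherent module `F` on `P = P^n_k` and `j ≤ n`: `H^{n-j}(P, F(-m)) = 0` for all `m ≫ 0` iff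
the Ext sheaf `Ext^j(F, ω_P)` vanishes.
-/

set_option backward.isDefEq.respectTransparency.types false
set_option synthInstance.maxHeartbeats 400000
set_option maxHeartbeats 4000000
set_option autoImplicit false
universe u

open CategoryTheory CategoryTheory.Limits AlgebraicGeometry

namespace Groth.Agent.Helper2.HomExt.TwistExt

open Groth.Agent.Helper2.HomExt.InvHom

section General

variable {X : Scheme.{u}}

/-- the dual of an invertible module with a given tensor inverse -/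
theorem nonempty_sheafHom_unit_iso (I L : X.Modules) [ModSite.HasSheafHom (O := X.sheaf) I]
    (e₀ : CohB1.tensorMod L I ≅ Coh.structureModule X) :
    Nonempty ((ModSite.sheafHom (O := X.sheaf) I).obj (Coh.structureModule X) ≅ L) := by
  let E := invEquiv (O := X.sheaf) I L e₀
  let φ : ModSite.sheafHom (O := X.sheaf) I ≅ T X.sheaf L :=
    (ModSite.sheafHomAdj (O := X.sheaf) I).rightAdjointUniq E.toAdjunction
  exact ⟨φ.app (ModSite.unit X.sheaf) ≪≫ Groth.Agent.Helper3.LocGlobExt.leftUnitIso X.sheaf L⟩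

/-- tensoring with an invertible module reflects zero objects -/
theorem isZero_of_isZero_tensor (I L G : X.Modules)
    (e₀ : CohB1.tensorMod L I ≅ Coh.structureModule X) (h : IsZero (CohB1.tensorMod G I)) :
    IsZero G := by
  let E := invEquiv (O := X.sheaf) I L e₀
  haveI : (T X.sheaf L).IsLeftAdjoint := E.symm.toAdjunction.isLeftAdjoint
  have h1 : IsZero ((T X.sheaf L).obj ((T X.sheaf I).obj G)) := Functor.map_isZero _ h
  exact h1.of_iso (E.unitIso.app G)

end General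

section Proj

variable (k : Type u) [Field k] (n : ℕ)

local notation "P" => CohB1.ProjSpace n k
local notation "𝒪(" d ")" => Twist.twistProjSpace n k d

/-- `O(a) ⊗ O(-a) ≅ O` -/
theorem nonempty_twist_tensor_neg_iso (a : ℤ) :
    Nonempty (CohB1.tensorMod 𝒪(a) 𝒪(-a) ≅ Coh.structureModule P) := by
  obtain ⟨e⟩ := (Groth.Agent.Helper1.TwistTens.twist_package (CohB1.polyGrading n k)
    (Groth.Agent.Lib.Helper4.SerreFin.hcov1 n k)).2.1 a (-a)
  have h : a + -a = 0 := add_neg_cancel a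
  rw [h] at e
  obtain ⟨e0⟩ := Groth.Agent.Lib.Helper4.PnC7.nonempty_iso_twist_zero n k
  exact ⟨e ≪≫ e0⟩

/-- `Ext^q(F(-m), ω) ≅ Ext^q(F, ω)(m)` -/
theorem nonempty_extSh_twist_iso (F ω : (P).Modules) (m : ℤ) (q : ℕ)
    [ModSite.HasSheafHom (O := (P).sheaf) F]
    [ModSite.HasSheafHom (O := (P).sheaf) (CohB1.tensorMod F 𝒪(-m))]
    [HasInjectiveResolutions (ModSite.Mod (P).sheaf)] :
    Nonempty ((ModSite.extSh (O := (P).sheaf) (CohB1.tensorMod F 𝒪(-m)) q).obj ω ≅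
      CohB1.tensorMod ((ModSite.extSh (O := (P).sheaf) F q).obj ω) 𝒪(m)) := by
  haveI : ModSite.HasSheafHom (O := (P).sheaf) 𝒪(-m) := Groth.Agent.Helper3.SHomEx.hasSheafHom _
  have hL : FlatMod.IsFinLocFree 𝒪(-m) :=
    Groth.Agent.Helper1.InvInv2.isFinLocFree_of_isInvertible
      (Groth.Agent.Lib.Helper4.ClBridge2.isInvertible_twist n k _)
  obtain ⟨e1⟩ := Groth.Agent.S12427.result P F ω 𝒪(-m) hL q
  obtain ⟨e₀⟩ := nonempty_twist_tensor_neg_iso k n m
  obtain ⟨e2⟩ := nonempty_sheafHom_unit_iso 𝒪(-m) 𝒪(m) e₀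
  exact ⟨e1 ≪≫ Groth.Agent.Lead.TilT.tensorModCongr (Iso.refl _) e2⟩

/-- a coherent module on projective space all of whose large twists have no global sections is
zero -/
theorem isZero_of_eventually_no_sections (G : (P).Modules) (hG : Coh.IsCoh G)
    (h : ∃ m₀ : ℤ, ∀ m : ℤ, m₀ ≤ m → Subsingleton (Coh.HH P (CohB1.tensorMod G 𝒪(m)) 0)) :
    IsZero G := by
  obtain ⟨m₀, hm₀⟩ := h
  obtain ⟨n₀, hn₀⟩ := Groth.Agent.Lib.Helper4.KosC4.exists_gg n k G hG
  let N : ℕ := max n₀ m₀.toNat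
  have hN1 : n₀ ≤ N := le_max_left _ _
  have hN2 : m₀ ≤ (N : ℤ) := by
    have : m₀.toNat ≤ N := le_max_right _ _
    omega
  have hgg := hn₀ N hN1
  haveI := hm₀ N hN2
  have h0 : Subsingleton Γ(CohB1.tensorMod G 𝒪((N : ℤ)), ⊤) :=
    (Groth.Agent.Helper1.CohUtil.HH0equiv (CohB1.tensorMod G 𝒪((N : ℤ)))).symm.toEquiv.subsingleton
  have hz := Groth.Agent.Lib.Helper4.KrrL.isZero_of_globGen _ hgg h0
  obtain ⟨e₀⟩ := nonempty_twist_tensor_neg_iso k n (-(N : ℤ))
  rw [neg_neg] at e₀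
  exact isZero_of_isZero_tensor 𝒪((N : ℤ)) 𝒪(-(N : ℤ)) G e₀ hz

/-- **Main theorem**: `H^{n-j}(P, F(-m)) = 0` for `m ≫ 0` iff `Ext^j(F, ω_P) = 0`. -/
theorem main (F : (P).Modules) (hF : Coh.IsCoh F)
    [ModSite.HasSheafHom (O := (P).sheaf) F]
    [HasInjectiveResolutions (ModSite.Mod (P).sheaf)] (j : ℕ) (hj : j ≤ n) :
    (∃ m₀ : ℤ, ∀ m : ℤ, m₀ ≤ m →
        Subsingleton (Coh.HH P (CohB1.tensorMod F 𝒪(-m)) (n - j))) ↔
      IsZero ((ModSite.extSh (O := (P).sheaf) F j).obj 𝒪(-((n : ℤ) + 1))) := by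
  haveI : EnoughInjectives (P).Modules := Groth.Agent.S0485.result _ (P).ringCatSheaf
  haveI : HasExt.{u} (P).Modules := hasExt_of_enoughInjectives _
  haveI : IsLocallyNoetherian P := Groth.Agent.Lib.Helper4.SerreFin.instLN n k
  haveI : CompactSpace P := Groth.Agent.Helper1.VA5.compactSpace_projSpace n k
  haveI : IsNoetherian P := {}
  have hω : Coh.IsCoh 𝒪(-((n : ℤ) + 1)) := Groth.Agent.Lib.Helper4.SerreFin.isCoh_twist n k _
  have hGq : ∀ q : ℕ, Coh.IsCoh ((ModSite.extSh (O := (P).sheaf) F q).obj 𝒪(-((n : ℤ) + 1))) :=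
    fun q => Groth.Agent.S10943.result P F _ hF hω q
  -- Serre vanishing for the finitely many Ext sheaves
  choose M hM using fun q : ℕ =>
    Groth.Agent.Lib.Helper4.SerreVan.serre_vanishing n k _ (hGq q)
  obtain ⟨m₁, hm₁⟩ := ((Finset.range (j + 1)).image M).exists_le
  have hm₁' : ∀ q : ℕ, q ≤ j → M q ≤ m₁ := fun q hq =>
    hm₁ _ (Finset.mem_image.2 ⟨q, Finset.mem_range.2 (by omega), rfl⟩)
  -- the key equivalence for `m ≥ m₁`
  have key : ∀ m : ℤ, m₁ ≤ m →
      (Subsingleton (Coh.HH P (CohB1.tensorMod F 𝒪(-m)) (n - j)) ↔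
        Subsingleton (Coh.HH P (CohB1.tensorMod
          ((ModSite.extSh (O := (P).sheaf) F j).obj 𝒪(-((n : ℤ) + 1))) 𝒪(m)) 0)) := by
    intro m hm
    haveI : ModSite.HasSheafHom (O := (P).sheaf) (CohB1.tensorMod F 𝒪(-m)) :=
      Groth.Agent.Helper3.SHomEx.hasSheafHom _
    have hFm : Coh.IsCoh (CohB1.tensorMod F 𝒪(-m)) :=
      Groth.Agent.Helper1.Euler.isCoh_tensor _ _ hF (Groth.Agent.Lib.Helper4.SerreFin.isCoh_twist n k _)
    have hvan : ∀ a q : ℕ, 0 < a → q ≤ j →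
        Subsingleton (Coh.HH P ((ModSite.extSh (O := (P).sheaf)
          (CohB1.tensorMod F 𝒪(-m)) q).obj 𝒪(-((n : ℤ) + 1))) a) := by
      intro a q ha hq
      obtain ⟨e⟩ := nonempty_extSh_twist_iso k n F 𝒪(-((n : ℤ) + 1)) m q
      exact Groth.Agent.Lib.Helper4.ClBridge2.subsingleton_HH_of_iso e.symm a
        (hM q m ((hm₁' q hq).trans hm) a ha)
    have h1 := Groth.Agent.Lib.Helper4.DuF8.s10950 k n (CohB1.tensorMod F 𝒪(-m)) hFm j hj
    have h2 := ExtGlobSec.subsingleton_ext_iff P (CohB1.tensorMod F 𝒪(-m))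
      𝒪(-((n : ℤ) + 1)) j hvan
    obtain ⟨e⟩ := nonempty_extSh_twist_iso k n F 𝒪(-((n : ℤ) + 1)) m j
    have h3 : Subsingleton (Coh.HH P ((ModSite.extSh (O := (P).sheaf)
          (CohB1.tensorMod F 𝒪(-m)) j).obj 𝒪(-((n : ℤ) + 1))) 0) ↔
        Subsingleton (Coh.HH P (CohB1.tensorMod
          ((ModSite.extSh (O := (P).sheaf) F j).obj 𝒪(-((n : ℤ) + 1))) 𝒪(m)) 0) :=
      ⟨fun h => Groth.Agent.Lib.Helper4.ClBridge2.subsingleton_HH_of_iso e 0 h,
        fun h => Groth.Agent.Lib.Helper4.ClBridge2.subsingleton_HH_of_iso e.symm 0 h⟩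
    exact h1.symm.trans (h2.trans h3)
  constructor
  · rintro ⟨m₀, hm₀⟩
    apply isZero_of_eventually_no_sections k n _ (hGq j)
    refine ⟨max m₀ m₁, fun m hm => ?_⟩
    exact (key m ((le_max_right _ _).trans hm)).mp (hm₀ m ((le_max_left _ _).trans hm))
  · intro hz
    refine ⟨m₁, fun m hm => (key m hm).mpr ?_⟩
    -- twists of the zero module have no cohomology
    obtain ⟨e₀⟩ := nonempty_twist_tensor_neg_iso k n (-m)
    rw [neg_neg] at e₀
    have hz' : IsZero (CohB1.tensorMod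
        ((ModSite.extSh (O := (P).sheaf) F j).obj 𝒪(-((n : ℤ) + 1))) 𝒪(m)) := by
      let E := invEquiv (O := (P).sheaf) 𝒪(m) 𝒪(-m) e₀
      haveI : (T (P).sheaf 𝒪(m)).IsLeftAdjoint := E.toAdjunction.isLeftAdjoint
      exact Functor.map_isZero (T (P).sheaf 𝒪(m)) hz
    exact Groth.Agent.Helper3.ExtReg.subsingleton_HH_of_isZero _ hz' 0

end Proj

end Groth.Agent.Helper2.HomExt.TwistExt
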