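import Mathlib
import Groth.Prelude
import Groth.Agent.Lib.Helper2.HomExt.TwistExt
import Groth.Agent.Lib.Helper2.HomExt.ExtLocFree
import Groth.Agent.Lib.Helper2.HomExt.ClImmRefl
import Groth.Agent.Lib.Helper4.PullTens1
import Groth.Agent.Lib.Helper1.PullGen2
import Groth.Agent.Lib.Helper1.QcPullGen
import Groth.Agent.Lib.Helper1.InvFt
import Groth.Agent.Lib.Helper1.FinPush
import Groth.Agent.Lib.Helper1.Dv21
import Groth.Agent.Lib.Helper5.Perf.LocalCoh

/-!
# Ext groups out of negative twists on closed subschemes of projective space (helper2)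

For a closed immersion `ι : X → P^n_k` and a coherent `O_X`-module `ω`:
`Ext^i_X(ι^*O(-m), ω) ≅ H^i(X, ω ⊗ ι^*O(m))`, which vanishes for `i > 0` and `m ≫ 0`.
-/

set_option backward.isDefEq.respectTransparency.types false
set_option synthInstance.maxHeartbeats 400000
set_option maxHeartbeats 4000000
set_option autoImplicit false
universe u

open CategoryTheory CategoryTheory.Limits AlgebraicGeometry

namespace Groth.Agent.Helper2.HomExt.TwistExtCl

open Groth.Agent.Helper2.HomExt.InvHom Groth.Agent.Helper2.HomExt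

variable (k : Type u) [Field k] (n : ℕ) {X : Scheme.{u}} (ι : X ⟶ CohB1.ProjSpace n k)

/-- `ι^*O(a) ⊗ ι^*O(-a) ≅ O_X` -/
theorem nonempty_pullback_twist_tensor_neg_iso (a : ℤ) :
    Nonempty (CohB1.tensorMod ((Scheme.Modules.pullback ι).obj (Twist.twistProjSpace n k a))
      ((Scheme.Modules.pullback ι).obj (Twist.twistProjSpace n k (-a))) ≅
        Coh.structureModule X) := by
  obtain ⟨e⟩ := TwistExt.nonempty_twist_tensor_neg_iso k n a
  have e1 := Groth.Agent.Lib.Helper4.PullTens1.pullTensIso ι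
    (Groth.Agent.Lib.Helper4.ClBridge2.isInvertible_twist n k a)
    (Groth.Agent.Lib.Helper4.ClBridge2.isInvertible_twist n k (-a))
  exact ⟨e1.symm ≪≫ (Scheme.Modules.pullback ι).mapIso e ≪≫
    Groth.Agent.Helper1.QcPullGen.pullbackUnitIso ι⟩

variable [IsClosedImmersion ι]

/-- **`Ext^i_X(ι^*O(-m), ω) = 0` for `i > 0`, `m ≫ 0`, `ω` coherent.** -/
theorem exists_subsingleton_ext_pullback_twist [HasExt.{u} X.Modules] (ω : X.Modules)
    (hω : Coh.IsCoh ω) :
    ∃ N : ℤ, ∀ m : ℤ, N ≤ m → ∀ i : ℕ, 0 < i →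
      Subsingleton (Abelian.Ext ((Scheme.Modules.pullback ι).obj
        (Twist.twistProjSpace n k (-m))) ω i) := by
  obtain ⟨N, hN⟩ := Groth.Agent.Lib.Helper4.ClBridge2.serre_vanishing_closed n k ι ω hω
  refine ⟨N, fun m hm i hi => ?_⟩
  have hAinv : PicF.IsInvertible ((Scheme.Modules.pullback ι).obj
      (Twist.twistProjSpace n k (-m))) :=
    Groth.Agent.Helper1.PullGen.isInvertible_pullback ι
      (Groth.Agent.Lib.Helper4.ClBridge2.isInvertible_twist n k (-m))
  have hAflf := Groth.Agent.Helper1.InvInv2.isFinLocFree_of_isInvertible hAinv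
  haveI : ModSite.HasSheafHom (O := X.sheaf) ((Scheme.Modules.pullback ι).obj
      (Twist.twistProjSpace n k (-m))) := Groth.Agent.Helper3.SHomEx.hasSheafHom _
  haveI : DCoh.HasSheafHom ((Scheme.Modules.pullback ι).obj
      (Twist.twistProjSpace n k (-m))) := hasSheafHom_dcoh _
  obtain ⟨e1⟩ := nonempty_ext_addEquiv_HH hAflf ω i
  obtain ⟨e₀⟩ := nonempty_pullback_twist_tensor_neg_iso k n ι m
  let E := invEquiv (O := X.sheaf) ((Scheme.Modules.pullback ι).obj
      (Twist.twistProjSpace n k (-m))) ((Scheme.Modules.pullback ι).obj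
      (Twist.twistProjSpace n k m)) e₀
  let φ : ModSite.sheafHom (O := X.sheaf) ((Scheme.Modules.pullback ι).obj
      (Twist.twistProjSpace n k (-m))) ≅ T X.sheaf ((Scheme.Modules.pullback ι).obj
      (Twist.twistProjSpace n k m)) :=
    (ModSite.sheafHomAdj (O := X.sheaf) _).rightAdjointUniq E.toAdjunction
  have e2 : (DCoh.sheafHom ((Scheme.Modules.pullback ι).obj
      (Twist.twistProjSpace n k (-m)))).obj ω ≅
      Groth.Agent.Lib.Helper4.ClBridge2.twOn n k ι ω m :=
    (dcohIsoModSite _).app ω ≪≫ φ.app ω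
  have h3 := hN m hm i hi
  have h4 : Subsingleton (Coh.HH X ((DCoh.sheafHom ((Scheme.Modules.pullback ι).obj
      (Twist.twistProjSpace n k (-m)))).obj ω) i) :=
    Groth.Agent.Lib.Helper4.ClBridge2.subsingleton_HH_of_iso e2.symm i h3
  exact e1.toEquiv.subsingleton

end Groth.Agent.Helper2.HomExt.TwistExtCl
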