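import Mathlib
import Groth.Prelude
import Groth.Agent.Lib.Helper2.HomExt.RegSeqHeight
import Groth.Agent.Lib.Helper3.ExtReg6
import Groth.Agent.Lib.Helper4.FTDim1
import Groth.Agent.Lib.Helper4.DimFT4
import Groth.Agent.Lib.Helper4.Chev8
import Groth.Agent.Lib.Lead.LciReg2

/-!
# Closed subschemes of pure dimension `r` in regular schemes of pure dimension `n`, locally of
finite type over a field, contain locally regular sequences of length `n - r` in their ideal
(helper2)
-/

set_option autoImplicit false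
set_option backward.isDefEq.respectTransparency.types false
set_option synthInstance.maxHeartbeats 400000
set_option maxHeartbeats 4000000
universe u

namespace Groth.Agent.Helper2.HomExt.PureDimCodim

open AlgebraicGeometry CategoryTheory RingTheory.Sequence
open Groth.Agent.Lib.Helper4.FibDim1 Groth.Agent.Lib.Helper4.PropDim1 Groth.Agent.Lib.Helper4.DimFT2
open Groth.Agent.Lib.Helper4.FTDim1 Groth.Agent.Lib.Helper4.Chev8 Groth.Agent.Lib.Helper4.RadBir3
open Groth.Agent.Lib.Helper4.DimFT4

section Pure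

variable (k : Type u) [Field k] {X : Scheme.{u}} (p : X ⟶ Spec (CommRingCat.of k))
  [LocallyOfFiniteType p] (n : ℕ)
  (hX : ∀ Z : Set ↥X, Z ∈ irreducibleComponents ↥X → topologicalKrullDim ↥Z = (n : WithBot ℕ∞))

include k hX in
theorem tr_le_of_pure (y : X) : ((tr p y : ℕ) : WithBot ℕ∞) ≤ n := by
  rw [← dim_closure_of_field k p y, ← hX _ (irreducibleComponent_mem_irreducibleComponents y)]
  apply topologicalKrullDim_mono
  exact isClosed_irreducibleComponent.closure_subset_iff.mpr
    (Set.singleton_subset_iff.mpr mem_irreducibleComponent)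

include k p hX in
theorem dim_opens_eq_of_pure (U : X.Opens) (x : X) (hx : x ∈ U) :
    topologicalKrullDim ↥(U : Set X) = n := by
  apply le_antisymm
  · exact (topologicalKrullDim_subspace_le X U).trans
      (dim_le_of_forall_tr k p n (tr_le_of_pure k p n hX))
  · obtain ⟨ξ, hξ⟩ := QuasiSober.sober (isIrreducible_irreducibleComponent (x := x))
      isClosed_irreducibleComponent
    have hsp : ξ ⤳ x := by
      rw [specializes_iff_mem_closure, hξ.def]
      exact mem_irreducibleComponent
    have hξU : ξ ∈ U := hsp.mem_open U.2 hx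
    have h1 := tr_le_dim k (U.ι ≫ p) (⟨ξ, hξU⟩ : ↥U)
    rw [tr_restrict p U ⟨ξ, hξU⟩] at h1
    have h2 : ((tr p ξ : ℕ) : WithBot ℕ∞) = n := by
      rw [← dim_closure_of_field k p ξ, hξ.def]
      exact hX _ (irreducibleComponent_mem_irreducibleComponents x)
    rw [← h2]
    exact h1

include k p hX in
theorem localDim_eq_of_pure (x : X) : FlatMor.localDim X x = n := by
  unfold FlatMor.localDim
  have h : ∀ U : {U : TopologicalSpace.Opens X // x ∈ U},
      topologicalKrullDim (U.1 : Set X) = n := fun U => dim_opens_eq_of_pure k p n hX U.1 x U.2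
  simp only [h]
  haveI : Nonempty {U : TopologicalSpace.Opens X // x ∈ U} := ⟨⟨⊤, trivial⟩⟩
  exact iInf_const

end Pure

section Chart

variable (k : Type u) [Field k] (X : Scheme.{u}) [X.Over (Spec (CommRingCat.of k))]
  [LocallyOfFiniteType (X ↘ (Spec (CommRingCat.of k)))] (n : ℕ)
  (hX : ∀ Z : Set ↥X, Z ∈ irreducibleComponents ↥X → topologicalKrullDim ↥Z = (n : WithBot ℕ∞))

include k hX in
/-- the dimension formula on the charts of a scheme of pure dimension `n` -/
theorem height_add_dim_quotient_of_pure {U : X.Opens} (hU : IsAffineOpen U) (q : Ideal Γ(X, U))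
    [hq : q.IsPrime] :
    (q.height : WithBot ℕ∞) + ringKrullDim (Γ(X, U) ⧸ q) = n := by
  have hmem := fromSpec_mem hU ⟨q, hq⟩
  have h := localDim_eq_chart k X hU (hU.fromSpec ⟨q, hq⟩) hmem
  rw [primeIdealOf_fromSpec hU ⟨q, hq⟩,
    localDim_eq_of_pure k (X ↘ (Spec (CommRingCat.of k))) n hX] at h
  exact h.symm

end Chart

section Main

variable (k : Type u) [Field k] (P X : Scheme.{u}) [P.Over (Spec (CommRingCat.of k))]
  [LocallyOfFiniteType (P ↘ Spec (CommRingCat.of k))] (n r : ℕ)
  (hP : ∀ Z : Set ↥P, Z ∈ irreducibleComponents ↥P → topologicalKrullDim ↥Z = (n : WithBot ℕ∞))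
  (ι : X ⟶ P) [IsClosedImmersion ι]
  (hXr : ∀ Z : Set ↥X, Z ∈ irreducibleComponents ↥X → topologicalKrullDim ↥Z = (r : WithBot ℕ∞))

include k hP hXr in
theorem le_height_ker {U : P.Opens} (hU : IsAffineOpen U) :
    ((n - r : ℕ) : ℕ∞) ≤ (RingHom.ker (ι.app U).hom).height := by
  letI : X.Over (Spec (CommRingCat.of k)) := ⟨ι ≫ (P ↘ Spec (CommRingCat.of k))⟩
  haveI : LocallyOfFiniteType (X ↘ Spec (CommRingCat.of k)) :=
    (inferInstance : LocallyOfFiniteType (ι ≫ (P ↘ Spec (CommRingCat.of k))))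
  have hW : IsAffineOpen (ι ⁻¹ᵁ U) := hU.preimage ι
  have hsurj : Function.Surjective (ι.app U).hom := ι.app_surjective U hU
  rw [Ideal.height_eq_inf_minimalPrimes]
  refine le_iInf₂ fun p hp => ?_
  haveI hpp : p.IsPrime := hp.1.1
  have hle : RingHom.ker (ι.app U).hom ≤ p := hp.1.2
  haveI hp' : (p.map (ι.app U).hom).IsPrime := Ideal.map_isPrime_of_surjective hsurj hle
  -- the quotient rings agree
  let ψ : Γ(P, U) →+* Γ(X, ι ⁻¹ᵁ U) ⧸ p.map (ι.app U).hom :=
    (Ideal.Quotient.mk _).comp (ι.app U).hom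
  have hψ : Function.Surjective ψ := Ideal.Quotient.mk_surjective.comp hsurj
  have hker : RingHom.ker ψ = p := by
    rw [RingHom.ker_eq_comap_bot, ← Ideal.comap_comap, ← RingHom.ker_eq_comap_bot, Ideal.mk_ker,
      Ideal.comap_map_of_surjective _ hsurj, ← RingHom.ker_eq_comap_bot]
    exact sup_eq_left.mpr hle
  have hdim : ringKrullDim (Γ(P, U) ⧸ p) =
      ringKrullDim (Γ(X, ι ⁻¹ᵁ U) ⧸ p.map (ι.app U).hom) :=
    ringKrullDim_eq_of_ringEquiv ((Ideal.quotEquivOfEq hker).symm.trans
      (RingHom.quotientKerEquivOfSurjective hψ))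
  have h1 := height_add_dim_quotient_of_pure k P n hP hU p
  have h2 := height_add_dim_quotient_of_pure k X r hXr hW (p.map (ι.app U).hom)
  rw [← hdim] at h2
  have hnn : (0 : WithBot ℕ∞) ≤ ringKrullDim (Γ(P, U) ⧸ p) := ringKrullDim_nonneg_of_nontrivial
  obtain ⟨d, hd⟩ : ∃ d : ℕ∞, ringKrullDim (Γ(P, U) ⧸ p) = (d : WithBot ℕ∞) := by
    cases hq : ringKrullDim (Γ(P, U) ⧸ p) with
    | bot => rw [hq] at hnn; exact absurd hnn (by simp)
    | coe d => exact ⟨d, rfl⟩
  rw [hd] at h1 h2
  have e1 : p.height + d = (n : ℕ∞) := by exact_mod_cast h1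
  have e2 : (p.map (ι.app U).hom).height + d = (r : ℕ∞) := by exact_mod_cast h2
  have ha : p.height ≠ ⊤ := by
    intro h
    rw [h] at e1
    simp at e1
  have hb : (p.map (ι.app U).hom).height ≠ ⊤ := by
    intro h
    rw [h] at e2
    simp at e2
  have hdt : d ≠ ⊤ := by
    intro h
    rw [h] at e1
    simp at e1
  obtain ⟨a, ha'⟩ := ENat.ne_top_iff_exists.mp ha
  obtain ⟨b, hb'⟩ := ENat.ne_top_iff_exists.mp hb
  obtain ⟨d', hd'⟩ := ENat.ne_top_iff_exists.mp hdt
  rw [← ha', ← hd'] at e1
  rw [← hb', ← hd'] at e2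
  rw [← ha']
  have e1' : a + d' = n := by exact_mod_cast e1
  have e2' : b + d' = r := by exact_mod_cast e2
  have : n - r ≤ a := by omega
  exact_mod_cast this

include k hP hXr in
/-- **Local regular sequences** for closed subschemes of pure dimension `r` in a regular scheme of
pure dimension `n` locally of finite type over a field. -/
theorem locally_regular (hreg : ∀ p : P, IsRegularLocalRing (P.presheaf.stalk p)) (F : X.Modules) :
    ∀ x : P, ∃ (W : P.Opens) (_ : IsAffineOpen W) (rs : List Γ(P, W)), x ∈ W ∧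
      rs.length = n - r ∧ IsWeaklyRegular Γ(P, W) rs ∧
      ∀ s ∈ rs, Groth.Agent.Helper3.ExtReg.KillsOn ((Scheme.Modules.pushforward ι).obj F) W s := by
  intro x
  haveI : IsLocallyNoetherian P :=
    LocallyOfFiniteType.isLocallyNoetherian (P ↘ Spec (CommRingCat.of k))
  obtain ⟨W, hW, hxW, -⟩ := exists_isAffineOpen_mem_and_subset (U := (⊤ : P.Opens)) (x := x)
    (by simp)
  haveI : IsNoetherianRing Γ(P, W) := IsLocallyNoetherian.component_noetherian ⟨W, hW⟩
  haveI : IsRegularRing Γ(P, W) := Groth.Agent.Lead.LciLocal.isRegularRing_of_stalks hreg W hW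
  obtain ⟨rs, hlen, hregs, hmem⟩ :=
    Groth.Agent.Helper2.HomExt.RegSeqHeight.exists_weaklyRegular_of_le_height
      (Groth.Agent.Helper8.CplMap.isCohenMacaulayRing_of_isRegularRing Γ(P, W))
      (RingHom.ker (ι.app W).hom) (n - r) (le_height_ker k P X n r hP ι hXr hW)
  refine ⟨W, hW, rs, hxW, hlen, hregs, fun s hs => ?_⟩
  exact Groth.Agent.Helper3.ExtReg.killsOn_pushforward_of_ker ι F W s (hmem s hs)

end Main

end Groth.Agent.Helper2.HomExt.PureDimCodim
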