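import Mathlib
import Groth.Agent.Lib.Helper3.GSS
import Groth.Agent.Lib.Helper3.SpVan
import Groth.Agent.Lib.Helper3.RDAdd

/-!
# `H^n(RF(X)) ≅ R^nF(H⁰X)` for `X ∈ D⁺` with cohomology concentrated in degree `0` (helper2)
-/

set_option autoImplicit false
set_option linter.unusedSectionVars false
set_option linter.style.haveILetI false
universe w w' v v' u u'
open CategoryTheory Limits Pretriangulated

namespace Groth.Agent.Helper2.HomExt.HyperPlus

open Groth.Agent.Helper3 Groth.Agent.Helper3.RDPlus Groth.Agent.Helper3.RDAcyc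
  Groth.Agent.Helper3.RDBridge Groth.Agent.Helper3.GSS

variable {C : Type u} [Category.{v} C] [Abelian C] [HasDerivedCategory.{w} C] [EnoughInjectives C]
  {D : Type u'} [Category.{v'} D] [Abelian D] [HasDerivedCategory.{w'} D]
  (F : C ⥤ D) [F.Additive]

/-- the hypercohomology spectral sequence degenerates for an object concentrated in degree `0` -/
theorem nonempty_HF_iso_of_concentrated (X : DerivedCategory.Plus C) [X.IsGE 0]
    (hX : ∀ q : ℤ, q ≠ 0 → IsZero ((PlusTrunc.Hn q).obj X)) (n : ℕ) :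
    Nonempty ((HF F (n : ℤ)).obj X ≅ (F.rightDerived n).obj ((PlusTrunc.Hn 0).obj X)) := by
  let E := (Y F X).E₂SpectralSequence
  have hz : ∀ p q : ℤ, q ≠ 0 → IsZero ((E.page 2 le_rfl).X (p, q)) := by
    intro p q hq
    by_cases hp : p < 0
    · exact SpConv.isZero_page_of_neg_fst _ 2 le_rfl p q hp
    · obtain ⟨k, rfl⟩ := Int.eq_ofNat_of_zero_le (not_lt.1 hp)
      obtain ⟨e⟩ := nonempty_pageTwoIso F X (k : ℤ) q
      refine IsZero.of_iso ?_ (e ≪≫ ((HB F k).app _).symm)
      exact Groth.Agent.Helper3.RDAdd.isZero_rightDerived_obj F k (hX q hq)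
  obtain ⟨e1⟩ := SpVan.iso_row0 E (SpConv.abutment (Y F X)) 2 le_rfl le_rfl (n : ℤ)
    (SpConv.abutment_isFinite _ _) hz
  obtain ⟨e2⟩ := nonempty_pageTwoIso F X (n : ℤ) 0
  exact ⟨e1 ≪≫ e2 ≪≫ ((HB F n).app _).symm⟩

end Groth.Agent.Helper2.HomExt.HyperPlus
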