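import Mathlib
import Groth.Agent.Lib.Helper2.HomExt.InvHom
import Groth.Agent.Lib.Helper3.RDLes
import Groth.Agent.Lib.Helper3.GSS
import Groth.Agent.Lib.Helper1.Uni1

/-!
# Vanishing of `ℰxt^p(O/I, -)`, `p ≠ 1`, for an invertible ideal `I` on a ringed site (helper2)
-/

set_option autoImplicit false
set_option linter.unusedSectionVars false
set_option linter.style.haveILetI false
universe u

open CategoryTheory CategoryTheory.Limits Opposite

namespace Groth.Agent.Helper2.HomExt.InvHom

open Groth.Agent.Lib.Helper5 Groth.Agent.Lib.Helper5.TenAssoc Groth.Agent.Helper2.HomExt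

variable {C : Type u} [SmallCategory C] {J : GrothendieckTopology C} {O : Sheaf J CommRingCat.{u}}

/-- `ℋom(I, -)` is an equivalence when `L ⊗ I ≅ O` -/
theorem isEquivalence_sheafHom (I L : ModSite.Mod O) (e₀ : ten O L I ≅ ModSite.unit O)
    [ModSite.HasSheafHom I] : (ModSite.sheafHom I).IsEquivalence := by
  let E := invEquiv I L e₀
  haveI : (T O I).IsEquivalence := E.isEquivalence_functor
  exact (ModSite.sheafHomAdj I).isEquivalence_right_of_isEquivalence_left

/-- `ℋom(O, -)` is an equivalence -/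
theorem isEquivalence_sheafHom_unit [ModSite.HasSheafHom (ModSite.unit O)] :
    (ModSite.sheafHom (ModSite.unit O)).IsEquivalence := by
  haveI : (T O (ModSite.unit O)).IsEquivalence :=
    Functor.isEquivalence_of_iso (rightUnitNatIso O).symm
  exact (ModSite.sheafHomAdj (ModSite.unit O)).isEquivalence_right_of_isEquivalence_left

/-- the higher derived functors of an equivalence vanish -/
theorem isZero_extSh_of_isEquivalence (M : ModSite.Mod O) [ModSite.HasSheafHom M]
    [HasInjectiveResolutions (ModSite.Mod O)] (h : (ModSite.sheafHom M).IsEquivalence)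
    (G : ModSite.Mod O) (p : ℕ) : IsZero ((ModSite.extSh M (p + 1)).obj G) := by
  haveI := h
  haveI : EnoughInjectives (ModSite.Mod O) :=
    Groth.Agent.Helper3.GSS.enoughInjectives_of_hasInjectiveResolutions _
  haveI : PreservesFiniteLimits (ModSite.sheafHom M) := inferInstance
  haveI : (ModSite.sheafHom M).PreservesEpimorphisms := inferInstance
  exact Groth.Agent.Helper1.Uni.rightDerived_isZero_of_exact (ModSite.sheafHom M) p G

/-- the restriction map `ℋom(O, ω) ⟶ ℋom(I, ω)` is a monomorphism when `ω ⊗ I ⟶ ω ⊗ O` is -/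
theorem mono_sheafHomMap_app (I L : ModSite.Mod O)
    (e₀ : ten O L I ≅ ModSite.unit O) (inc : I ⟶ ModSite.unit O) (ω : ModSite.Mod O)
    [ModSite.HasSheafHom I] [ModSite.HasSheafHom (ModSite.unit O)]
    (hm : Mono (((ModSite.tensorBi O).obj ω).map inc)) :
    Mono ((ExtSupp.sheafHomMap inc).app ω) := by
  haveI := isEquivalence_sheafHom I L e₀
  haveI := isEquivalence_sheafHom_unit (O := O)
  let adjI := ModSite.sheafHomAdj I
  let adjO := ModSite.sheafHomAdj (ModSite.unit O)
  let H : ModSite.Mod O := (ModSite.sheafHom (ModSite.unit O)).obj ω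
  let f : ten O H I ⟶ ten O H (ModSite.unit O) := ((ModSite.tensorBi O).obj H).map inc
  have hβ : (ExtSupp.sheafHomMap inc).app ω =
      adjI.unit.app H ≫ (ModSite.sheafHom I).map (f ≫ adjO.counit.app ω) := by
    simp only [ExtSupp.sheafHomMap, conjugateEquiv_apply_app, Functor.map_comp]
    rfl
  have hH : H ≅ ω := (sheafHomUnitIso (O := O)).app ω
  have hnat : ((ModSite.tensorBi O).map hH.hom).app I ≫ ((ModSite.tensorBi O).obj ω).map inc =
      f ≫ ((ModSite.tensorBi O).map hH.hom).app (ModSite.unit O) :=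
    (((ModSite.tensorBi O).map hH.hom).naturality inc).symm
  haveI : IsIso (((ModSite.tensorBi O).map hH.hom).app (ModSite.unit O)) :=
    inferInstanceAs (IsIso (((ModSite.tensorBi O).mapIso hH).app (ModSite.unit O)).hom)
  haveI : IsIso (((ModSite.tensorBi O).map hH.hom).app I) :=
    inferInstanceAs (IsIso (((ModSite.tensorBi O).mapIso hH).app I).hom)
  haveI : Mono f := by
    haveI := hm
    have h1 : Mono (f ≫ ((ModSite.tensorBi O).map hH.hom).app (ModSite.unit O)) := by
      rw [← hnat]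
      infer_instance
    exact mono_of_mono f (((ModSite.tensorBi O).map hH.hom).app (ModSite.unit O))
  haveI : IsIso (adjI.unit.app H) := inferInstance
  haveI : IsIso (adjO.counit.app ω) := inferInstance
  rw [hβ]
  infer_instance

/-- `O ⊗ I ⟶ O ⊗ O` is a monomorphism when `I ⟶ O` is -/
theorem mono_unit_tensor_map {I : ModSite.Mod O} (inc : I ⟶ ModSite.unit O) [Mono inc] :
    Mono (((ModSite.tensorBi O).obj (ModSite.unit O)).map inc) := by
  have hnat := (Groth.Agent.Lib.Helper4.ExtSuppSS1.leftUnitNatIso O).hom.naturality inc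
  have h1 : Mono (((ModSite.tensorBi O).obj (ModSite.unit O)).map inc ≫
      (Groth.Agent.Lib.Helper4.ExtSuppSS1.leftUnitNatIso O).hom.app (ModSite.unit O)) := by
    rw [hnat]
    infer_instance
  exact mono_of_mono _ ((Groth.Agent.Lib.Helper4.ExtSuppSS1.leftUnitNatIso O).hom.app
    (ModSite.unit O))

section les

variable (S : ShortComplex (ModSite.Mod O)) (hS : S.ShortExact)
  [ModSite.HasSheafHom S.X₁] [ModSite.HasSheafHom S.X₂] [ModSite.HasSheafHom S.X₃]
  [HasInjectiveResolutions (ModSite.Mod O)] (G : ModSite.Mod O)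

include hS in
/-- `ℋom(S.X₃, G) = 0` when `ℋom(S.X₂, G) ⟶ ℋom(S.X₁, G)` is a monomorphism -/
theorem isZero_extSh_zero_of_mono (hm : Mono ((ExtSupp.sheafHomMap S.f).app G)) :
    IsZero ((ModSite.extSh S.X₃ 0).obj G) := by
  haveI : PreservesFiniteLimits (ModSite.sheafHom S.X₃) := by
    haveI := (ModSite.sheafHomAdj S.X₃).rightAdjoint_preservesLimits
    infer_instance
  refine IsZero.of_iso ?_ ((Functor.rightDerivedZeroIsoSelf (ModSite.sheafHom S.X₃)).app G)
  haveI := hm
  haveI := Groth.Agent.Helper3.SHomEx.mono_g G hS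
  have h0 : (ExtSupp.sheafHomMap S.g).app G = 0 := by
    rw [← cancel_mono ((ExtSupp.sheafHomMap S.f).app G), Groth.Agent.Helper3.SHomEx.zero S G,
      zero_comp]
  rw [IsZero.iff_id_eq_zero, ← cancel_mono ((ExtSupp.sheafHomMap S.g).app G), h0]
  simp

include hS in
/-- `ℰxt^{p+2}(S.X₃, G) = 0` when the higher Ext sheaves of `S.X₁` and `S.X₂` vanish -/
theorem isZero_extSh_add_two
    (h1 : ∀ p : ℕ, IsZero ((ModSite.extSh S.X₁ (p + 1)).obj G))
    (h2 : ∀ p : ℕ, IsZero ((ModSite.extSh S.X₂ (p + 1)).obj G)) (p : ℕ) :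
    IsZero ((ModSite.extSh S.X₃ (p + 2)).obj G) := by
  have hyp : Groth.Agent.Helper3.RDLes.Hyp (ExtSupp.sheafHomMap S.g) (ExtSupp.sheafHomMap S.f) :=
    fun Q hQ => by
      haveI := hQ
      exact ⟨Groth.Agent.Helper3.SHomEx.zero S Q, Groth.Agent.Helper3.SHomEx.shortExact Q hS⟩
  obtain ⟨-, -, δ, hδ⟩ := Groth.Agent.Helper3.RDLes.main hyp G
  obtain ⟨-, ⟨w2, ex2⟩⟩ := hδ (p + 1)
  exact ex2.isZero_of_both_zeros ((h1 p).eq_of_src _ _) ((h2 (p + 1)).eq_of_tgt _ _)

end les

end Groth.Agent.Helper2.HomExt.InvHom
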