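import Mathlib
import Groth.Prelude.Def_Dual3
import Groth.Agent.Lib.Helper2.HomExt.CartierExt
import Groth.Agent.Lib.Helper2.HomExt.InvHomVanish
import Groth.Agent.Lib.Helper2.HomExt.HyperPlusSingle
import Groth.Agent.Lib.Helper2.HomExt.HomOCoh
import Groth.Agent.Lib.Helper2.HomExt.ClImmFull
import Groth.Agent.Lib.Helper5.Perf.PCSingle

/-!
# `R Hom(O_D, O_X) = N_D[-1]` for an effective Cartier divisor (helper2)
-/

set_option backward.isDefEq.respectTransparency.types false
set_option synthInstance.maxHeartbeats 400000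
set_option maxHeartbeats 4000000
set_option autoImplicit false
set_option linter.unusedSectionVars false
set_option linter.style.haveILetI false
universe u

open CategoryTheory CategoryTheory.Limits AlgebraicGeometry TopologicalSpace Opposite

attribute [local instance] HasDerivedCategory.standard

namespace Groth.Agent.Helper2.HomExt.CartierRHom

open Groth.Agent.Helper1 Groth.Agent.Helper2.HomExt Groth.Agent.Helper2.HomExt.ChangeRings
open Groth.Agent.Helper3 Groth.Agent.Helper3.RDPlus Groth.Agent.Helper3.GSS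

variable {X : Scheme.{u}} (I : X.IdealSheafData) (L : X.Modules)
  (hL : ClSub.IsInverseOf L (ClSub.idealMod I))

section ext

variable [HasInjectiveResolutions (ModSite.Mod X.sheaf)]
  [ModSite.HasSheafHom (O := X.sheaf) (ClSub.quotMod I)]

include hL in
/-- `ℰxt^p(O_X/I, O_X) = 0` for `p ≠ 1` -/
theorem isZero_extSh_quotMod_unit (p : ℕ) (hp : p ≠ 1) :
    IsZero ((ModSite.extSh (O := X.sheaf) (ClSub.quotMod I) p).obj (ModSite.unit X.sheaf)) := by
  obtain ⟨e₀⟩ := hL
  let S : ShortComplex (ModSite.Mod X.sheaf) := IdealModL.S I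
  have hS : S.ShortExact := CurveDual.shortExact_S I
  haveI : ModSite.HasSheafHom (O := X.sheaf) S.X₁ := SHomEx.hasSheafHom _
  haveI : ModSite.HasSheafHom (O := X.sheaf) S.X₂ := SHomEx.hasSheafHom _
  haveI : ModSite.HasSheafHom (O := X.sheaf) S.X₃ :=
    ‹ModSite.HasSheafHom (O := X.sheaf) (ClSub.quotMod I)›
  haveI : ModSite.HasSheafHom (O := X.sheaf) (ModSite.unit X.sheaf) := SHomEx.hasSheafHom _
  haveI : ModSite.HasSheafHom (O := X.sheaf) (ClSub.idealMod I) := SHomEx.hasSheafHom _
  haveI : Mono S.f := hS.mono_f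
  rcases Nat.lt_or_ge p 1 with h | h
  · obtain rfl : p = 0 := by omega
    have hm : Mono ((ExtSupp.sheafHomMap (O := X.sheaf) S.f).app (ModSite.unit X.sheaf)) :=
      InvHom.mono_sheafHomMap_app (O := X.sheaf) (ClSub.idealMod I) L e₀ S.f
        (ModSite.unit X.sheaf) (@InvHom.mono_unit_tensor_map _ _ _ X.sheaf _ S.f hS.mono_f)
    exact InvHom.isZero_extSh_zero_of_mono S hS (ModSite.unit X.sheaf) hm
  · obtain ⟨k, rfl⟩ : ∃ k, p = k + 2 := ⟨p - 2, by omega⟩
    refine InvHom.isZero_extSh_add_two S hS (ModSite.unit X.sheaf) (fun q => ?_) (fun q => ?_) k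
    · exact InvHom.isZero_extSh_of_isEquivalence (O := X.sheaf) (ClSub.idealMod I)
        (InvHom.isEquivalence_sheafHom (O := X.sheaf) (ClSub.idealMod I) L e₀) _ q
    · exact InvHom.isZero_extSh_of_isEquivalence (O := X.sheaf) (ModSite.unit X.sheaf)
        (InvHom.isEquivalence_sheafHom_unit (O := X.sheaf)) _ q

end ext

section ish

variable [HasInjectiveResolutions (ModSite.Mod X.sheaf)]

include hL in
/-- `R^p ι^!(O_X) = 0` for `p ≠ 1` -/
theorem isZero_rightDerived_ish_unit (p : ℕ) (hp : p ≠ 1) :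
    IsZero (((ish I.subschemeι).rightDerived p).obj (ModSite.unit X.sheaf)) := by
  haveI : ModSite.HasSheafHom (O := X.sheaf)
      ((push I.subschemeι).obj (ModSite.unit I.subscheme.sheaf)) := SHomEx.hasSheafHom _
  have e := pushRightDerivedIshIso I.subschemeι (ModSite.unit X.sheaf) p
  have hz : IsZero ((push I.subschemeι).obj
      (((ish I.subschemeι).rightDerived p).obj (ModSite.unit X.sheaf))) :=
    IsZero.of_iso (isZero_extSh_quotMod_unit I L hL p hp) e
  haveI : (push I.subschemeι).Faithful :=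
    inferInstanceAs (Scheme.Modules.pushforward I.subschemeι).Faithful
  rw [IsZero.iff_id_eq_zero]
  apply (push I.subschemeι).map_injective
  rw [CategoryTheory.Functor.map_id, CategoryTheory.Functor.map_zero]
  exact (IsZero.iff_id_eq_zero _).1 hz

include hL in
/-- `R¹ ι^!(O_X) ≅ ι^* L` -/
theorem nonempty_rightDerived_ish_one_iso :
    Nonempty (((ish I.subschemeι).rightDerived 1).obj (ModSite.unit X.sheaf) ≅
      (Scheme.Modules.pullback I.subschemeι).obj L) := by
  haveI : ModSite.HasSheafHom (O := X.sheaf)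
      ((push I.subschemeι).obj (ModSite.unit I.subscheme.sheaf)) := SHomEx.hasSheafHom _
  haveI : ModSite.HasSheafHom (O := X.sheaf) (ClSub.quotMod I) := SHomEx.hasSheafHom _
  have ea := pushRightDerivedIshIso I.subschemeι (ModSite.unit X.sheaf) 1
  obtain ⟨eb⟩ := CartierExt.nonempty_extSh_one_quotMod_iso I L hL (ModSite.unit X.sheaf)
  have ec : CohB1.tensorMod (ClSub.quotMod I) (CohB1.tensorMod L (ModSite.unit X.sheaf)) ≅
      CohB1.tensorMod (ClSub.quotMod I) L :=
    ((ModSite.tensorBi X.sheaf).obj (ClSub.quotMod I)).mapIso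
      ((InvHom.rightUnitNatIso X.sheaf).app L)
  have ed : CohB1.tensorMod (ClSub.quotMod I) L ≅
      (Scheme.Modules.pushforward I.subschemeι).obj
        (CohB1.tensorMod (Coh.structureModule I.subscheme)
          ((Scheme.Modules.pullback I.subschemeι).obj L)) :=
    (Groth.Agent.Lib.Helper5.ProjF.piIso I.subschemeι (Coh.structureModule I.subscheme) L).symm
  have ee : (Scheme.Modules.pushforward I.subschemeι).obj
        (CohB1.tensorMod (Coh.structureModule I.subscheme)
          ((Scheme.Modules.pullback I.subschemeι).obj L)) ≅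
      (Scheme.Modules.pushforward I.subschemeι).obj
        ((Scheme.Modules.pullback I.subschemeι).obj L) :=
    (Scheme.Modules.pushforward I.subschemeι).mapIso
      ((Groth.Agent.Lib.Helper4.ExtSuppSS1.leftUnitNatIso I.subscheme.sheaf).app
        ((Scheme.Modules.pullback I.subschemeι).obj L))
  exact ClImm.nonempty_iso_of_push_iso I.subschemeι (ea ≪≫ eb ≪≫ ec ≪≫ ed ≪≫ ee)

end ish

section main

variable [Dual3.HasHomO I.subschemeι] [EnoughInjectives X.Modules]

include hL in
/-- **`R Hom(O_D, O_X) = N_D[-1]`** -/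
theorem main (O : DerivedCategory.Plus X.Modules)
    (hO : Nonempty (O.obj ≅ DCoh.inD X (Coh.structureModule X))) :
    (∀ j : ℤ, j ≠ 1 → IsZero (DCoh.HD ((Dual3.RHomOPlus I.subschemeι).obj O).obj j)) ∧
      Nonempty (DCoh.HD ((Dual3.RHomOPlus I.subschemeι).obj O).obj 1 ≅
        (Scheme.Modules.pullback I.subschemeι).obj L) := by
  obtain ⟨eO⟩ := hO
  haveI : (DCoh.inD X (Coh.structureModule X)).IsGE 0 := inferInstance
  haveI : O.IsGE 0 := by
    rw [← DerivedCategory.Plus.isGE_ι_obj_iff]
    exact DerivedCategory.TStructure.t.isGE_of_iso eO.symm 0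
  have hX : ∀ q : ℤ, q ≠ 0 → IsZero ((PlusTrunc.Hn q).obj O) := fun q hq =>
    IsZero.of_iso (Groth.Agent.Lib.Helper5.PCSingle.isZero_HD_inD _ q hq)
      ((DerivedCategory.homologyFunctor _ q).mapIso eO)
  have e0 : (PlusTrunc.Hn 0).obj O ≅ Coh.structureModule X :=
    (DerivedCategory.homologyFunctor _ 0).mapIso eO ≪≫
      Groth.Agent.Lib.Helper5.PCSingle.hdInDIso _
  have key : ∀ n : ℕ, Nonempty ((HF (Dual3.homO I.subschemeι) (n : ℤ)).obj O ≅
      ((Dual3.homO I.subschemeι).rightDerived n).obj (Coh.structureModule X)) := fun n => by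
    obtain ⟨e⟩ := HyperPlus.nonempty_HF_iso_of_concentrated (C := X.Modules)
      (D := I.subscheme.Modules) (Dual3.homO I.subschemeι) O hX n
    exact ⟨e ≪≫ ((Dual3.homO I.subschemeι).rightDerived n).mapIso e0⟩
  constructor
  · intro j hj
    by_cases hneg : j < 0
    · exact isZero_HF_of_isGE (Dual3.homO I.subschemeι) O 0 j hneg
    · obtain ⟨n, rfl⟩ := Int.eq_ofNat_of_zero_le (not_lt.1 hneg)
      obtain ⟨e⟩ := key n
      refine IsZero.of_iso (isZero_rightDerived_ish_unit I L hL n ?_) e
      intro h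
      exact hj (by rw [h]; rfl)
  · obtain ⟨e⟩ := key 1
    obtain ⟨e'⟩ := nonempty_rightDerived_ish_one_iso I L hL
    exact ⟨e ≪≫ e'⟩

end main

end Groth.Agent.Helper2.HomExt.CartierRHom
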