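import Mathlib
import Groth.Prelude.Def_CAlg

/-!
# Depth of a module of homomorphisms (helper2)

Pure commutative algebra: for a finite module `N` over a ring `R`, an ideal `I` in the Jacobson
radical, and `k ≤ 2`: `k ≤ depth_I N → k ≤ depth_I Hom(M, N)`; and `Supp Hom(M, N) ⊆ Supp N`.
-/

set_option autoImplicit false
set_option linter.style.haveILetI false
universe u v w

open RingTheory.Sequence Pointwise

namespace Groth.Agent.Helper2.HomExt

variable {R : Type u} [CommRing R]
variable {M : Type v} [AddCommGroup M] [Module R M]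
variable {N : Type w} [AddCommGroup N] [Module R N]

/-- invariance of the condition `I M = M` under linear equivalences -/
theorem smul_top_eq_top_congr {M' : Type*} [AddCommGroup M'] [Module R M'] (e : M ≃ₗ[R] M')
    (I : Ideal R) :
    I • (⊤ : Submodule R M) = ⊤ ↔ I • (⊤ : Submodule R M') = ⊤ := by
  have key : Submodule.map (e : M →ₗ[R] M') (I • (⊤ : Submodule R M)) = I • (⊤ : Submodule R M') := by
    rw [Submodule.map_smul'', Submodule.map_top, LinearMap.range_eq_top.2 e.surjective]
  constructor
  · intro h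
    rw [← key, h, Submodule.map_top, LinearMap.range_eq_top.2 e.surjective]
  · intro h
    rw [← key] at h
    have h2 : Submodule.map (e : M →ₗ[R] M') (I • (⊤ : Submodule R M)) =
        Submodule.map (e : M →ₗ[R] M') ⊤ := by
      rw [h, Submodule.map_top, LinearMap.range_eq_top.2 e.surjective]
    exact Submodule.map_injective_of_injective (f := (e : M →ₗ[R] M')) e.injective h2

/-- the depth is invariant under linear equivalences -/
theorem idealDepth_congr {M' : Type*} [AddCommGroup M'] [Module R M'] (e : M ≃ₗ[R] M')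
    (I : Ideal R) : LocCoh.idealDepth I M = LocCoh.idealDepth I M' := by
  unfold LocCoh.idealDepth
  by_cases h : I • (⊤ : Submodule R M) = ⊤
  · rw [if_pos h, if_pos ((smul_top_eq_top_congr e I).1 h)]
  · rw [if_neg h, if_neg (fun h' => h ((smul_top_eq_top_congr e I).2 h'))]
    congr 1
    funext rs
    rw [LinearEquiv.isWeaklyRegular_congr e rs]

/-- a scalar regular on the target is regular on the module of homomorphisms -/
theorem isSMulRegular_hom {r : R} (h : IsSMulRegular N r) : IsSMulRegular (M →ₗ[R] N) r := by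
  intro f g hfg
  ext x
  apply h
  have := congrArg (fun φ : M →ₗ[R] N => φ x) hfg
  simpa using this

/-- a map into `r N`, for `r` regular on `N`, is `r` times a map -/
theorem exists_eq_smul_of_forall_mem {r : R} (h : IsSMulRegular N r) (f : M →ₗ[R] N)
    (hf : ∀ x, f x ∈ r • (⊤ : Submodule R N)) : ∃ g : M →ₗ[R] N, f = r • g := by
  have hex : ∀ x, ∃ n : N, r • n = f x := fun x => by
    obtain ⟨n, -, hn⟩ := (Submodule.mem_smul_pointwise_iff_exists _ _ _).1 (hf x)
    exact ⟨n, hn⟩
  choose g hg using hex
  refine ⟨{ toFun := g, map_add' := fun x y => ?_, map_smul' := fun a x => ?_ }, ?_⟩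
  · apply h
    change r • g (x + y) = r • (g x + g y)
    rw [smul_add, hg, hg, hg, map_add]
  · apply h
    change r • g (a • x) = r • ((RingHom.id R) a • g x)
    rw [RingHom.id_apply, smul_comm, hg, hg, map_smul]
  · ext x
    exact (hg x).symm

/-- the second element of a regular sequence on the target is regular on the module of homomorphisms
modulo the first -/
theorem isSMulRegular_quotSMulTop_hom {r s : R} (hr : IsSMulRegular N r)
    (hs : IsSMulRegular (QuotSMulTop r N) s) :
    IsSMulRegular (QuotSMulTop r (M →ₗ[R] N)) s := by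
  let π : N →ₗ[R] QuotSMulTop r N := Submodule.mkQ _
  let Φ : (M →ₗ[R] N) →ₗ[R] (M →ₗ[R] QuotSMulTop r N) := LinearMap.compRight R π
  have hker : LinearMap.ker Φ = r • (⊤ : Submodule R (M →ₗ[R] N)) := by
    apply le_antisymm
    · intro f hf
      have hf' : ∀ x, f x ∈ r • (⊤ : Submodule R N) := fun x => by
        have h1 : π (f x) = 0 := by
          have := congrArg (fun φ : M →ₗ[R] QuotSMulTop r N => φ x) (LinearMap.mem_ker.1 hf)
          exact this
        exact (Submodule.Quotient.mk_eq_zero _).1 h1
      obtain ⟨g, rfl⟩ := exists_eq_smul_of_forall_mem hr f hf'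
      exact Submodule.smul_mem_pointwise_smul g r ⊤ Submodule.mem_top
    · intro f hf
      obtain ⟨g, -, rfl⟩ := (Submodule.mem_smul_pointwise_iff_exists _ _ _).1 hf
      rw [LinearMap.mem_ker]
      ext x
      change π ((r • g) x) = 0
      rw [LinearMap.smul_apply]
      exact (Submodule.Quotient.mk_eq_zero _).2
        (Submodule.smul_mem_pointwise_smul (g x) r ⊤ Submodule.mem_top)
  let Ψ : QuotSMulTop r (M →ₗ[R] N) →ₗ[R] (M →ₗ[R] QuotSMulTop r N) :=
    Submodule.liftQ _ Φ hker.ge
  have hΨ : Function.Injective Ψ := by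
    rw [← LinearMap.ker_eq_bot]
    exact Submodule.ker_liftQ_eq_bot _ Φ hker.ge hker.le
  have h2 : IsSMulRegular (M →ₗ[R] QuotSMulTop r N) s := isSMulRegular_hom hs
  intro a b hab
  apply hΨ
  apply h2
  change s • Ψ a = s • Ψ b
  rw [← map_smul, ← map_smul]
  exact congrArg Ψ hab

/-- `k ≤ depth_I N` implies `k ≤ depth_I Hom(M, N)` for `k ≤ 2`, `N` finite, `I` in the radical -/
theorem le_idealDepth_hom [Module.Finite R N] (I : Ideal R) (hI : I ≤ Ideal.jacobson ⊥) (k : ℕ)
    (hk : k ≤ 2) (h : (k : ℕ∞) ≤ LocCoh.idealDepth I N) :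
    (k : ℕ∞) ≤ LocCoh.idealDepth I (M →ₗ[R] N) := by
  unfold LocCoh.idealDepth at h ⊢
  by_cases hH : I • (⊤ : Submodule R (M →ₗ[R] N)) = ⊤
  · rw [if_pos hH]; exact le_top
  rw [if_neg hH]
  by_cases hN : I • (⊤ : Submodule R N) = ⊤
  · exfalso
    apply hH
    have hbot : (⊤ : Submodule R N) = ⊥ :=
      Submodule.eq_bot_of_le_smul_of_le_jacobson_bot I ⊤ Module.Finite.fg_top hN.ge hI
    haveI : Subsingleton N := by
      constructor
      intro a b
      have ha : a ∈ (⊥ : Submodule R N) := hbot ▸ Submodule.mem_top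
      have hb : b ∈ (⊥ : Submodule R N) := hbot ▸ Submodule.mem_top
      rw [(Submodule.mem_bot R).1 ha, (Submodule.mem_bot R).1 hb]
    haveI : Subsingleton (M →ₗ[R] N) := ⟨fun f g => LinearMap.ext fun x => Subsingleton.elim _ _⟩
    exact Subsingleton.elim _ _
  rw [if_neg hN] at h
  rcases Nat.eq_zero_or_pos k with rfl | hk0
  · exact zero_le
  -- extract a sequence of length at least `k`
  obtain ⟨rs, ⟨hreg, hmem⟩, hlen⟩ : ∃ rs : List R,
      (IsWeaklyRegular N rs ∧ ∀ r ∈ rs, r ∈ I) ∧ k ≤ rs.length := by
    by_contra hcon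
    push Not at hcon
    have hle : (⨆ (rs : List R) (_ : IsWeaklyRegular N rs ∧ ∀ r ∈ rs, r ∈ I), (rs.length : ℕ∞)) ≤
        ((k - 1 : ℕ) : ℕ∞) := by
      refine iSup₂_le fun rs hrs => ?_
      have := hcon rs hrs
      exact_mod_cast Nat.le_sub_one_of_lt this
    have h3 : (k : ℕ∞) ≤ ((k - 1 : ℕ) : ℕ∞) := h.trans hle
    have h4 : k ≤ k - 1 := by exact_mod_cast h3
    omega
  interval_cases k
  · -- k = 1
    match rs, hreg, hmem, hlen with
    | [], _, _, hlen => simp at hlen
    | r :: rs', hreg, hmem, _ =>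
      have hr : IsSMulRegular N r := ((isWeaklyRegular_cons_iff N r rs').1 hreg).1
      refine le_iSup₂_of_le [r] ⟨?_, ?_⟩ ?_
      · exact (isWeaklyRegular_cons_iff _ r []).2 ⟨isSMulRegular_hom hr, IsWeaklyRegular.nil _ _⟩
      · intro a ha
        rw [List.mem_singleton] at ha
        exact ha ▸ hmem r (List.mem_cons_self)
      · simp
  · -- k = 2
    match rs, hreg, hmem, hlen with
    | [], _, _, hlen => simp at hlen
    | [_], _, _, hlen => simp at hlen
    | r :: s :: rs', hreg, hmem, _ =>
      have h1 := (isWeaklyRegular_cons_iff N r (s :: rs')).1 hreg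
      have hr : IsSMulRegular N r := h1.1
      have hs : IsSMulRegular (QuotSMulTop r N) s :=
        ((isWeaklyRegular_cons_iff (QuotSMulTop r N) s rs').1 h1.2).1
      refine le_iSup₂_of_le [r, s] ⟨?_, ?_⟩ ?_
      · refine (isWeaklyRegular_cons_iff _ r [s]).2 ⟨isSMulRegular_hom hr, ?_⟩
        exact (isWeaklyRegular_cons_iff _ s []).2
          ⟨isSMulRegular_quotSMulTop_hom hr hs, IsWeaklyRegular.nil _ _⟩
      · intro a ha
        rcases List.mem_cons.1 ha with rfl | ha
        · exact hmem _ (List.mem_cons_self)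
        · rw [List.mem_singleton] at ha
          exact ha ▸ hmem s (List.mem_cons_of_mem _ List.mem_cons_self)
      · simp

/-- the support of the module of homomorphisms is contained in the support of the target -/
theorem support_hom_subset [Module.Finite R N] :
    Module.support R (M →ₗ[R] N) ⊆ Module.support R N := by
  intro p hp
  rw [Module.mem_support_iff_exists_annihilator] at hp
  obtain ⟨f, hf⟩ := hp
  rw [Module.mem_support_iff_of_finite]
  refine le_trans ?_ hf
  intro a ha
  rw [Submodule.mem_annihilator_span_singleton]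
  ext x
  rw [LinearMap.smul_apply, LinearMap.zero_apply]
  exact Module.mem_annihilator.1 ha (f x)

theorem supportDim_hom_le [Module.Finite R N] :
    Module.supportDim R (M →ₗ[R] N) ≤ Module.supportDim R N :=
  Order.krullDim_le_of_strictMono (fun a => ⟨a.1, support_hom_subset a.2⟩) (fun {_ _} lt => lt)

end Groth.Agent.Helper2.HomExt
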