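import Mathlib
import Groth.Agent.Lib.Helper2.HomExt.ExtCoh
import Groth.Agent.Lib.Lead.FLF4

/-!
# Sections of the local Ext sheaves of a coherent module over an affine open (helper2)
-/

set_option autoImplicit false
set_option linter.unusedSectionVars false
set_option linter.style.haveILetI false
universe u

open CategoryTheory CategoryTheory.Limits AlgebraicGeometry TopologicalSpace Opposite Abelian

namespace Groth.Agent.Helper2.HomExt

section Alg

variable {R : Type u} [CommRing R]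

/-- `Ext` only depends on the isomorphism class of the first variable, linearly -/
noncomputable def extCongrLeft {M M' : ModuleCat.{u} R} (e : M ≅ M') (N : ModuleCat.{u} R) (i : ℕ) :
    Ext M N i ≃ₗ[R] Ext M' N i :=
  LinearEquiv.ofLinearMap (Groth.Agent.Helper2.ExtModShift.pre N e.inv i)
    (Groth.Agent.Helper2.ExtModShift.pre N e.hom i)
    (by
      apply LinearMap.ext
      intro x
      change (Ext.mk₀ e.inv).comp ((Ext.mk₀ e.hom).comp x (zero_add i)) (zero_add i) = x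
      rw [Ext.mk₀_comp_mk₀_assoc, e.inv_hom_id, Ext.mk₀_id_comp])
    (by
      apply LinearMap.ext
      intro x
      change (Ext.mk₀ e.hom).comp ((Ext.mk₀ e.inv).comp x (zero_add i)) (zero_add i) = x
      rw [Ext.mk₀_comp_mk₀_assoc, e.hom_inv_id, Ext.mk₀_id_comp])

/-- `Ext` only depends on the isomorphism class of the second variable, linearly -/
noncomputable def extCongrRight (M : ModuleCat.{u} R) {N N' : ModuleCat.{u} R} (e : N ≅ N') (i : ℕ) :
    Ext M N i ≃ₗ[R] Ext M N' i :=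
  LinearEquiv.ofLinearMap (Ext.postcompOfLinear (Ext.mk₀ e.hom) R M (add_zero i))
    (Ext.postcompOfLinear (Ext.mk₀ e.inv) R M (add_zero i))
    (by
      apply LinearMap.ext
      intro x
      change (x.comp (Ext.mk₀ e.inv) (add_zero i)).comp (Ext.mk₀ e.hom) (add_zero i) = x
      rw [Ext.comp_assoc_of_third_deg_zero, Ext.mk₀_comp_mk₀, e.inv_hom_id, Ext.comp_mk₀_id])
    (by
      apply LinearMap.ext
      intro x
      change (x.comp (Ext.mk₀ e.hom) (add_zero i)).comp (Ext.mk₀ e.inv) (add_zero i) = x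
      rw [Ext.comp_assoc_of_third_deg_zero, Ext.mk₀_comp_mk₀, e.hom_inv_id, Ext.comp_mk₀_id])

end Alg

section Noeth

/-- the indexing type for the cover of `X` by affine opens lying over affine opens of `Y`
(after helper7's `FormalNoeth`) -/
abbrev Pairs {X Y : Scheme.{u}} (f : X ⟶ Y) : Type u :=
  {p : Y.affineOpens × X.affineOpens // p.2.1 ≤ f ⁻¹ᵁ p.1.1}

set_option backward.isDefEq.respectTransparency false in
lemma iSup_pairs_eq_top {X Y : Scheme.{u}} (f : X ⟶ Y) :
    (⨆ p : Pairs f, (p.1.2 : X.Opens)) = ⊤ := by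
  rw [eq_top_iff]
  intro x' _
  obtain ⟨_, ⟨V', hV', rfl⟩, hxV, -⟩ :=
    Y.isBasis_affineOpens.exists_subset_of_mem_open (Set.mem_univ (f.base x')) isOpen_univ
  obtain ⟨_, ⟨U', hU', rfl⟩, hxU, hUV : U' ≤ f ⁻¹ᵁ V'⟩ :=
    X.isBasis_affineOpens.exists_subset_of_mem_open hxV (f ⁻¹ᵁ V').isOpen
  exact TopologicalSpace.Opens.mem_iSup.mpr ⟨⟨⟨⟨V', hV'⟩, ⟨U', hU'⟩⟩, hUV⟩, hxU⟩

set_option backward.isDefEq.respectTransparency false in
/-- a scheme locally of finite type over a locally Noetherian scheme is locally Noetherian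
(after helper7's `FormalNoeth3`) -/
theorem isLocallyNoetherian_of_locallyOfFiniteType {X Y : Scheme.{u}} (f : X ⟶ Y)
    [LocallyOfFiniteType f] [IsLocallyNoetherian Y] : IsLocallyNoetherian X := by
  refine isLocallyNoetherian_of_affine_cover (ι := Pairs f) (S := fun p => p.1.2)
    (iSup_pairs_eq_top f) ?_
  rintro ⟨⟨⟨V, hV⟩, ⟨U, hU⟩⟩, e⟩
  haveI : IsNoetherianRing Γ(Y, V) := IsLocallyNoetherian.component_noetherian ⟨V, hV⟩
  have hft : (f.appLE V U e).hom.FiniteType := f.finiteType_appLE hV hU e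
  letI := (f.appLE V U e).hom.toAlgebra
  haveI : Algebra.FiniteType Γ(Y, V) Γ(X, U) := hft
  exact Algebra.FiniteType.isNoetherianRing Γ(Y, V) Γ(X, U)

end Noeth

open Groth.Agent.Lead.TilT Groth.Agent.Lead.FLF

variable {X : Scheme.{u}} (F G : X.Modules)

/-- **sections of the local Ext sheaves over an affine open** -/
theorem nonempty_sections_extSh_linearEquiv [IsLocallyNoetherian X] {U : X.Opens}
    (hU : IsAffineOpen U) (hF : Coh.IsCoh F) [G.IsQuasicoherent]
    [ModSite.HasSheafHom (O := X.sheaf) F] [HasInjectiveResolutions (ModSite.Mod X.sheaf)] (i : ℕ) :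
    ∃ H : X.Modules, H = (ModSite.extSh (O := X.sheaf) F i).obj G ∧
      Nonempty (Γ(H, U) ≃ₗ[Γ(X, U)]
        Ext (ModuleCat.of Γ(X, U) Γ(F, U)) (ModuleCat.of Γ(X, U) Γ(G, U)) i) := by
  refine ⟨_, rfl, ?_⟩
  obtain ⟨H, hH⟩ : ∃ H : X.Modules, H = (ModSite.extSh (O := X.sheaf) F i).obj G := ⟨_, rfl⟩
  haveI : IsNoetherianRing Γ(X, U) := IsLocallyNoetherian.component_noetherian ⟨U, hU⟩
  obtain ⟨e⟩ := nonempty_restrict_extSh_iso_tilde F G hF hU.fromSpec i
  rw [← hH] at e ⊢
  have e1 : Γ(H, U) ≃ₗ[Γ(X, U)] Γ(H.restrict hU.fromSpec, (⊤ : (Spec Γ(X, U)).Opens)) :=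
    (sectionsLinearEquiv hU H).symm
  have e2 := sectionsEquivOfIso e ⊤
  have e3 := (topEquiv Γ(X, U) (ModuleCat.of Γ(X, U)
    (Ext (ModuleCat.of Γ(X, U) Γ(F.restrict hU.fromSpec, (⊤ : (Spec Γ(X, U)).Opens)))
      (ModuleCat.of Γ(X, U) Γ(G.restrict hU.fromSpec, (⊤ : (Spec Γ(X, U)).Opens))) i))).symm
  have e4 := extCongrLeft (sectionsLinearEquiv hU F).toModuleIso
    (ModuleCat.of Γ(X, U) Γ(G.restrict hU.fromSpec, (⊤ : (Spec Γ(X, U)).Opens))) i
  have e5 := extCongrRight (ModuleCat.of Γ(X, U) Γ(F, U))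
    (sectionsLinearEquiv hU G).toModuleIso i
  exact ⟨e1.trans (e2.trans (e3.trans (e4.trans e5)))⟩

end Groth.Agent.Helper2.HomExt
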