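import Mathlib
import Groth.Prelude.Def_Coh
import Groth.Prelude.Def_CohB1
import Groth.Prelude.Def_ModSite2
import Groth.Prelude.Def_ExtSupp
import Groth.Agent.Lib.Helper4.QSTensor
import Groth.Agent.Lib.Helper3.SHomEx
import Groth.Agent.Lib.Helper3.RelExtHyp
import Groth.Agent.Lib.Helper5.Misc.RDComp
import Groth.Agent.Lib.Helper2.HomExt.ExtCoh

/-!
# Local Ext sheaves with supports (helper2)

* `extZShIsoQuot` : `ℰxt^q_Z(M, -) ≅ ℰxt^q(M/M_U, -)` on any ringed site;
* `extZShIsoOfNull` : if `M|_U = 0` then `ℰxt^q_Z(M, -) ≅ ℰxt^q(M, -)`;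
* `isNullOn_of_support` : a module on a scheme whose support misses `U` is null on `U`;
* `isCoh_extZSh_of_support` : coherence of `ℰxt^q_Z(F, G)` when `Supp F ⊆ Z`.
-/

set_option backward.isDefEq.respectTransparency.types false
set_option synthInstance.maxHeartbeats 400000
set_option maxHeartbeats 4000000
set_option autoImplicit false
universe u
open CategoryTheory CategoryTheory.Limits AlgebraicGeometry Opposite

namespace Groth.Agent.Helper2.HomExt.ExtZ

section site

variable {C : Type u} [SmallCategory C] {J : GrothendieckTopology C}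
  {O : Sheaf J CommRingCat.{u}} (U : C)

lemma isIso_quotOnπ_of_isNullOn {F : ModSite.Mod O} (hF : ModSite.IsNullOn O U F) :
    IsIso ((ModSite.quotOnπ O U).app F) := by
  have h0 : (ModSite.extZeroAdj O U).counit.app F = 0 := by
    apply ((ModSite.extZeroAdj O U).homEquiv _ _).injective
    exact hF.eq_of_tgt _ _
  exact CokernelCofork.IsColimit.isIso_π _ (colimit.isColimit _) h0

/-- the internal hom functors of isomorphic modules are isomorphic -/
noncomputable def sheafHomIsoOfIso {M M' : ModSite.Mod O} [ModSite.HasSheafHom M]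
    [ModSite.HasSheafHom M'] (e : M' ≅ M) : ModSite.sheafHom M ≅ ModSite.sheafHom M' where
  hom := ExtSupp.sheafHomMap e.hom
  inv := ExtSupp.sheafHomMap e.inv
  hom_inv_id := by
    rw [← Groth.Agent.Helper3.RelExtHyp.sheafHomMap_comp, e.inv_hom_id,
      Groth.Agent.Helper3.RelExtHyp.sheafHomMap_id]
  inv_hom_id := by
    rw [← Groth.Agent.Helper3.RelExtHyp.sheafHomMap_comp, e.hom_inv_id,
      Groth.Agent.Helper3.RelExtHyp.sheafHomMap_id]

variable [ModSite.HasPushOver O U] [HasInjectiveResolutions (ModSite.Mod O)]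

/-- `ℰxt^q_Z(M, -) ≅ ℰxt^q(M/M_U, -)` -/
noncomputable def extZShIsoQuot (M : ModSite.Mod O) [ModSite.HasSheafHom M]
    [ModSite.HasSheafHom ((ModSite.quotOn O U).obj M)] (q : ℕ) :
    ModSite.extZSh U M q ≅ ModSite.extSh ((ModSite.quotOn O U).obj M) q :=
  Groth.Agent.Lib.Helper5.Misc.RDComp.natIso
    (Groth.Agent.Lib.Helper4.QSTensor.sheafHomSectOnIso' U M) q

/-- if `M|_U = 0` then `ℰxt^q_Z(M, -) ≅ ℰxt^q(M, -)` -/
noncomputable def extZShIsoOfNull (M : ModSite.Mod O) [ModSite.HasSheafHom M]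
    (hM : ModSite.IsNullOn O U M) (q : ℕ) :
    ModSite.extZSh U M q ≅ ModSite.extSh M q :=
  haveI : ModSite.HasSheafHom ((ModSite.quotOn O U).obj M) :=
    Groth.Agent.Helper3.SHomEx.hasSheafHom _
  haveI := isIso_quotOnπ_of_isNullOn U hM
  let e : M ≅ (ModSite.quotOn O U).obj M := asIso ((ModSite.quotOnπ O U).app M)
  extZShIsoQuot U M q ≪≫
    Groth.Agent.Lib.Helper5.Misc.RDComp.natIso (sheafHomIsoOfIso e) q

end site

section scheme

variable {X : Scheme.{u}}

/-- a module on a scheme whose support misses the open `U` is null on `U` -/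
lemma isNullOn_of_support (U : X.Opens) (F : X.Modules)
    (hsupp : ∀ x ∈ CohB1.support F, x ∉ (U : Set X)) :
    ModSite.IsNullOn X.sheaf U F := by
  rw [ExtSupp.isNullOn_iff]
  intro V g s
  let Fs : TopCat.Sheaf Ab X := ⟨F.presheaf, F.isSheaf⟩
  refine TopCat.Presheaf.section_ext Fs V s 0 (fun x hx => ?_)
  have hxU : x ∈ (U : Set X) := (leOfHom g) hx
  haveI : Subsingleton (F.presheaf.stalk x) := by
    by_contra hns
    exact hsupp x hns hxU
  exact Subsingleton.elim _ _

/-- coherence of `ℰxt^i_Z(F, G)` when the support of `F` lies in `Z` -/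
theorem isCoh_extZSh_of_support [IsLocallyNoetherian X] (U : X.Opens) (F G : X.Modules)
    (hF : Coh.IsCoh F) (hG : Coh.IsCoh G)
    (hsupp : ∀ x ∈ CohB1.support F, x ∉ (U : Set X))
    [ModSite.HasSheafHom (O := X.sheaf) F] [HasInjectiveResolutions (ModSite.Mod X.sheaf)]
    (i : ℕ) :
    Coh.IsCoh ((ModSite.extZSh (O := X.sheaf) U F i).obj G) := by
  have e := (extZShIsoOfNull (O := X.sheaf) U F (isNullOn_of_support U F hsupp) i).app G
  have hE := isCoh_extSh F G hF hG i
  haveI : ((ModSite.extSh (O := X.sheaf) F i).obj G).IsQuasicoherent := hE.1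
  have hq : Coh.IsQCoh ((ModSite.extZSh (O := X.sheaf) U F i).obj G) :=
    Groth.Agent.Helper1.QcAbel.isQuasicoherent_of_iso e.symm
  exact Groth.Agent.Helper1.FtLocal.isCoh_of_mono e.hom hE hq

end scheme

end Groth.Agent.Helper2.HomExt.ExtZ
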