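import Mathlib
import Groth.Agent.Lib.Helper3.GSS
import Groth.Agent.Lib.Helper3.SpSerre1

/-!
# Weak Serre classes and the cohomology of `RF` on `D⁺` (helper2)

If `R^pF(M)` lies in a weak Serre class `PD` for every `M` in a class `PC`, then `H^n(RF(X))` lies in
`PD` for every `X ∈ D⁺` whose cohomology objects lie in `PC` (hypercohomology spectral sequence of
helper3).
-/

set_option autoImplicit false
set_option linter.unusedSectionVars false
set_option linter.style.haveILetI false
universe w w' v v' u u'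
open CategoryTheory Limits Pretriangulated

namespace Groth.Agent.Helper2.HomExt.HyperPlus

open Groth.Agent.Helper3 Groth.Agent.Helper3.RDPlus Groth.Agent.Helper3.RDAcyc
  Groth.Agent.Helper3.RDBridge Groth.Agent.Helper3.GSS

variable {C : Type u} [Category.{v} C] [Abelian C] [HasDerivedCategory.{w} C] [EnoughInjectives C]
  {D : Type u'} [Category.{v'} D] [Abelian D] [HasDerivedCategory.{w'} D]
  (F : C ⥤ D) [F.Additive]
  (PC : ObjectProperty C) [PC.IsClosedUnderIsomorphisms]
  (PD : ObjectProperty D) [PD.IsClosedUnderIsomorphisms]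
  (hzero : ∀ M : D, IsZero M → PD M)
  (hker : ∀ {M N : D} (f : M ⟶ N), PD M → PD N → PD (kernel f))
  (hcoker : ∀ {M N : D} (f : M ⟶ N), PD M → PD N → PD (cokernel f))
  (hext : ∀ S : ShortComplex D, S.ShortExact → PD S.X₁ → PD S.X₃ → PD S.X₂)
  (hF : ∀ M : C, PC M → ∀ p : ℕ, PD ((F.rightDerived p).obj M))

include hzero hker hcoker hext hF in
theorem prop_HF_of_isGE_zero (X : DerivedCategory.Plus C) [X.IsGE 0]
    (hX : ∀ q : ℤ, PC ((PlusTrunc.Hn q).obj X)) (n : ℤ) : PD ((HF F n).obj X) := by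
  let E := (Y F X).E₂SpectralSequence
  have hneg : ∀ p q : ℤ, p < 0 → IsZero ((E.page 2 le_rfl).X (p, q)) := fun p q hp =>
    SpConv.isZero_page_of_neg_fst _ 2 le_rfl p q hp
  have hE2P : ∀ p q : ℤ, PD ((E.page 2 le_rfl).X (p, q)) := by
    intro p q
    by_cases hp : p < 0
    · exact hzero _ (hneg p q hp)
    · obtain ⟨k, rfl⟩ := Int.eq_ofNat_of_zero_le (not_lt.1 hp)
      obtain ⟨e⟩ := nonempty_pageTwoIso F X (k : ℤ) q
      exact PD.prop_of_iso (e ≪≫ ((HB F k).app _).symm).symm (hF _ (hX q) k)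
  have hInv := SpSerre.inv_base PD hzero E n 2 le_rfl hneg (fun p q _ => hE2P p q)
  exact SpSerre.prop_abut PD hzero hker hcoker hext E (SpConv.abutment (Y F X)) n 2 le_rfl
    le_rfl hInv n le_rfl (SpConv.abutment_isFinite _ n)

include hzero hker hcoker hext hF in
/-- **cohomology of `RF(X)` stays in a weak Serre class** -/
theorem prop_HF (X : DerivedCategory.Plus C)
    (hX : ∀ q : ℤ, PC ((PlusTrunc.Hn q).obj X)) (n : ℤ) : PD ((HF F n).obj X) := by
  obtain ⟨m, hm⟩ := X.2
  haveI : X.IsGE m := (DerivedCategory.Plus.isGE_ι_obj_iff X m).1 hm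
  haveI : (X⟦m⟧).IsGE 0 :=
    (DerivedCategory.Plus.TStructure.t).isGE_shift X m m 0 (by ring)
  have h' := prop_HF_of_isGE_zero F PC PD hzero hker hcoker hext hF (X⟦m⟧)
    (fun q => PC.prop_of_iso
      (((DerivedCategory.Plus.homologyFunctor C 0).shiftIso m q (q + m) (by ring)).app X).symm
      (hX (q + m))) (n - m)
  exact PD.prop_of_iso (((HS F).shiftIso m (n - m) n (by ring)).app X) h'

end Groth.Agent.Helper2.HomExt.HyperPlus
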