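import Mathlib
import Groth.Prelude.Def_Coh
import Groth.Prelude.Def_CohB1
import Groth.Prelude.Def_ModSite2
import Groth.Agent.Lib.Helper3.GSS
import Groth.Agent.Lib.Helper3.SpSerre1
import Groth.Agent.Lib.Helper3.RelExtHyp
import Groth.Agent.Lib.Helper1.CohAbel
import Groth.Agent.Lib.Helper1.QcExt
import Groth.Agent.Lib.Helper1.HProj2
import Groth.Agent.Lib.Helper5.ProperPush.CohExt
import Groth.Agent.Lib.Helper2.HomExt.ExtSec
import Groth.Agent.S0036

/-!
# Coherence of the relative Ext sheaves of a proper morphism (helper2)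

`Ext^n_f(F, G) = R^n(f_* ℋom(F, -))(G)` is coherent for `f` proper over a locally Noetherian base and
`F`, `G` coherent: Grothendieck spectral sequence `R^p f_* ℰxt^q(F, G) ⟹ Ext^{p+q}_f(F, G)`.
-/

set_option backward.isDefEq.respectTransparency.types false
set_option synthInstance.maxHeartbeats 400000
set_option maxHeartbeats 4000000
set_option autoImplicit false
set_option linter.unusedSectionVars false
set_option linter.style.haveILetI false
universe u
open CategoryTheory CategoryTheory.Limits AlgebraicGeometry Opposite TopologicalSpace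

namespace Groth.Agent.Helper2.HomExt.RelExtCoh

variable {X Y : Scheme.{u}}

/-- the category of modules, in its site-level incarnation -/
abbrev 𝒜s (X : Scheme.{u}) := ModSite.Mod X.sheaf

/-- `ℋom(F, Q)` is `f_*`-acyclic for `Q` injective (after helper3's `RelExtHyp.hyp`) -/
theorem isZero_rpush_sheafHom_injective (f : X ⟶ Y) (F : X.Modules)
    [ModSite.HasSheafHom (O := X.sheaf) F] [HasInjectiveResolutions X.Modules]
    (Q : ModSite.Mod X.sheaf) [Injective Q] (q : ℕ) (hq : 0 < q) :
    IsZero ((Coh.Rpush f q).obj ((ModSite.sheafHom (O := X.sheaf) F).obj Q)) := by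
  obtain ⟨m, rfl⟩ : ∃ m, q = m + 1 := ⟨q - 1, by omega⟩
  have h1 : CohCx.IsTotallyAcyclic
      (ModSite.toAb ((ModSite.sheafHom (O := X.sheaf) F).obj Q)) :=
    Groth.Agent.S6150.result X.sheaf F Q
  have h3 := Groth.Agent.S0865.result (Opens.grothendieckTopology X)
    (Opens.grothendieckTopology Y) (TopologicalSpace.Opens.map f.base) _ h1 m
  apply Groth.Agent.Helper1.RpushComp.isZero_of_toAb
  obtain ⟨e⟩ := Groth.Agent.Helper1.RpushComp.nonempty_iso f
    ((ModSite.sheafHom (O := X.sheaf) F).obj Q) (m + 1)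
  exact IsZero.of_iso h3 e

open Groth.Agent.Helper1 in
open scoped ZeroObject in
/-- **the relative Ext sheaves of coherent modules along a proper morphism to a locally Noetherian
scheme are coherent** -/
theorem isCoh_relExt_of_proper [IsLocallyNoetherian Y] (f : X ⟶ Y) [IsProper f]
    (F G : X.Modules) (hF : Coh.IsCoh F) (hG : Coh.IsCoh G)
    [ModSite.HasSheafHom (O := X.sheaf) F] [HasInjectiveResolutions (ModSite.Mod X.sheaf)]
    [(ModSite.sheafHom (O := X.sheaf) F ⋙ Scheme.Modules.pushforward f).Additive] (n : ℕ) :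
    Coh.IsCoh (((ModSite.sheafHom (O := X.sheaf) F ⋙
      Scheme.Modules.pushforward f).rightDerived n).obj G) := by
  haveI : IsLocallyNoetherian X := isLocallyNoetherian_of_locallyOfFiniteType f
  haveI hIR : HasInjectiveResolutions X.Modules :=
    ‹HasInjectiveResolutions (ModSite.Mod X.sheaf)›
  let T : 𝒜s X ⥤ 𝒜s X := ModSite.sheafHom (O := X.sheaf) F
  let S : 𝒜s X ⥤ Y.Modules := Scheme.Modules.pushforward f
  haveI : T.Additive := inferInstanceAs (ModSite.sheafHom (O := X.sheaf) F).Additive
  haveI : S.Additive := inferInstanceAs (Scheme.Modules.pushforward f).Additive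
  haveI : PreservesFiniteLimits S := by
    haveI : PreservesLimits (Scheme.Modules.pushforward f) :=
      (Scheme.Modules.pullbackPushforwardAdjunction f).rightAdjoint_preservesLimits
    exact inferInstanceAs (PreservesFiniteLimits (Scheme.Modules.pushforward f))
  have hT : ∀ Q : 𝒜s X, Injective Q → ∀ q : ℕ, 0 < q →
      IsZero ((S.rightDerived q).obj (T.obj Q)) := by
    intro Q hQ q hq
    haveI := hQ
    exact isZero_rpush_sheafHom_injective f F Q q hq
  obtain ⟨E, a, hfin, -, hE2⟩ := Groth.Agent.Helper3.GSS.main' T S hT G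
  let P : ObjectProperty Y.Modules := fun M => Coh.IsCoh M
  haveI : P.IsClosedUnderIsomorphisms := ⟨fun {M N} e h => by
    haveI : M.IsQuasicoherent := h.1
    have hq : Coh.IsQCoh N := QcAbel.isQuasicoherent_of_iso e
    exact FtLocal.isCoh_of_mono e.inv h hq⟩
  have hzero : ∀ M : Y.Modules, IsZero M → P M := fun M hM =>
    Groth.Agent.Lib.Helper5.CohExt.isCoh_of_isZero M hM
  have hker : ∀ {M N : Y.Modules} (g : M ⟶ N), P M → P N → P (kernel g) :=
    fun g hM hN => FtLocal.isCoh_kernel hM hN g
  have hcoker : ∀ {M N : Y.Modules} (g : M ⟶ N), P M → P N → P (cokernel g) :=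
    fun g hM hN => FtLocal.isCoh_cokernel hM hN g
  have hext : ∀ S' : ShortComplex Y.Modules, S'.ShortExact → P S'.X₁ → P S'.X₃ → P S'.X₂ := by
    intro S' hS' h1 h3
    haveI : S'.X₁.IsQuasicoherent := h1.1
    haveI : S'.X₃.IsQuasicoherent := h3.1
    exact Groth.Agent.Lib.Helper5.CohExt.isCoh_of_shortExact hS' h1 h3
      (QcExt.isQuasicoherent_mid hS')
  have hE2P : ∀ p q : ℤ, P ((E.page 2 le_rfl).X (p, q)) := by
    intro p q
    obtain ⟨e⟩ := hE2 p q
    refine P.prop_of_iso e.symm ?_
    split_ifs with h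
    · exact Groth.Agent.S0036.result f _ (isCoh_extSh F G hF hG q.toNat) p.toNat
    · exact hzero _ (isZero_zero _)
  have hneg : ∀ p q : ℤ, p < 0 → IsZero ((E.page 2 le_rfl).X (p, q)) := by
    intro p q hp
    obtain ⟨e⟩ := hE2 p q
    have hn : ¬ (0 ≤ p ∧ 0 ≤ q) := by omega
    rw [if_neg hn] at e
    exact IsZero.of_iso (isZero_zero _) e
  have hInv := Groth.Agent.Helper3.SpSerre.inv_base P hzero E (n : ℤ) 2 le_rfl hneg
    (fun p q _ => hE2P p q)
  have hab := Groth.Agent.Helper3.SpSerre.prop_abut P hzero hker hcoker hext E a (n : ℤ) 2 le_rfl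
    le_rfl hInv (n : ℤ) le_rfl (hfin n)
  have hn0 : (0 : ℤ) ≤ (n : ℤ) := Int.natCast_nonneg n
  simp only [if_pos hn0, Int.toNat_natCast] at hab
  exact hab

end Groth.Agent.Helper2.HomExt.RelExtCoh
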