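import Mathlib
import Groth.Agent.Lib.Helper4.KrrF
import Groth.Agent.Lib.Helper4.KrrJ
import Groth.Agent.Lib.Helper5.ProperPush.ModLeray
import Groth.Agent.Lib.Helper5.ProjF.PiCx
import Groth.Agent.Lib.Helper1.FinPush
import Groth.Agent.Lib.Helper3.ModGroth
import Groth.Agent.Lib.Lead.PBQc
import Groth.Agent.Lib.Helper1.TildeTens
import Groth.Agent.Lib.Helper2.HomExt.ExtSec

/-!
# Relative Serre vanishing for a closed subscheme of `P^m_Z`, at the level of modules (helper2)
-/

set_option backward.isDefEq.respectTransparency.types false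
set_option synthInstance.maxHeartbeats 400000
set_option maxHeartbeats 4000000
set_option autoImplicit false
set_option linter.unusedSectionVars false
set_option linter.style.haveILetI false
universe u

open CategoryTheory CategoryTheory.Limits AlgebraicGeometry TopologicalSpace Opposite

namespace Groth.Agent.Helper2.HomExt.RelSerreCl

open Groth.Agent.Lib.Helper5 Groth.Agent.Lib.Helper4 Groth.Agent.Helper1

theorem hasInjectiveResolutions (X : Scheme.{u}) : HasInjectiveResolutions X.Modules := by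
  haveI : IsGrothendieckAbelian.{u} X.Modules :=
    Groth.Agent.Helper3.ModGroth.isGrothendieckAbelian _ X.ringCatSheaf
  haveI : EnoughInjectives X.Modules := IsGrothendieckAbelian.enoughInjectives.{u}
  infer_instance

variable (Z : Scheme.{u}) [IsNoetherian Z] (m : ℕ)

/-- Serre vanishing on `P^m_Z`, at the level of modules -/
theorem exists_isZero_rpush_twF [HasInjectiveResolutions (KRR.PY m Z).Modules]
    (F : (KRR.PY m Z).Modules) (hF : Coh.IsCoh F) :
    ∃ l₀ : ℕ, ∀ l : ℕ, l₀ ≤ l → ∀ a : ℕ, 0 < a →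
      IsZero ((Coh.Rpush (KRR.pr m Z) a).obj (KRR.twF m Z (l : ℤ) F)) := by
  haveI : F.IsQuasicoherent := hF.1
  obtain ⟨l₀, h⟩ := KrrF.exists_isRegSheaf_twF m Z F hF
  refine ⟨l₀, fun l hl a ha => ?_⟩
  apply RpushComp.isZero_of_toAb
  obtain ⟨e⟩ := RpushComp.nonempty_iso (KRR.pr m Z) (KRR.twF m Z (l : ℤ) F) a
  exact IsZero.of_iso (KrrD.isZero_rpushAb_of_isRegSheaf m Z _ (h l hl) a ha) e

/-- Serre vanishing for a closed subscheme `e' : Y ↪ P^m_Z`, relative to `Z` -/
theorem exists_isZero_rpush_clImm (Y : Scheme.{u}) (e' : Y ⟶ KRR.PY m Z) [IsClosedImmersion e']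
    [HasInjectiveResolutions Y.Modules] [HasInjectiveResolutions (KRR.PY m Z).Modules]
    (C : Y.Modules) (hC : Coh.IsCoh C) :
    ∃ l₀ : ℕ, ∀ l : ℕ, l₀ ≤ l → ∀ a : ℕ, 0 < a →
      IsZero ((Coh.Rpush (e' ≫ KRR.pr m Z) a).obj
        (CohB1.tensorMod C ((Scheme.Modules.pullback e').obj (Twist.twistOver m Z (l : ℤ))))) := by
  haveI : IsLocallyNoetherian (KRR.PY m Z) :=
    Groth.Agent.Helper2.HomExt.isLocallyNoetherian_of_locallyOfFiniteType (KRR.pr m Z)
  have hpush : Coh.IsCoh ((Scheme.Modules.pushforward e').obj C) :=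
    FinPush.isCoh_pushforward e' C hC
  obtain ⟨l₀, h⟩ := exists_isZero_rpush_twF Z m _ hpush
  refine ⟨l₀, fun l hl a ha => ?_⟩
  haveI : C.IsQuasicoherent := hC.1
  haveI : (Twist.twistOver m Z (l : ℤ)).IsQuasicoherent := (KrrJ.isCoh_twistOver m Z (l : ℤ)).1
  haveI : ((Scheme.Modules.pullback e').obj (Twist.twistOver m Z (l : ℤ))).IsQuasicoherent :=
    Groth.Agent.Lead.PB.isQuasicoherent_pullback _ _
  haveI : (CohB1.tensorMod C
      ((Scheme.Modules.pullback e').obj (Twist.twistOver m Z (l : ℤ)))).IsQuasicoherent :=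
    Groth.Agent.Lead.TilT.isQuasicoherent_tensorMod _ _
  obtain ⟨e1⟩ := ModLeray.nonempty_rpush_comp e' (KRR.pr m Z)
    (CohB1.tensorMod C ((Scheme.Modules.pullback e').obj (Twist.twistOver m Z (l : ℤ)))) a
  refine IsZero.of_iso ?_ e1
  have e2 := ProjF.piIso e' C (Twist.twistOver m Z (l : ℤ))
  have e3 := TildeTens.tensorModComm ((Scheme.Modules.pushforward e').obj C)
    (Twist.twistOver m Z (l : ℤ))
  exact IsZero.of_iso (h l hl a ha) ((Coh.Rpush (KRR.pr m Z) a).mapIso (e2 ≪≫ e3))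

end Groth.Agent.Helper2.HomExt.RelSerreCl
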