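import Mathlib
import Groth.Agent.Lib.Helper2.HomExt.RelSerreCl
import Groth.Agent.Lib.Helper2.HomExt.RelExtProj
import Groth.Agent.Lib.Helper2.HomExt.RelExtCoh
import Groth.Agent.Lib.Helper3.SpVan
import Groth.Agent.Lib.Helper1.PullGen2
import Groth.Agent.Lib.Helper1.InvInv2
import Groth.Agent.Lib.Helper1.HProj2
import Groth.Agent.S16283

/-!
# `g_* Ext^p_f(F, G(l)) ≅ Ext^p_{gf}(F, G(l))` for large `l` (helper2)

Degeneration of the composite-functor spectral sequence for the relative Ext sheaves after a large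
twist, by relative Serre vanishing.
-/

set_option backward.isDefEq.respectTransparency.types false
set_option synthInstance.maxHeartbeats 400000
set_option maxHeartbeats 4000000
set_option autoImplicit false
set_option linter.unusedSectionVars false
set_option linter.style.haveILetI false
universe u

open CategoryTheory CategoryTheory.Limits AlgebraicGeometry TopologicalSpace Opposite
open Coherent

namespace Groth.Agent.Helper2.HomExt.RelExtTwist

open Groth.Agent.Helper2.HomExt.RelExtProj Groth.Agent.Lib.Helper4 Groth.Agent.Helper1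

section degenerate

variable {X Y Z : Scheme.{u}} (f : X ⟶ Y) (g : Y ⟶ Z) (F : X.Modules)
  [ModSite.HasSheafHom (O := X.sheaf) F] [HasInjectiveResolutions (ModSite.Mod X.sheaf)]
  [HasInjectiveResolutions Y.Modules]
  [(ModSite.sheafHom (O := X.sheaf) F ⋙ Scheme.Modules.pushforward f).Additive]
  [(ModSite.sheafHom (O := X.sheaf) F ⋙ Scheme.Modules.pushforward (f ≫ g)).Additive]

/-- degeneration: if `R^a g_*(Ext^b_f(F, A)) = 0` for `a > 0` and `b < p` then
`g_* Ext^p_f(F, A) ≅ Ext^p_{gf}(F, A)` -/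
theorem nonempty_push_relExt_iso (A : X.Modules) (p : ℕ)
    (hz : ∀ a b : ℕ, 0 < a → b < p → IsZero ((Coh.Rpush g a).obj
      (((ModSite.sheafHom (O := X.sheaf) F ⋙ Scheme.Modules.pushforward f).rightDerived b).obj
        A))) :
    Nonempty ((Scheme.Modules.pushforward g).obj
        (((ModSite.sheafHom (O := X.sheaf) F ⋙ Scheme.Modules.pushforward f).rightDerived p).obj
          A) ≅
      ((ModSite.sheafHom (O := X.sheaf) F ⋙
        Scheme.Modules.pushforward (f ≫ g)).rightDerived p).obj A) := by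
  obtain ⟨E, ab, hfin, -, hE2⟩ := Groth.Agent.S16283.result X Y Z f g F A
  have hzero : ∀ a b : ℤ, (a < 0 ∨ (0 < a ∧ b < p)) → IsZero ((E.page 2 le_rfl).X (a, b)) := by
    intro a b hab
    obtain ⟨e⟩ := hE2 a b
    by_cases h : 0 ≤ a ∧ 0 ≤ b
    · rw [if_pos h] at e
      refine IsZero.of_iso ?_ e
      obtain ⟨a', rfl⟩ := Int.eq_ofNat_of_zero_le h.1
      obtain ⟨b', rfl⟩ := Int.eq_ofNat_of_zero_le h.2
      simp only [Int.toNat_natCast]
      exact hz a' b' (by omega) (by omega)
    · rw [if_neg h] at e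
      exact IsZero.of_iso (isZero_zero _) e
  have hst : SpSeq.StationaryAt E ((0 : ℤ), (p : ℤ) - 0) 2 := by
    refine Groth.Agent.Helper3.SpVan.stationaryAt_of_isZero E 2 le_rfl _ (fun r' hr' => ?_)
      (fun r' hr' => ?_)
    · refine hzero _ _ (Or.inl ?_)
      change (0 : ℤ) - r' < 0
      omega
    · refine hzero _ _ (Or.inr ⟨?_, ?_⟩)
      · change (0 : ℤ) < 0 + r'
        omega
      · change ((p : ℤ) - 0) + (1 - r') < p
        omega
  obtain ⟨e1⟩ := Groth.Agent.Helper3.SpVan.iso_single E ab 2 le_rfl (p : ℤ) 0 (hfin p)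
    (fun p' hp' => hzero _ _ (by
      rcases lt_or_gt_of_ne hp' with h | h
      · exact Or.inl h
      · exact Or.inr ⟨h, by omega⟩)) hst
  obtain ⟨e2⟩ := hE2 0 ((p : ℤ) - 0)
  rw [if_pos ⟨le_rfl, by omega⟩] at e2
  have h0 : (0 : ℤ) ≤ (p : ℤ) := Int.natCast_nonneg p
  rw [if_pos h0] at e1
  rw [sub_zero] at e1 e2
  rw [Int.toNat_natCast] at e1 e2
  haveI : PreservesFiniteLimits (Scheme.Modules.pushforward g) := by
    haveI : PreservesLimits (Scheme.Modules.pushforward g) :=
      (Scheme.Modules.pullbackPushforwardAdjunction g).rightAdjoint_preservesLimits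
    infer_instance
  have e3 := (Functor.rightDerivedZeroIsoSelf (Scheme.Modules.pushforward g)).app
    (((ModSite.sheafHom (O := X.sheaf) F ⋙ Scheme.Modules.pushforward f).rightDerived p).obj A)
  exact ⟨e3.symm ≪≫ e2.symm ≪≫ e1.symm⟩

end degenerate

/-- **`g_* Ext^p_f(F, G ⊗ f^*O_Y(l)) ≅ Ext^p_{gf}(F, G ⊗ f^*O_Y(l))` for `l ≫ 0`** -/
theorem exists_push_relExt_twist_iso (Z : Scheme.{u}) [IsNoetherian Z] (m : ℕ)
    (Y : Scheme.{u}) (e' : Y ⟶ CohB1.ProjSpaceOver m Z) [IsClosedImmersion e']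
    (X : Scheme.{u}) (f : X ⟶ Y) [IsProper f]
    (F G : X.Modules) (hF : Coh.IsCoh F) (hG : Coh.IsCoh G) (p : ℕ)
    [ModSite.HasSheafHom (O := X.sheaf) F] [HasInjectiveResolutions (ModSite.Mod X.sheaf)]
    [(ModSite.sheafHom (O := X.sheaf) F ⋙ Scheme.Modules.pushforward f).Additive]
    [(ModSite.sheafHom (O := X.sheaf) F ⋙
      Scheme.Modules.pushforward (f ≫ e' ≫ CohB1.ProjSpaceOver.toBase m Z)).Additive] :
    ∃ l₀ : ℕ, ∀ l : ℕ, l₀ ≤ l →
      Nonempty ((Scheme.Modules.pushforward (e' ≫ CohB1.ProjSpaceOver.toBase m Z)).obj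
          (((ModSite.sheafHom (O := X.sheaf) F ⋙ Scheme.Modules.pushforward f).rightDerived p).obj
          (CohB1.tensorMod G ((Scheme.Modules.pullback f).obj
            ((Scheme.Modules.pullback e').obj (Twist.twistOver m Z (l : ℤ)))))) ≅
        ((ModSite.sheafHom (O := X.sheaf) F ⋙
          Scheme.Modules.pushforward (f ≫ e' ≫ CohB1.ProjSpaceOver.toBase m Z)).rightDerived p).obj
          (CohB1.tensorMod G ((Scheme.Modules.pullback f).obj
            ((Scheme.Modules.pullback e').obj (Twist.twistOver m Z (l : ℤ)))))) := by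
  haveI := RelSerreCl.hasInjectiveResolutions Y
  haveI := RelSerreCl.hasInjectiveResolutions (KRR.PY m Z)
  haveI : IsLocallyNoetherian Y :=
    Groth.Agent.Helper2.HomExt.isLocallyNoetherian_of_locallyOfFiniteType
      (e' ≫ CohB1.ProjSpaceOver.toBase m Z)
  have hC : ∀ b : ℕ, Coh.IsCoh (((ModSite.sheafHom (O := X.sheaf) F ⋙
      Scheme.Modules.pushforward f).rightDerived b).obj G) :=
    fun b => RelExtCoh.isCoh_relExt_of_proper f F G hF hG b
  choose L hL using fun b : ℕ => RelSerreCl.exists_isZero_rpush_clImm Z m Y e' _ (hC b)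
  refine ⟨(Finset.range p).sup L, fun l hl => ?_⟩
  apply nonempty_push_relExt_iso f (e' ≫ CohB1.ProjSpaceOver.toBase m Z) F _ p
  intro a b ha hb
  have hN : FlatMod.IsFinLocFree ((Scheme.Modules.pullback e').obj
      (Twist.twistOver m Z (l : ℤ))) :=
    InvInv2.isFinLocFree_of_isInvertible
      (PullGen.isInvertible_pullback e' (KrrJ.isInvertible_twistOver m Z (l : ℤ)))
  obtain ⟨e1⟩ := nonempty_relExt_tensor_pullback_iso f F _ hN G b
  refine IsZero.of_iso ?_ ((Coh.Rpush (e' ≫ CohB1.ProjSpaceOver.toBase m Z) a).mapIso e1)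
  exact hL b l (le_trans (Finset.le_sup (Finset.mem_range.2 hb)) hl) a ha

end Groth.Agent.Helper2.HomExt.RelExtTwist
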