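import Mathlib
import Groth.Agent.Lib.Helper2.HomExt.Bridge
import Groth.Agent.Lib.Helper2.HomExt.DepthHom
import Groth.Agent.Lib.Lead.RH4
import Groth.Agent.Lib.Helper1.FpLocal
import Groth.Agent.Lib.Helper7.CohStalk.Finite

/-!
# Stalks of the abstract sheaf Hom of coherent modules (helper2)

`((DCoh.sheafHom F).obj G)_x ≃ Hom_{O_x}(F_x, G_x)` for `F` coherent on a locally Noetherian scheme,
with the consequences for depth and support dimension.
-/

set_option autoImplicit false
set_option linter.style.haveILetI false
universe u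

open CategoryTheory CategoryTheory.Limits AlgebraicGeometry TopologicalSpace Opposite

namespace Groth.Agent.Helper2.HomExt

variable {X : Scheme.{u}}

/-- the stalk of the abstract sheaf Hom is the module of maps of the stalks -/
noncomputable def stalkSheafHomEquiv [IsLocallyNoetherian X] (F G : X.Modules) (hF : Coh.IsCoh F)
    [G.IsQuasicoherent] [DCoh.HasSheafHom F] (x : X) :
    ((DCoh.sheafHom F).obj G).presheaf.stalk x ≃ₗ[X.presheaf.stalk x]
      (F.presheaf.stalk x →ₗ[X.presheaf.stalk x] G.presheaf.stalk x) :=
  (LinearEquiv.ofBijective (RefHull.stalkMapₗ (sheafHomIso F G).hom x)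
    (Groth.Agent.Lead.RH.stalkMapₗ_bijective_of_isIso _ x)).trans
    (Groth.Agent.Lead.RH.evalEquiv (Groth.Agent.Helper1.FpLocal.isFP_of_isCoh F hF) x)

end Groth.Agent.Helper2.HomExt
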